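import Cfsg.Agent.Lib.U3Cent.Model
import Cfsg.Agent.Lib.Fusion.PSUSplit

/-!
# The split form and the sum form give isomorphic unitary groups of a plane
-/

set_option autoImplicit false

namespace CfsgLib.U3Cent

open Matrix CfsgLib.PSUBorel

variable {F : Type*} [Field F] [Fintype F] (c : Conj F)

theorem mem_GU_iff (g : GL (Fin 2) F) : g ∈ Cfsg.GU 2 F c.q ↔ g.1ᵀ * g.1.map c.σ = 1 := by
  constructor
  · intro h
    ext a b
    have e := h (Pi.single a 1) (Pi.single b 1)
    change Cfsg.hermForm 2 F c.q (g.1 *ᵥ _) (g.1 *ᵥ _) = _ at e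
    simp only [hermForm_eq, Matrix.mulVec_single_one, Matrix.col_apply, single_dotProduct, one_mul] at e
    rw [Matrix.mul_apply]
    simp only [Matrix.transpose_apply, Matrix.map_apply]
    exact e.trans (by simp [Pi.single_apply, Matrix.one_apply, apply_ite c.σ])
  · intro h u v
    change Cfsg.hermForm 2 F c.q (g.1 *ᵥ u) (g.1 *ᵥ v) = _
    rw [hermForm_eq, hermForm_eq, map_mulVec', Matrix.dotProduct_mulVec, ← Matrix.vecMul_transpose,
      Matrix.vecMul_vecMul, h, Matrix.vecMul_one]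

/-- The two unitary groups are isomorphic. -/
theorem exists_equiv : Nonempty (W c ≃* Cfsg.GU 2 F c.q) := by
  obtain ⟨M, hM⟩ := exists_split c (n := 2)
  have hu : IsUnit M.det := by
    refine IsUnit.of_mul_eq_one ((M.map c.σ)ᵀ.det * (aJ F 2).det) ?_
    rw [← mul_assoc, ← Matrix.det_mul, hM, ← Matrix.det_mul, aJ_sq, Matrix.det_one]
  obtain ⟨u, hu'⟩ : IsUnit M := (Matrix.isUnit_iff_isUnit_det M).mpr hu
  have hNM : u⁻¹.1 * M = 1 := by rw [← hu', Units.inv_mul]
  let E : GL (Fin 2) F ≃* GL (Fin 2) F := MulAut.conj u⁻¹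
  have hE : ∀ g : GL (Fin 2) F, (E g).1 = u⁻¹.1 * g.1 * M := fun g => by
    simp [E, MulAut.conj_apply, hu']
  have hmap : (W c).map E.toMonoidHom = Cfsg.GU 2 F c.q := by
    ext g
    rw [mem_GU_iff]
    constructor
    · rintro ⟨x, hx, rfl⟩
      have h := (cond_iff c hM hNM x.1).mp hx
      rw [← hE] at h
      exact h
    · intro h
      refine ⟨E.symm g, ?_, E.apply_symm_apply g⟩
      show Cond c (E.symm g).1
      rw [cond_iff c hM hNM, ← hE, E.apply_symm_apply]
      exact h
  exact ⟨(E.subgroupMap (W c)).trans (MulEquiv.subgroupCongr hmap)⟩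

/-- The order of the unitary group. -/
theorem card_W : Nat.card (W c) = c.q * ((c.q + 1) * (c.q ^ 2 - 1)) := by
  obtain ⟨e⟩ := exists_equiv c
  rw [Nat.card_congr e.toEquiv, UnitaryOrder.card_GU c.card 2, Finset.prod_range_succ, Finset.prod_range_succ,
    Finset.prod_range_zero, one_mul, if_pos (by exact ⟨0, rfl⟩ : Even 0), if_neg (by decide : ¬ Even 1)]
  ring_nf

end CfsgLib.U3Cent
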