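import Cfsg.Agent.Lib.U3Cent.KillFive
import Cfsg.Agent.Lib.GU2Cent.Order

/-!
The index of the involution centraliser is `q² (q² - q + 1)`, once the defining prime is known to divide it
to at least the power `q²` when it divides it at all.
-/

set_option autoImplicit false
set_option linter.unusedSectionVars false
set_option linter.style.haveILetI false

namespace CfsgLib.U3Cent

open CfsgLib.PSUBorel CfsgLib.GUTwoSylow

universe u v

variable {G : Type u} [Group G] {F : Type v} [Field F] [Fintype F] {c : Conj F}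

namespace Hyp

variable {f : W c →* G} (hf : Hyp c f)
include hf

/-- The same data in the orthonormal form. -/
theorem exists_guHyp : ∃ (f' : ↥(Cfsg.GU 2 F c.q) →* G) (zT uT : Cfsg.GU 2 F c.q),
    GU2Cent.GUHyp f' zT uT ∧ f' zT = tt f := by
  obtain ⟨e⟩ := exists_equiv c
  set z := e neg with hz
  have hzc : ∀ g, g * z = z * g := fun g => by
    obtain ⟨w, rfl⟩ := e.surjective g
    rw [hz, ← map_mul, ← map_mul, neg_scal.comm]
  have hz2 : z * z = 1 := by rw [hz, ← map_mul, neg_sq, map_one]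
  have hz1 : z ≠ 1 := fun h => neg_ne hf.odd ((MulEquiv.map_eq_one_iff e).mp h)
  let uT : Cfsg.GU 2 F c.q := ⟨reflM, neg_one_mem c.card hf.odd⟩
  let sw : Cfsg.GU 2 F c.q := ⟨swapM, swapM_mem c.card⟩
  have hu := congrArg (fun g : Cfsg.GU 2 F c.q => g.1.1) (hzc uT)
  have hs := congrArg (fun g : Cfsg.GU 2 F c.q => g.1.1) (hzc sw)
  have h01 : z.1.1 0 1 = 0 := by
    have h := congrFun (congrFun hu 0) 1
    simp [uT, reflM, Matrix.mul_apply, Fin.sum_univ_two] at h
    exact mul_left_cancel₀ hf.two_ne' (by linear_combination h)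
  have h10 : z.1.1 1 0 = 0 := by
    have h := congrFun (congrFun hu 1) 0
    simp [uT, reflM, Matrix.mul_apply, Fin.sum_univ_two] at h
    exact mul_left_cancel₀ hf.two_ne' (by linear_combination -h)
  have h11 : z.1.1 1 1 = z.1.1 0 0 := by
    have h := congrFun (congrFun hs 0) 1
    simpa [sw, swapM, Matrix.mul_apply, Fin.sum_univ_two] using h
  have hsq : z.1.1 0 0 * z.1.1 0 0 = 1 := by
    have := congrArg (fun g : Cfsg.GU 2 F c.q => g.1.1 0 0) hz2
    simpa [Matrix.mul_apply, Fin.sum_univ_two, h01, h10] using this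
  have hneg : z.1.1 0 0 = -1 := (mul_self_eq_one_iff.mp hsq).resolve_left fun h => hz1 (by
    refine Subtype.ext (Units.ext ?_)
    ext i j; fin_cases i <;> fin_cases j <;> simp [h01, h10, h11, h])
  refine ⟨f.comp e.symm.toMonoidHom, z, uT, ⟨c.card, hf.odd, ?_, rfl, ?_, ?_, ?_⟩, by simp [hz, tt]⟩
  · refine Units.ext ?_
    rw [diagHom_val]
    ext i j; fin_cases i <;> fin_cases j <;> simp [h01, h10, h11, hneg]
  · rw [show (f.comp e.symm.toMonoidHom) z = tt f by simp [hz, tt], ← hf.range,
      MonoidHom.range_comp, MonoidHom.range_eq_top.mpr e.symm.surjective, ← MonoidHom.range_eq_map]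
  · intro g hg
    refine Subgroup.mem_center_iff.mpr fun y => ?_
    have h := (hf.kers (e.symm g) (f.mem_ker.mpr hg)).comm (e.symm y)
    rw [← map_mul, ← map_mul] at h
    exact (e.symm.injective h).symm
  · have h : (f.comp e.symm.toMonoidHom).ker = f.ker.map e.toMonoidHom := by
      ext g
      rw [Subgroup.mem_map_equiv]
      rfl
    rw [h, Subgroup.card_map_of_injective (show Function.Injective e.toMonoidHom from e.injective)]
    exact hf.kero

variable [Finite G] [IsSimpleGroup G]

/-- The index of the centraliser. -/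
theorem index_eq {p n : ℕ} [hp : Fact p.Prime] (hn : n ≠ 0) (hq : c.q = p ^ n)
    (hpM : p ∣ (Subgroup.centralizer ({tt f} : Set G)).index →
      c.q ^ 2 ∣ (Subgroup.centralizer ({tt f} : Set G)).index) :
    (Subgroup.centralizer ({tt f} : Set G)).index = c.q ^ 2 * (c.q ^ 2 - c.q + 1) := by
  obtain ⟨f', zT, uT, hgu, hz⟩ := hf.exists_guHyp
  obtain ⟨hodd, h3, h1⟩ := hgu.index_cases hq hn
  rw [hz] at hodd h3 h1
  set M := (Subgroup.centralizer ({tt f} : Set G)).index with hM
  have hq3 := one_lt_q (c := c) hf.odd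
  rcases (show c.q % 4 = 1 ∨ c.q % 4 = 3 by have := Nat.odd_iff.mp hf.odd; omega) with h4 | h4
  swap
  · exact h3 h4
  obtain ⟨B, C, hB, hB1, hC, heq⟩ := h1 h4
  have key := GU2Cent.Arith.qd_index5 (M := (M : ℤ)) hp.out (Nat.one_le_iff_ne_zero.mpr hn)
    (show (c.q : ℤ) = (p : ℤ) ^ n by rw [hq]; push_cast; rfl) (by omega)
    (by exact_mod_cast hf.odd) (by exact_mod_cast hodd) hB hB1 hC heq
    (fun h => by exact_mod_cast hpM (Int.natCast_dvd_natCast.mp h))
    (fun l hl hl2 hd hdM => hf.split_not_dvd h4 hodd hl hl2 (by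
      have h : (l : ℤ) ∣ ((c.q - 1 : ℕ) : ℤ) := by
        rw [Nat.cast_sub (show 1 ≤ c.q by omega)]; simpa using hd
      exact Int.natCast_dvd_natCast.mp h) (Int.natCast_dvd_natCast.mp hdM))
  rcases key with h | ⟨h5, h⟩
  · have h' : (M : ℤ) = ((c.q ^ 2 * (c.q ^ 2 - c.q + 1) : ℕ) : ℤ) := by
      rw [h]
      push_cast [Nat.cast_sub (show c.q ≤ c.q ^ 2 from Nat.le_self_pow two_ne_zero c.q)]
      rfl
    exact_mod_cast h'
  · exact absurd (by exact_mod_cast h) (hf.not_five (by exact_mod_cast h5))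

end Hyp

end CfsgLib.U3Cent
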