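import Cfsg.Agent.Lib.U3Cent.Lift

/-!
# Matrices inducing translations, the torus and the involution on the isotropic points

Rows are acted on from the right: `TM A b` sends `(A', b')` to `(A + A' - σ b * b', b + b')`, `DM a e` sends
`(A, b)` to `(a σa A, e σa b)`, `JM s` sends `(A, b)` to `(1 / A, s b / A)` and exchanges `∞` with `(0, 0)`.
-/

set_option autoImplicit false
set_option linter.unusedSectionVars false

namespace CfsgLib.U3Cent

open Matrix CfsgLib.PSUBorel

variable {F : Type*} [Field F] [Fintype F] (c : Conj F)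

/-- A translation. -/
def TM (A b : F) : Matrix (Fin 3) (Fin 3) F := !![1, 0, 0; -c.σ b, 1, 0; A, b, 1]

/-- An element of the torus. -/
def DM (a e : F) : Matrix (Fin 3) (Fin 3) F := !![a, 0, 0; 0, e, 0; 0, 0, (c.σ a)⁻¹]

/-- The involution. -/
def JM (s : F) : Matrix (Fin 3) (Fin 3) F := !![0, 0, 1; 0, s, 0; 1, 0, 0]

variable {c}

theorem cond_TM {A b : F} (h : A + c.σ A + b * c.σ b = 0) : Cond c (TM c A b) := by
  show TM c A b * aJ F 3 * ((TM c A b).map c.σ)ᵀ = aJ F 3
  ext i j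
  rw [Matrix.mul_apply, Fin.sum_univ_three, mul_aJ, mul_aJ, mul_aJ, Matrix.transpose_apply,
    Matrix.transpose_apply, Matrix.transpose_apply]
  fin_cases i <;> fin_cases j <;>
    simp [TM, aJ, Fin.rev, Conj.invol]
  linear_combination h

theorem cond_DM {a e : F} (ha : a ≠ 0) (he : e * c.σ e = 1) : Cond c (DM c a e) := by
  have hs : c.σ a ≠ 0 := (map_ne_zero c.σ).mpr ha
  show DM c a e * aJ F 3 * ((DM c a e).map c.σ)ᵀ = aJ F 3
  ext i j
  rw [Matrix.mul_apply, Fin.sum_univ_three, mul_aJ, mul_aJ, mul_aJ, Matrix.transpose_apply,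
    Matrix.transpose_apply, Matrix.transpose_apply]
  fin_cases i <;> fin_cases j <;>
    simp [DM, aJ, Fin.rev, Conj.invol, map_inv₀, he, ha, hs]

theorem cond_JM {s : F} (hs : s * c.σ s = 1) : Cond c (JM s) := by
  show JM s * aJ F 3 * ((JM s).map c.σ)ᵀ = aJ F 3
  ext i j
  rw [Matrix.mul_apply, Fin.sum_univ_three, mul_aJ, mul_aJ, mul_aJ, Matrix.transpose_apply,
    Matrix.transpose_apply, Matrix.transpose_apply]
  fin_cases i <;> fin_cases j <;>
    simp [JM, aJ, Fin.rev, hs]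

variable {G : Type*} [Group G] {Ω : Type*} [MulAction G Ω] {pt : IPt c → Ω} {g : G}

/-- A criterion for fixers of `∞` acting by an affine map. -/
theorem induces_TM {A b : F} (h0 : g • pt none = pt none)
    (h : ∀ x : {x : F × F // x.1 + c.σ x.1 + x.2 * c.σ x.2 = 0},
      ∃ y : {x : F × F // x.1 + c.σ x.1 + x.2 * c.σ x.2 = 0},
        y.1 = (A + x.1.1 - c.σ b * x.1.2, b + x.1.2) ∧ g • pt (some x) = pt (some y)) :
    Induces pt (TM c A b) g := by
  rintro (_ | x)
  · exact ⟨1, none, one_ne_zero, h0, by ext i; fin_cases i <;> simp [vec, TM, Matrix.vecMul, dotProduct, Fin.sum_univ_three]⟩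
  · obtain ⟨y, hy, e⟩ := h x
    refine ⟨1, some y, one_ne_zero, e, ?_⟩
    ext i
    fin_cases i <;> simp [vec, TM, Matrix.vecMul, dotProduct, Fin.sum_univ_three, hy] <;> ring

/-- A criterion for elements of the torus. -/
theorem induces_DM {a e : F} (ha : a ≠ 0) (h0 : g • pt none = pt none)
    (h : ∀ x : {x : F × F // x.1 + c.σ x.1 + x.2 * c.σ x.2 = 0},
      ∃ y : {x : F × F // x.1 + c.σ x.1 + x.2 * c.σ x.2 = 0},
        y.1 = (a * c.σ a * x.1.1, e * c.σ a * x.1.2) ∧ g • pt (some x) = pt (some y)) :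
    Induces pt (DM c a e) g := by
  have hs : c.σ a ≠ 0 := (map_ne_zero c.σ).mpr ha
  rintro (_ | x)
  · exact ⟨a, none, ha, h0, by ext i; fin_cases i <;> simp [vec, DM, Matrix.vecMul, dotProduct, Fin.sum_univ_three]⟩
  · obtain ⟨y, hy, e'⟩ := h x
    refine ⟨(c.σ a)⁻¹, some y, inv_ne_zero hs, e', ?_⟩
    ext i
    fin_cases i <;> simp [vec, DM, Matrix.vecMul, dotProduct, Fin.sum_univ_three, hy] <;> field_simp

/-- A criterion for the involution. -/
theorem induces_JM {s : F} (h0 : ∀ x : {x : F × F // x.1 + c.σ x.1 + x.2 * c.σ x.2 = 0}, x.1 = (0, 0) →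
      g • pt none = pt (some x) ∧ g • pt (some x) = pt none)
    (h : ∀ x : {x : F × F // x.1 + c.σ x.1 + x.2 * c.σ x.2 = 0}, x.1.1 ≠ 0 →
      ∃ y : {x : F × F // x.1 + c.σ x.1 + x.2 * c.σ x.2 = 0},
        y.1 = (1 / x.1.1, s * x.1.2 / x.1.1) ∧ g • pt (some x) = pt (some y)) :
    Induces pt (JM s) g := by
  let o : {x : F × F // x.1 + c.σ x.1 + x.2 * c.σ x.2 = 0} := ⟨(0, 0), by simp⟩
  rintro (_ | x)
  · exact ⟨1, some o, one_ne_zero, (h0 o rfl).1, by
      ext i; fin_cases i <;> simp [o, vec, JM, Matrix.vecMul, dotProduct, Fin.sum_univ_three]⟩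
  by_cases hA : x.1.1 = 0
  · have hb : x.1.2 = 0 := by
      have hx := x.2
      rw [hA, map_zero, add_zero, zero_add] at hx
      rcases mul_eq_zero.mp hx with e | e
      · exact e
      · exact (map_eq_zero c.σ).mp e
    refine ⟨1, none, one_ne_zero, (h0 x (Prod.ext hA hb)).2, ?_⟩
    ext i
    fin_cases i <;> simp [vec, JM, Matrix.vecMul, dotProduct, Fin.sum_univ_three, hA, hb]
  · obtain ⟨y, hy, e⟩ := h x hA
    refine ⟨x.1.1, some y, hA, e, ?_⟩
    ext i
    fin_cases i <;> simp [vec, JM, Matrix.vecMul, dotProduct, Fin.sum_univ_three, hy] <;> field_simp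

end CfsgLib.U3Cent
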