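import Cfsg.Agent.Lib.U3Cent.Law
import Cfsg.Agent.Lib.U3Cent.Gens
import Cfsg.Agent.Lib.U3Cent.Degree

/-!
# A simple group with centraliser `GU₂(q)/Z` is `PSU₃(q)`
-/

set_option autoImplicit false
set_option linter.unusedSectionVars false
set_option linter.style.haveILetI false

namespace CfsgLib.U3Cent

open CfsgLib.PSUBorel

universe u v

variable {G : Type u} [Group G] [Finite G] [IsSimpleGroup G] {F : Type v} [Field F] [Fintype F] {c : Conj F}
variable {p n : ℕ} [hp : Fact p.Prime]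

namespace Rad

variable {f : W c →* G} {R : Subgroup G} (hR : Rad p n f R) {π : G → F} {χ : Fˣ →* Fˣ} (hN : Normal f R π χ)
include hR hN

theorem coord_inj {r r' : G} (hr : r ∈ R) (hr' : r' ∈ R) (hA : ac f r = ac f r') (hb : π r = π r') : r = r' := by
  have hm : r * r'⁻¹ ∈ R := mul_mem hr (inv_mem hr')
  have hx : r * r'⁻¹ ∈ root f := by
    refine (hN.proj.eq_zero _ hm).mp ?_
    rw [hN.proj.map_mul r hr _ (inv_mem hr'), hR.pi_inv hN.proj hr', hb, add_neg_cancel]
  obtain ⟨x, hx⟩ := mem_root.mp hx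
  have e : r = f (up x) * r' := by rw [hx, inv_mul_cancel_right]
  rw [e, hR.ac_up_mul hr', add_eq_left] at hA
  rw [e, show x = 0 from Subtype.ext hA, up_zero, map_one, one_mul]

theorem coord_surj {A b : F} (h : A + c.σ A + b * c.σ b = 0) : ∃ r ∈ R, ac f r = A ∧ π r = b := by
  obtain ⟨y, hy, hy', hb⟩ := hR.exists_rep hN.proj b
  have hu := hN.unitary y hy
  rw [hb] at hu
  have hx : A - ac f y ∈ X0 c := by rw [mem_X0, map_sub]; linear_combination h - hu
  refine ⟨f (up ⟨_, hx⟩) * y, mul_mem (hR.root_le (mem_root.mpr ⟨_, rfl⟩)) hy, ?_,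
    by rw [hR.pi_root_mul hN.proj hy, hb]⟩
  rw [hR.ac_up_mul hy]; ring

/-- The group is `PSU₃(q)`. -/
theorem nonempty_iso : Nonempty (G ≃* Cfsg.PSU 3 F c.q) := by
  classical
  have hf := hR.hyp
  have hP := hN.proj
  choose el hel1 hel2 hel3 using
    fun x : {x : F × F // x.1 + c.σ x.1 + x.2 * c.σ x.2 = 0} => hR.coord_surj hN x.2
  let pt : IPt c → Pts f := fun o => o.elim (bx f) fun x => el x • by0 f
  let mk : ∀ {r : G}, r ∈ R → {x : F × F // x.1 + c.σ x.1 + x.2 * c.σ x.2 = 0} := fun {r} hr =>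
    ⟨(ac f r, π r), hN.unitary r hr⟩
  have hmk : ∀ {r : G} (hr : r ∈ R), pt (some (mk hr)) = r • by0 f := fun {r} hr => by
    show el (mk hr) • by0 f = _
    rw [hR.coord_inj hN (hel1 _) hr (hel2 _) (hel3 _)]
  have hsome : ∀ x, pt (some x) = el x • by0 f := fun _ => rfl
  have hpt : Function.Bijective pt := by
    refine ⟨?_, fun ω => ?_⟩
    · rintro (_ | x) (_ | x') h
      · rfl
      · exact absurd h.symm (hR.smul_ne_bx (hel1 _))
      · exact absurd h (hR.smul_ne_bx (hel1 _))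
      · have e := hR.smul_inj (hel1 x) (hel1 x') h
        exact congrArg some (Subtype.ext (Prod.ext (by rw [← hel2 x, e, hel2 x']) (by rw [← hel3 x, e, hel3 x'])))
    · by_cases hω : ω = bx f
      · exact ⟨none, hω.symm⟩
      · obtain ⟨r, hr, rfl⟩ := hR.exists_smul hω
        exact ⟨some (mk hr), hmk hr⟩
  haveI : FaithfulSMul G (Pts f) := ⟨fun {g h} e => (inv_mul_eq_one.mp (hR.faithful fun ω => by
    rw [mul_smul, inv_smul_eq_iff]; exact (e ω).symm))⟩
  set S : Set G := {g | g ∈ R ∨ g ∈ tor f ∨ g = f ww}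
  have hS : Subgroup.closure S = ⊤ := by
    set H := Subgroup.closure S
    have hRH : ∀ x ∈ R, x ∈ H := fun x hx => Subgroup.subset_closure (Or.inl hx)
    have hnrm : nrm f ≤ H := fun g hg => by
      obtain ⟨x, hx, b, hb, rfl⟩ := hR.decomp g hg
      obtain ⟨m, hm, rfl⟩ := hb
      obtain ⟨a, y, rfl⟩ := tri hm
      rw [_root_.map_mul]
      exact mul_mem (hRH x hx) (mul_mem (Subgroup.subset_closure (Or.inr (Or.inl (mem_tor.mpr ⟨a, rfl⟩))))
        (hRH _ (hR.root_le (mem_root.mpr ⟨y, rfl⟩))))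
    have hw : f ww ∈ H := Subgroup.subset_closure (Or.inr (Or.inr rfl))
    refine eq_top_iff.mpr fun g _ => ?_
    by_cases hg : g • bx f = bx f
    · exact hnrm (smul_bx.mp hg)
    · obtain ⟨r, hr, e⟩ := hR.exists_smul hg
      have h1 : (r * f ww)⁻¹ * g ∈ nrm f :=
        smul_bx.mp (by rw [mul_smul, inv_smul_eq_iff, mul_smul, ww_bx, e])
      have := mul_mem (mul_mem (hRH r hr) hw) (hnrm h1)
      rwa [mul_inv_cancel_left] at this
  refine nonempty_iso_psu hf.not_comm hf.odd pt hpt S hS ?_ ?_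
  · rintro s (hs | hs | rfl)
    · refine ⟨TM c (ac f s) (π s), cond_TM (hN.unitary s hs),
        induces_TM (smul_bx.mpr (hR.R_le_nrm hs)) fun x => ⟨mk (mul_mem hs (hel1 x)), ?_, ?_⟩⟩
      · show (ac f (s * el x), π (s * el x)) = _
        rw [hN.law s hs _ (hel1 x), hP.map_mul s hs _ (hel1 x), hel2, hel3]
      · rw [hmk (mul_mem hs (hel1 x)), mul_smul]; rfl
    · obtain ⟨a, rfl⟩ := mem_tor.mp hs
      have hσa : c.σ (a : F) ≠ 0 := (map_ne_zero c.σ).mpr a.ne_zero
      have hn : (χ a : F) / c.σ (a : F) * c.σ ((χ a : F) / c.σ (a : F)) = 1 := by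
        rw [map_div₀, c.invol, div_mul_div_comm, hR.norm_chi hN, mul_comm (c.σ (a : F)),
          div_self (mul_ne_zero a.ne_zero hσa)]
      refine ⟨DM c (a : F) ((χ a : F) / c.σ (a : F)), cond_DM a.ne_zero hn,
        induces_DM a.ne_zero (smul_bx.mpr (bor_le_nrm f (tor_le_bor f hs))) fun x =>
          ⟨mk (hR.normal _ (bor_le_nrm f (tor_le_bor f hs)) _ (hel1 x)), ?_, ?_⟩⟩
      · show (ac f _, π _) = _
        rw [hR.ac_tor (hel1 x), hP.equiv a _ (hel1 x), hel2, hel3, div_mul_cancel₀ _ hσa]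
      · rw [hmk (hR.normal _ (bor_le_nrm f (tor_le_bor f hs)) _ (hel1 x)), mul_smul, hR.tor_by0 (inv_mem hs),
          mul_smul]
        rfl
    · refine ⟨JM (-1), cond_JM (by simp), induces_JM (fun x hx => ?_) fun x hx => ?_⟩
      · have h1 : el x = 1 := hR.coord_inj hN (hel1 x) (one_mem R)
          (by rw [hel2, hR.ac_one, hx]) (by rw [hel3, hR.pi_one hP, hx])
        rw [hsome, h1, one_smul]
        exact ⟨rfl, ww_by0 f⟩
      · have hne : el x ≠ 1 := fun e => hx (by rw [← hel2 x, e, hR.ac_one])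
        obtain ⟨j1, -, j3, j4⟩ := hR.jr_spec (hel1 x) hne
        refine ⟨mk j1, ?_, ?_⟩
        · show (ac f _, π _) = _
          rw [j4, hR.pi_jr hN (hel1 x) hne, hel2, hel3, neg_one_mul, neg_div]
        · rw [hmk j1, ← j3]; rfl
  · have hz := hR.ker_le hP
    rw [mul_comm (c.q ^ 2 - 1), ← hR.card_G, mul_comm (Nat.card G)]
    exact Nat.mul_le_mul_right _ hz

end Rad

namespace Hyp

variable {f : W c →* G} (hf : Hyp c f)
include hf

/-- The characterisation. -/
theorem nonempty_iso : Nonempty (G ≃* Cfsg.PSU 3 F c.q) := by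
  obtain ⟨p, n, hpp, hn, hq⟩ := exists_prime_pow c
  haveI : Fact p.Prime := ⟨hpp⟩
  obtain ⟨R, hR⟩ := hf.exists_rad hq hn (hf.index_eq hn hq (hf.sq_dvd_index hq hn))
  obtain ⟨π, χ, hN⟩ := hR.exists_normal
  exact hR.nonempty_iso hN

end Hyp

end CfsgLib.U3Cent
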