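import Cfsg.Agent.Lib.Fusion.PSUBorel

/-!
# The unitary group of a hyperbolic line in coordinates

`W c` preserves the form `antidiag(1, 1)`. `up`, `dg`, `ww` generate it, `refl a` is the reflection with
centre `(a, 1)`, `a + σ a ≠ 0`, and conjugation acts on the centres by Moebius transformations.
-/

set_option autoImplicit false
set_option linter.unusedSectionVars false

namespace CfsgLib.U3Cent

open Matrix CfsgLib.PSUBorel

variable {F : Type*} [Field F] [Fintype F] (c : Conj F)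

/-- The unitary group of `antidiag(1, 1)`. -/
def W : Subgroup (GL (Fin 2) F) :=
  PSpBorel.ofClosed {g | Cond c g.1} (by simp [Cond]) (by
    intro A hA B hB
    show (A.1 * B.1) * aJ F 2 * ((A.1 * B.1).map c.σ)ᵀ = aJ F 2
    rw [Matrix.map_mul, Matrix.transpose_mul, ← Matrix.mul_assoc, Matrix.mul_assoc A.1, Matrix.mul_assoc A.1,
      show B.1 * aJ F 2 * (B.1.map c.σ)ᵀ = aJ F 2 from hB]
    exact hA)

variable {c}

/-- An entry of an element of `W c`. -/
abbrev ent (g : W c) (i j : Fin 2) : F := g.1.1 i j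

@[ext] theorem W.ext' {g h : W c} (e00 : ent g 0 0 = ent h 0 0) (e01 : ent g 0 1 = ent h 0 1)
    (e10 : ent g 1 0 = ent h 1 0) (e11 : ent g 1 1 = ent h 1 1) : g = h := by
  refine Subtype.ext (Units.ext ?_)
  ext i j
  fin_cases i <;> fin_cases j <;> assumption

theorem ent_mul (g h : W c) (i j : Fin 2) : ent (g * h) i j = ent g i 0 * ent h 0 j + ent g i 1 * ent h 1 j := by
  show (g.1.1 * h.1.1) i j = _
  rw [Matrix.mul_apply, Fin.sum_univ_two]

theorem ent_one (i j : Fin 2) : ent (1 : W c) i j = if i = j then 1 else 0 := Matrix.one_apply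

/-- The three equations. -/
theorem mem_W {g : GL (Fin 2) F} :
    g ∈ W c ↔ g.1 0 0 * c.σ (g.1 0 1) + g.1 0 1 * c.σ (g.1 0 0) = 0 ∧
      g.1 0 0 * c.σ (g.1 1 1) + g.1 0 1 * c.σ (g.1 1 0) = 1 ∧
      g.1 1 0 * c.σ (g.1 1 1) + g.1 1 1 * c.σ (g.1 1 0) = 0 := by
  have key : g ∈ W c ↔ g.1 * aJ F 2 * (g.1.map c.σ)ᵀ = aJ F 2 := Iff.rfl
  rw [key]
  have hval : ∀ a b : Fin 2, (g.1 * aJ F 2 * (g.1.map c.σ)ᵀ) a b =
      g.1 a 0 * c.σ (g.1 b 1) + g.1 a 1 * c.σ (g.1 b 0) := by
    intro a b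
    rw [Matrix.mul_apply, Fin.sum_univ_two, mul_aJ, mul_aJ]
    simp [Matrix.transpose_apply, Fin.rev]
    ring
  constructor
  · intro h
    refine ⟨?_, ?_, ?_⟩ <;> rw [← hval, h] <;> simp [aJ]
  · rintro ⟨h1, h2, h3⟩
    have h4 : g.1 1 0 * c.σ (g.1 0 1) + g.1 1 1 * c.σ (g.1 0 0) = 1 := by
      have h := congrArg c.σ h2
      rw [map_add, map_mul, map_mul, c.invol, c.invol, map_one] at h
      linear_combination h
    ext a b
    rw [hval]
    fin_cases a <;> fin_cases b <;> simp [aJ, h1, h2, h3, h4]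

theorem eq0 (g : W c) : ent g 0 0 * c.σ (ent g 0 1) + ent g 0 1 * c.σ (ent g 0 0) = 0 := (mem_W.mp g.2).1

theorem eq1 (g : W c) : ent g 0 0 * c.σ (ent g 1 1) + ent g 0 1 * c.σ (ent g 1 0) = 1 := (mem_W.mp g.2).2.1

theorem eq2 (g : W c) : ent g 1 0 * c.σ (ent g 1 1) + ent g 1 1 * c.σ (ent g 1 0) = 0 := (mem_W.mp g.2).2.2

/-- Build an element from its entries. -/
def mk (a b d e : F) (h1 : a * c.σ b + b * c.σ a = 0) (h2 : a * c.σ e + b * c.σ d = 1)
    (h3 : d * c.σ e + e * c.σ d = 0) : W c := by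
  refine ⟨⟨!![a, b; d, e], !![c.σ e, c.σ b; c.σ d, c.σ a], ?_, ?_⟩, mem_W.mpr ?_⟩
  · have h4 : d * c.σ b + e * c.σ a = 1 := by
      have h := congrArg c.σ h2
      rw [map_add, map_mul, map_mul, c.invol, c.invol, map_one] at h
      linear_combination h
    rw [Matrix.mul_fin_two, h1, h2, h3, h4, Matrix.one_fin_two]
  · refine mul_eq_one_comm.mp ?_
    have h4 : d * c.σ b + e * c.σ a = 1 := by
      have h := congrArg c.σ h2
      rw [map_add, map_mul, map_mul, c.invol, c.invol, map_one] at h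
      linear_combination h
    rw [Matrix.mul_fin_two, h1, h2, h3, h4, Matrix.one_fin_two]
  · exact ⟨by simpa using h1, by simpa using h2, by simpa using h3⟩

@[simp] theorem mk_00 (a b d e : F) (h1 h2 h3) : ent (mk (c := c) a b d e h1 h2 h3) 0 0 = a := rfl
@[simp] theorem mk_01 (a b d e : F) (h1 h2 h3) : ent (mk (c := c) a b d e h1 h2 h3) 0 1 = b := rfl
@[simp] theorem mk_10 (a b d e : F) (h1 h2 h3) : ent (mk (c := c) a b d e h1 h2 h3) 1 0 = d := rfl
@[simp] theorem mk_11 (a b d e : F) (h1 h2 h3) : ent (mk (c := c) a b d e h1 h2 h3) 1 1 = e := rfl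

theorem inv_ent (g : W c) : ent g⁻¹ 0 0 = c.σ (ent g 1 1) ∧ ent g⁻¹ 0 1 = c.σ (ent g 0 1) ∧
    ent g⁻¹ 1 0 = c.σ (ent g 1 0) ∧ ent g⁻¹ 1 1 = c.σ (ent g 0 0) := by
  have e : g = mk (ent g 0 0) (ent g 0 1) (ent g 1 0) (ent g 1 1) (eq0 g) (eq1 g) (eq2 g) := by ext <;> simp
  rw [e]
  exact ⟨rfl, rfl, rfl, rfl⟩

/-- The column equation. -/
theorem eq_col (g : W c) : c.σ (ent g 1 0) * ent g 0 0 + c.σ (ent g 0 0) * ent g 1 0 = 0 := by
  obtain ⟨h0, -, h2, h3⟩ := inv_ent g
  have h := eq2 g⁻¹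
  rw [h2, h3, c.invol, c.invol] at h
  linear_combination h

variable (c)

/-- Elements of trace zero. -/
def X0 : AddSubgroup F where
  carrier := {x | x + c.σ x = 0}
  zero_mem' := by simp
  add_mem' {a b} ha hb := by
    simp only [Set.mem_setOf_eq] at ha hb ⊢
    rw [map_add]
    linear_combination ha + hb
  neg_mem' {a} ha := by
    simp only [Set.mem_setOf_eq] at ha ⊢
    rw [map_neg]
    linear_combination -ha

variable {c}

theorem mem_X0 {x : F} : x ∈ X0 c ↔ x + c.σ x = 0 := Iff.rfl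

theorem sig_X0 (x : X0 c) : c.σ x = -(x : F) := by linear_combination (mem_X0.mp x.2)

theorem two_ne (hq : Odd c.q) : (2 : F) ≠ 0 := by
  intro h
  obtain ⟨p, hp⟩ := CharP.exists F
  haveI := hp
  have h2 : p ∣ 2 := (CharP.cast_eq_zero_iff F p 2).mp (by exact_mod_cast h)
  have hpp : p.Prime := CharP.char_is_prime F p
  have hpeq : p = 2 := (Nat.prime_dvd_prime_iff_eq hpp Nat.prime_two).mp h2
  subst hpeq
  have hdvd : 2 ∣ Fintype.card F := by
    obtain ⟨n, -, hn⟩ := FiniteField.card F 2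
    exact hn ▸ dvd_pow_self 2 n.ne_zero
  rw [c.card] at hdvd
  exact (Nat.not_even_iff_odd.mpr hq) (even_iff_two_dvd.mpr (Nat.prime_two.dvd_of_dvd_pow hdvd))

theorem card_X0 : Nat.card (X0 c) = c.q := by
  classical
  obtain ⟨b0, hb, hb0⟩ := c.exists_antifixed
  obtain ⟨e, he⟩ := c.exists_trace_one
  let tr : F →+ F := AddMonoidHom.mk' (fun x => x + c.σ x) fun a b => by rw [map_add]; ring
  have hk : tr.ker = X0 c := rfl
  have hmem : ∀ x : X0 c, ((x : F) / b0) ∈ tr.range := fun x => by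
    have hfix : c.σ ((x : F) / b0) = (x : F) / b0 := by rw [map_div₀, sig_X0, hb0, neg_div_neg_eq]
    refine ⟨e * ((x : F) / b0), ?_⟩
    show e * ((x : F) / b0) + c.σ (e * ((x : F) / b0)) = _
    rw [map_mul, hfix, ← add_mul, he, one_mul]
  have hmem' : ∀ y : tr.range, ((y : F) * b0) ∈ X0 c := fun y => by
    obtain ⟨u, hu⟩ := y.2
    rw [mem_X0, map_mul, hb0, ← hu]
    show (u + c.σ u) * b0 + c.σ (u + c.σ u) * -b0 = 0
    rw [map_add, c.invol]; ring
  have hbij : Nat.card tr.range = Nat.card (X0 c) := Nat.card_congr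
    { toFun := fun y => ⟨_, hmem' y⟩
      invFun := fun x => ⟨_, hmem x⟩
      left_inv := fun y => Subtype.ext (mul_div_cancel_right₀ _ hb)
      right_inv := fun x => Subtype.ext (div_mul_cancel₀ _ hb) }
  have h := AddSubgroup.card_eq_card_quotient_mul_card_addSubgroup tr.ker
  rw [Nat.card_congr (QuotientAddGroup.quotientKerEquivRange tr).toEquiv, hbij, hk, Nat.card_eq_fintype_card
    (α := F), c.card, pow_two] at h
  exact (Nat.mul_self_inj.mp h).symm

/-- The root elements. -/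
def upHom : Multiplicative (X0 c) →* W c where
  toFun x := mk 1 ((Multiplicative.toAdd x : X0 c) : F) 0 1
    (by rw [map_one, one_mul, mul_one, sig_X0]; ring) (by simp) (by simp)
  map_one' := by ext <;> simp [ent_one]
  map_mul' x y := by ext <;> simp [ent_mul, add_comm]

/-- A root element. -/
abbrev up (x : X0 c) : W c := upHom (Multiplicative.ofAdd x)

@[simp] theorem up_00 (x : X0 c) : ent (up x) 0 0 = 1 := rfl
@[simp] theorem up_01 (x : X0 c) : ent (up x) 0 1 = (x : F) := rfl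
@[simp] theorem up_10 (x : X0 c) : ent (up x) 1 0 = 0 := rfl
@[simp] theorem up_11 (x : X0 c) : ent (up x) 1 1 = 1 := rfl

theorem up_ent (x : X0 c) : ent (up x) 0 0 = 1 ∧ ent (up x) 0 1 = x ∧ ent (up x) 1 0 = 0 ∧ ent (up x) 1 1 = 1 :=
  ⟨rfl, rfl, rfl, rfl⟩

theorem up_add (x y : X0 c) : up x * up y = up (x + y) := (map_mul upHom _ _).symm

theorem up_zero : up (0 : X0 c) = 1 := map_one upHom

theorem up_inj {x y : X0 c} (h : up x = up y) : x = y := Subtype.ext (congrArg (fun g => ent g 0 1) h)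

/-- The diagonal elements. -/
def dgHom : Fˣ →* W c where
  toFun a := mk (a : F) 0 0 (c.σ (a : F))⁻¹ (by simp)
    (by rw [map_inv₀, c.invol, map_zero, mul_inv_cancel₀ a.ne_zero, zero_mul, add_zero]) (by simp)
  map_one' := by ext <;> simp [ent_one]
  map_mul' x y := by ext <;> simp [ent_mul, mul_comm]

/-- A diagonal element. -/
abbrev dg (a : Fˣ) : W c := dgHom a

@[simp] theorem dg_00 (a : Fˣ) : ent (dg (c := c) a) 0 0 = (a : F) := rfl
@[simp] theorem dg_01 (a : Fˣ) : ent (dg (c := c) a) 0 1 = 0 := rfl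
@[simp] theorem dg_10 (a : Fˣ) : ent (dg (c := c) a) 1 0 = 0 := rfl
@[simp] theorem dg_11 (a : Fˣ) : ent (dg (c := c) a) 1 1 = (c.σ (a : F))⁻¹ := rfl

theorem dg_ent (a : Fˣ) : ent (dg (c := c) a) 0 0 = a ∧ ent (dg (c := c) a) 0 1 = 0 ∧
    ent (dg (c := c) a) 1 0 = 0 ∧ ent (dg (c := c) a) 1 1 = (c.σ (a : F))⁻¹ := ⟨rfl, rfl, rfl, rfl⟩

theorem dg_inj {a b : Fˣ} (h : dg (c := c) a = dg b) : a = b :=
  Units.ext (congrArg (fun g => ent g 0 0) h)

/-- Scalar elements. -/
def IsScal (g : W c) : Prop := ent g 0 1 = 0 ∧ ent g 1 0 = 0 ∧ ent g 0 0 = ent g 1 1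

theorem IsScal.comm {g : W c} (h : IsScal g) (k : W c) : g * k = k * g := by
  obtain ⟨h1, h2, h3⟩ := h
  ext <;> simp [ent_mul, h1, h2, h3, mul_comm]

theorem isScal_dg {a : Fˣ} : IsScal (dg (c := c) a) ↔ (a : F) * c.σ (a : F) = 1 := by
  constructor
  · rintro ⟨-, -, h⟩
    rw [(dg_ent a).1, (dg_ent a).2.2.2] at h
    have := inv_mul_cancel₀ ((map_ne_zero c.σ).mpr a.ne_zero)
    rwa [← h] at this
  · intro h
    refine ⟨rfl, rfl, ?_⟩
    rw [(dg_ent a).1, (dg_ent a).2.2.2]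
    exact eq_inv_of_mul_eq_one_left h

/-- The Weyl element. -/
def ww : W c := mk 0 1 1 0 (by simp) (by simp) (by simp)

@[simp] theorem ww_00 : ent (ww (c := c)) 0 0 = 0 := rfl
@[simp] theorem ww_01 : ent (ww (c := c)) 0 1 = 1 := rfl
@[simp] theorem ww_10 : ent (ww (c := c)) 1 0 = 1 := rfl
@[simp] theorem ww_11 : ent (ww (c := c)) 1 1 = 0 := rfl

/-- The central involution. -/
def neg : W c := dg (-1)

theorem neg_ent : ent (neg (c := c)) 0 0 = -1 ∧ ent (neg (c := c)) 0 1 = 0 ∧ ent (neg (c := c)) 1 0 = 0 ∧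
    ent (neg (c := c)) 1 1 = -1 := by
  refine ⟨by simp [neg, (dg_ent _).1], rfl, rfl, ?_⟩
  rw [neg, (dg_ent _).2.2.2, Units.val_neg, Units.val_one, map_neg, map_one, inv_neg, inv_one]

theorem neg_scal : IsScal (neg (c := c)) := ⟨neg_ent.2.1, neg_ent.2.2.1, neg_ent.1.trans neg_ent.2.2.2.symm⟩

theorem neg_sq : neg (c := c) * neg = 1 := by rw [neg, ← map_mul]; simp

theorem neg_ne (hq : Odd c.q) : neg (c := c) ≠ 1 := fun h => by
  have := congrArg (fun g => ent g 0 0) h
  simp only [neg_ent.1, ent_one, ↓reduceIte] at this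
  exact two_ne hq (by linear_combination -this)

theorem ww_sq : ww (c := c) * ww = 1 := by ext <;> simp [ww, ent_mul, ent_one]

theorem ww_dg (a : Fˣ) : ww * dg (c := c) a = dg (Units.map (c.σ : F →* F) a)⁻¹ * ww := by
  ext <;> simp [-map_inv, ent_mul, Units.val_inv_eq_inv_val, map_inv₀, c.invol]

/-- Upper triangular elements. -/
theorem tri {g : W c} (h : ent g 1 0 = 0) : ∃ (a : Fˣ) (x : X0 c), g = dg a * up x := by
  have h1 := eq1 g
  rw [h, map_zero, mul_zero, add_zero] at h1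
  have h0 : ent g 0 0 ≠ 0 := left_ne_zero_of_mul_eq_one h1
  have h11 : ent g 1 1 = (c.σ (ent g 0 0))⁻¹ := by
    refine eq_inv_of_mul_eq_one_left ?_
    have h' := congrArg c.σ h1
    rw [map_mul, c.invol, map_one] at h'
    linear_combination h'
  refine ⟨Units.mk0 _ h0, ⟨ent g 0 1 / ent g 0 0, ?_⟩, ?_⟩
  · rw [mem_X0, map_div₀, div_add_div _ _ h0 ((map_ne_zero c.σ).mpr h0), div_eq_zero_iff]
    left
    linear_combination eq0 g
  · ext <;> simp [ent_mul, (dg_ent _).1, h, h11, mul_div_cancel₀ _ h0]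

/-- The big cell. -/
theorem bruhat {g : W c} (h : ent g 1 0 ≠ 0) :
    ∃ (x : X0 c) (a : Fˣ) (y : X0 c), (x : F) = ent g 0 0 / ent g 1 0 ∧ g = up x * dg a * ww * up y := by
  have hs : c.σ (ent g 1 0) ≠ 0 := (map_ne_zero c.σ).mpr h
  refine ⟨⟨ent g 0 0 / ent g 1 0, ?_⟩, Units.mk0 (c.σ (ent g 1 0))⁻¹ (inv_ne_zero hs),
    ⟨ent g 1 1 / ent g 1 0, ?_⟩, rfl, ?_⟩
  · rw [mem_X0, map_div₀, div_add_div _ _ h hs, div_eq_zero_iff]
    left
    linear_combination eq_col g
  · rw [mem_X0, map_div₀, div_add_div _ _ h hs, div_eq_zero_iff]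
    left
    linear_combination eq2 g
  · ext
    · simp [ent_mul, map_inv₀, c.invol]
      field_simp
    · simp [ent_mul, map_inv₀, c.invol]
      have e1 := eq1 g
      have e2 := eq2 g
      field_simp
      linear_combination ent g 1 0 * e1 - ent g 0 0 * e2
    · simp [ent_mul, map_inv₀, c.invol]
    · simp [ent_mul, map_inv₀, c.invol]
      field_simp

theorem dg_up (a : Fˣ) (x : X0 c) (h : (a : F) * c.σ (a : F) * x ∈ X0 c) :
    dg a * up x = up ⟨_, h⟩ * dg a := by
  have hs : c.σ (a : F) ≠ 0 := (map_ne_zero c.σ).mpr a.ne_zero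
  ext <;> simp [ent_mul, c.invol]
  field_simp

theorem norm_mul_X0 (a : F) (x : X0 c) : a * c.σ a * (x : F) ∈ X0 c := by
  rw [mem_X0, map_mul, map_mul, c.invol, sig_X0]; ring

/-- An element normalising a root element is upper triangular. -/
theorem tri_of_conj {g : W c} {x y : X0 c} (hx : x ≠ 0) (h : g * up x = up y * g) : ent g 1 0 = 0 := by
  have e11 := congrArg (fun k => ent k 1 1) h
  simp [ent_mul] at e11
  exact e11.resolve_right fun h' => hx h'

/-- The centraliser of a root element. -/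
theorem of_comm_up {g : W c} {x : X0 c} (hx : x ≠ 0) (h : g * up x = up x * g) :
    ent g 1 0 = 0 ∧ ent g 0 0 = ent g 1 1 := by
  have h10 := tri_of_conj hx h
  refine ⟨h10, ?_⟩
  have e01 := congrArg (fun k => ent k 0 1) h
  simp [ent_mul] at e01
  have : (ent g 0 0 - ent g 1 1) * (x : F) = 0 := by linear_combination e01
  exact sub_eq_zero.mp ((mul_eq_zero.mp this).resolve_right fun e => hx (Subtype.ext e))

/-- The centraliser of a nonscalar diagonal element. -/
theorem of_comm_dg {g : W c} {a : Fˣ} (ha : ¬ IsScal (dg (c := c) a)) (h : g * dg a = dg a * g) :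
    ent g 0 1 = 0 ∧ ent g 1 0 = 0 := by
  have hne : (a : F) - (c.σ (a : F))⁻¹ ≠ 0 := fun e => ha ⟨rfl, rfl, sub_eq_zero.mp e⟩
  have e01 := congrArg (fun k => ent k 0 1) h
  have e10 := congrArg (fun k => ent k 1 0) h
  simp [ent_mul] at e01 e10
  constructor
  · exact (mul_eq_zero.mp (show ent g 0 1 * ((a : F) - (c.σ (a : F))⁻¹) = 0 by
      linear_combination -e01)).resolve_right hne
  · exact (mul_eq_zero.mp (show ent g 1 0 * ((a : F) - (c.σ (a : F))⁻¹) = 0 by
      linear_combination e10)).resolve_right hne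

open Classical in
/-- The reflection with centre `(a, 1)`. -/
noncomputable def refl (a : F) : W c :=
  if h : a + c.σ a = 0 then 1 else
    mk ((c.σ a - a) / (a + c.σ a)) (-2 * (a * c.σ a) / (a + c.σ a)) (-2 / (a + c.σ a))
      ((a - c.σ a) / (a + c.σ a))
      (by simp only [map_div₀, map_sub, map_mul, map_neg, map_add, map_ofNat, c.invol]
          rw [add_comm (c.σ a) a]
          field_simp
          ring)
      (by simp only [map_div₀, map_sub, map_neg, map_add, map_ofNat, c.invol]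
          rw [add_comm (c.σ a) a]
          field_simp
          ring)
      (by simp only [map_div₀, map_sub, map_neg, map_add, map_ofNat, c.invol]
          rw [add_comm (c.σ a) a]
          field_simp
          ring)

theorem refl_ent {a : F} (h : a + c.σ a ≠ 0) :
    ent (refl (c := c) a) 0 0 = (c.σ a - a) / (a + c.σ a) ∧
    ent (refl (c := c) a) 0 1 = -2 * (a * c.σ a) / (a + c.σ a) ∧
    ent (refl (c := c) a) 1 0 = -2 / (a + c.σ a) ∧
    ent (refl (c := c) a) 1 1 = (a - c.σ a) / (a + c.σ a) := by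
  rw [refl, dif_neg h]; exact ⟨rfl, rfl, rfl, rfl⟩

theorem refl_sq {a : F} (h : a + c.σ a ≠ 0) : refl (c := c) a * refl a = 1 := by
  obtain ⟨e0, e1, e2, e3⟩ := refl_ent h
  ext <;> simp only [ent_mul, e0, e1, e2, e3, ent_one] <;> simp <;> field_simp <;> ring

theorem refl_not_scal (hq : Odd c.q) {a : F} (h : a + c.σ a ≠ 0) : ¬ IsScal (refl (c := c) a) := by
  rintro ⟨-, h2, -⟩
  rw [(refl_ent h).2.2.1] at h2
  exact two_ne hq (by simpa [h] using h2)

theorem refl_inj (hq : Odd c.q) {a b : F} (ha : a + c.σ a ≠ 0) (hb : b + c.σ b ≠ 0)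
    (h : refl (c := c) a = refl b) : a = b := by
  have h2 := two_ne (c := c) hq
  obtain ⟨a0, -, a2, -⟩ := refl_ent ha
  obtain ⟨b0, -, b2, -⟩ := refl_ent hb
  rw [h] at a0 a2
  rw [b0] at a0
  rw [b2] at a2
  field_simp at a0 a2
  have e : c.σ b = a + c.σ a - b := by linear_combination a2
  rw [e] at a0
  exact mul_right_cancel₀ (mul_ne_zero h2 ha) (by linear_combination a0)

/-- An involution other than `neg` is a reflection. -/
theorem sq_cases (hq : Odd c.q) {g : W c} (h : g * g = 1) :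
    g = 1 ∨ g = neg ∨ ∃ a : F, a + c.σ a ≠ 0 ∧ g = refl a := by
  have h2 := two_ne (c := c) hq
  obtain ⟨i0, i1, i2, -⟩ := inv_ent g
  rw [inv_eq_of_mul_eq_one_right h] at i0 i1 i2
  have q00 : ent (g * g) 0 0 = 1 := by rw [h]; exact ent_one 0 0
  have q10 : ent (g * g) 1 0 = 0 := by rw [h]; exact ent_one 1 0
  have q01 : ent (g * g) 0 1 = 0 := by rw [h]; exact ent_one 0 1
  have q11 : ent (g * g) 1 1 = 1 := by rw [h]; exact ent_one 1 1
  rw [ent_mul] at q00 q10 q01 q11
  rcases eq_or_ne (ent g 1 0) 0 with h10 | h10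
  · obtain ⟨a, x, rfl⟩ := tri h10
    simp [ent_mul, c.invol] at q00 q11 q01 i0
    have ha : (a : F) = 1 ∨ (a : F) = -1 := mul_self_eq_one_iff.mp q00
    have hx : x = 0 := by
      refine Subtype.ext ?_
      rcases ha with e | e <;> simp [e] at q01 <;>
        first
          | exact (mul_eq_zero.mp (show (2 : F) * (x : F) = 0 by linear_combination q01)).resolve_left h2
          | exact (mul_eq_zero.mp (show (2 : F) * (x : F) = 0 by linear_combination -q01)).resolve_left h2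
    subst hx
    rcases ha with e | e
    · left; rw [up_zero, mul_one, show a = 1 from Units.ext e, dg, map_one]
    · right; left; rw [up_zero, mul_one, neg, show a = -1 from Units.ext e]
  · right; right
    have hd : ent g 1 1 = -ent g 0 0 := by
      have : ent g 1 0 * (ent g 0 0 + ent g 1 1) = 0 := by linear_combination q10
      linear_combination (mul_eq_zero.mp this).resolve_left h10
    have s00 : c.σ (ent g 0 0) = -ent g 0 0 := by
      have := congrArg c.σ i0
      rw [c.invol, hd] at this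
      exact this
    set a := (ent g 0 0 - 1) / ent g 1 0 with ha
    have sa : c.σ a = (-ent g 0 0 - 1) / ent g 1 0 := by rw [ha, map_div₀, map_sub, s00, map_one, ← i2]
    have htr : a + c.σ a = -2 / ent g 1 0 := by rw [sa, ha, ← add_div]; congr 1; ring
    have hne : a + c.σ a ≠ 0 := by rw [htr]; exact div_ne_zero (neg_ne_zero.mpr h2) h10
    refine ⟨a, hne, ?_⟩
    obtain ⟨r0, r1, r2, r3⟩ := refl_ent hne
    ext
    · rw [r0, htr, sa, ha]; field_simp; ring
    · rw [r1, htr, sa, ha]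
      field_simp
      linear_combination q00
    · rw [r2, htr]; field_simp
    · rw [r3, htr, sa, ha, hd]; field_simp; ring

theorem up_refl {a : F} (h : a + c.σ a ≠ 0) (x : X0 c) : up x * refl a = refl (a + x) * up x := by
  have h' : a + (x : F) + c.σ (a + x) ≠ 0 := by rwa [map_add, sig_X0, show a + (x : F) + (c.σ a + -x) = a + c.σ a by ring]
  obtain ⟨a0, a1, a2, a3⟩ := refl_ent h
  obtain ⟨b0, b1, b2, b3⟩ := refl_ent h'
  have e : a + (x : F) + c.σ (a + x) = a + c.σ a := by rw [map_add, sig_X0]; ring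
  rw [e] at b0 b1 b2 b3
  rw [map_add, sig_X0] at b0 b1 b3
  ext <;> simp only [ent_mul, a0, a1, a2, a3, b0, b1, b2, b3, up_00, up_01, up_10, up_11] <;> field_simp <;> ring

theorem dg_refl {a : F} (h : a + c.σ a ≠ 0) (e : Fˣ) :
    dg (c := c) e * refl a = refl ((e : F) * c.σ (e : F) * a) * dg e := by
  have hs : c.σ (e : F) ≠ 0 := (map_ne_zero c.σ).mpr e.ne_zero
  have htr : (e : F) * c.σ (e : F) * a + c.σ ((e : F) * c.σ (e : F) * a) =
      (e : F) * c.σ (e : F) * (a + c.σ a) := by rw [map_mul, map_mul, c.invol]; ring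
  have h' : (e : F) * c.σ (e : F) * a + c.σ ((e : F) * c.σ (e : F) * a) ≠ 0 :=
    htr ▸ mul_ne_zero (mul_ne_zero e.ne_zero hs) h
  obtain ⟨a0, a1, a2, a3⟩ := refl_ent h
  obtain ⟨b0, b1, b2, b3⟩ := refl_ent h'
  have he := e.ne_zero
  obtain ⟨d0, d1, d2, d3⟩ := dg_ent (c := c) e
  ext <;> simp only [ent_mul, a0, a1, a2, a3, b0, b1, b2, b3, d0, d1, d2, d3, htr, map_mul, c.invol] <;>
    field_simp <;> ring

theorem ww_refl {a : F} (h : a + c.σ a ≠ 0) : ww * refl a = refl (1 / a) * ww (c := c) := by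
  have ha : a ≠ 0 := fun e => h (by simp [e])
  have hs : c.σ a ≠ 0 := (map_ne_zero c.σ).mpr ha
  have htr : 1 / a + c.σ (1 / a) = (a + c.σ a) / (a * c.σ a) := by
    rw [map_div₀, map_one]; field_simp; ring
  have h' : 1 / a + c.σ (1 / a) ≠ 0 := htr ▸ div_ne_zero h (mul_ne_zero ha hs)
  obtain ⟨a0, a1, a2, a3⟩ := refl_ent h
  obtain ⟨b0, b1, b2, b3⟩ := refl_ent h'
  have h3 : c.σ a + a ≠ 0 := by rwa [add_comm]
  ext <;> simp only [ent_mul, a0, a1, a2, a3, b0, b1, b2, b3, htr, ww, mk_00, mk_01, mk_10, mk_11, map_div₀,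
    map_one] <;> field_simp <;> ring

theorem refl_one (hq : Odd c.q) : refl (c := c) 1 = neg * ww := by
  have h2 := two_ne (c := c) hq
  have h : (1 : F) + c.σ 1 ≠ 0 := by rw [map_one, one_add_one_eq_two]; exact h2
  obtain ⟨a0, a1, a2, a3⟩ := refl_ent h
  ext <;> simp [ent_mul, a0, a1, a2, a3, neg_ent, ww, one_add_one_eq_two, h2, neg_div]

/-- All reflections are conjugate to `refl 1`. -/
theorem refl_transitive (hq : Odd c.q) {a : F} (h : a + c.σ a ≠ 0) :
    ∃ g : W c, g * refl 1 = refl a * g := by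
  have h2 := two_ne (c := c) hq
  have hfix : c.σ ((a + c.σ a) / 2) = (a + c.σ a) / 2 := by rw [map_div₀, map_add, c.invol, map_ofNat, add_comm]
  obtain ⟨u, hu⟩ := c.exists_norm hfix
  have hu0 : u ≠ 0 := fun e => div_ne_zero h h2 (by rw [← hu, e, zero_mul])
  have h1 : (1 : F) + c.σ 1 ≠ 0 := by rw [map_one, one_add_one_eq_two]; exact h2
  have hx : a - (a + c.σ a) / 2 ∈ X0 c := by rw [mem_X0, map_sub, hfix]; field_simp; ring
  have h3 : (a + c.σ a) / 2 + c.σ ((a + c.σ a) / 2) ≠ 0 := by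
    haveI : NeZero (2 : F) := ⟨h2⟩
    rw [hfix, add_halves]; exact h
  refine ⟨up ⟨_, hx⟩ * dg (Units.mk0 u hu0), ?_⟩
  rw [mul_assoc, dg_refl h1, Units.val_mk0, hu, mul_one, ← mul_assoc, up_refl h3, mul_assoc]
  simp

/-- An element commuting with two reflections that do not commute is scalar. -/
theorem scal_of_comm_one (hq : Odd c.q) {g : W c} {b : F} (hb : b + c.σ b ≠ 0) (hb1 : b ≠ 1) (hb2 : b ≠ -1)
    (h1 : g * ww = ww * g) (h : g * refl b = refl b * g) : IsScal g := by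
  have h2 := two_ne (c := c) hq
  have e00 := congrArg (fun k => ent k 0 0) h1
  have e01 := congrArg (fun k => ent k 0 1) h1
  simp [ent_mul, ww] at e00 e01
  obtain ⟨b0, b1, b2', b3⟩ := refl_ent hb
  have f00 := congrArg (fun k => ent k 0 0) h
  have f01 := congrArg (fun k => ent k 0 1) h
  simp only [ent_mul, b0, b1, b2', b3, ← e00, ← e01] at f00 f01
  rcases eq_or_ne (ent g 0 1) 0 with hz | hz
  · exact ⟨hz, e00 ▸ hz, e01⟩
  exfalso
  field_simp at f00 f01
  have k1 : (2 : F) * (1 - b * c.σ b) = 0 := (mul_eq_zero.mp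
    (show ent g 0 1 * (2 * (1 - b * c.σ b)) = 0 by linear_combination -f00)).resolve_left hz
  have k2 : (2 : F) * (b - c.σ b) = 0 := (mul_eq_zero.mp
    (show ent g 0 1 * (2 * (b - c.σ b)) = 0 by linear_combination f01)).resolve_left hz
  have k3 : b * b = 1 := mul_left_cancel₀ h2 (by linear_combination -k1 + b * k2)
  rcases mul_self_eq_one_iff.mp k3 with e | e
  · exact hb1 e
  · exact hb2 e

theorem refl_neg_one (hq : Odd c.q) : refl (c := c) (-1) = ww := by
  have h2 := two_ne (c := c) hq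
  have h : (-1 : F) + c.σ (-1) ≠ 0 := by
    rw [map_neg, map_one, ← neg_add, one_add_one_eq_two]; exact neg_ne_zero.mpr h2
  obtain ⟨a0, a1, a2, a3⟩ := refl_ent h
  ext <;> simp [a0, a1, a2, a3, ww, ← neg_add, one_add_one_eq_two, h2, neg_div]

/-- An element commuting with two noncommuting reflections is scalar. -/
theorem scal_of_comm (hq : Odd c.q) {g : W c} {a b : F} (ha : a + c.σ a ≠ 0) (hb : b + c.σ b ≠ 0)
    (hab : refl (c := c) a * refl b ≠ refl b * refl a) (h1 : g * refl a = refl a * g)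
    (h : g * refl b = refl b * g) : IsScal g := by
  obtain ⟨k, hk⟩ := refl_transitive hq ha
  have hone : k⁻¹ * refl a * k = refl 1 := by rw [mul_assoc, ← hk, inv_mul_cancel_left]
  obtain ⟨b', hb', hkb⟩ : ∃ b', b' + c.σ b' ≠ 0 ∧ k⁻¹ * refl b * k = refl b' := by
    have hsq : (k⁻¹ * refl b * k) * (k⁻¹ * refl b * k) = 1 := by
      rw [show (k⁻¹ * refl b * k) * (k⁻¹ * refl b * k) = k⁻¹ * (refl b * refl b) * k by group, refl_sq hb]
      group
    rcases sq_cases hq hsq with e | e | ⟨b', hb', e⟩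
    · exfalso
      apply hab
      rw [show refl b = k * (k⁻¹ * refl b * k) * k⁻¹ by group, e]
      simp
    · exfalso
      apply hab
      rw [show refl b = k * (k⁻¹ * refl b * k) * k⁻¹ by group, e, ← neg_scal.comm k]
      simp [mul_assoc, (neg_scal (c := c)).comm (refl a)]
    · exact ⟨b', hb', e⟩
  have hg1 : (k⁻¹ * g * k) * refl 1 = refl 1 * (k⁻¹ * g * k) := by
    rw [← hone]
    calc k⁻¹ * g * k * (k⁻¹ * refl a * k) = k⁻¹ * (g * refl a) * k := by group
      _ = k⁻¹ * (refl a * g) * k := by rw [h1]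
      _ = _ := by group
  have hg2 : (k⁻¹ * g * k) * refl b' = refl b' * (k⁻¹ * g * k) := by
    rw [← hkb]
    calc k⁻¹ * g * k * (k⁻¹ * refl b * k) = k⁻¹ * (g * refl b) * k := by group
      _ = k⁻¹ * (refl b * g) * k := by rw [h]
      _ = _ := by group
  have hab' : refl (c := c) 1 * refl b' ≠ refl b' * refl 1 := by
    rw [← hone, ← hkb]
    intro e
    apply hab
    calc refl a * refl b = k * ((k⁻¹ * refl a * k) * (k⁻¹ * refl b * k)) * k⁻¹ := by group
      _ = k * ((k⁻¹ * refl b * k) * (k⁻¹ * refl a * k)) * k⁻¹ := by rw [e]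
      _ = _ := by group
  have hww : (k⁻¹ * g * k) * ww = ww * (k⁻¹ * g * k) := by
    have e : ww (c := c) = neg * refl 1 := by rw [refl_one hq, ← mul_assoc, neg_sq, one_mul]
    rw [e, ← mul_assoc, ← (neg_scal (c := c)).comm (k⁻¹ * g * k), mul_assoc, hg1, ← mul_assoc]
  have hne1 : b' ≠ 1 := by rintro rfl; exact hab' rfl
  have hne2 : b' ≠ -1 := by
    rintro rfl
    apply hab'
    rw [refl_neg_one hq, refl_one hq, mul_assoc, ww_sq, mul_one, ← mul_assoc, ← (neg_scal (c := c)).comm ww,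
      mul_assoc, ww_sq, mul_one]
  have hs := scal_of_comm_one hq hb' hne1 hne2 hww hg2
  have e : g = k⁻¹ * g * k := by
    conv_lhs => rw [show g = k * (k⁻¹ * g * k) * k⁻¹ by group, ← hs.comm k, mul_assoc, mul_inv_cancel, mul_one]
  rw [e]
  exact hs

/-- All root elements and a conjugate of them by an element outside the Borel subgroup reach the centre. -/
theorem neg_mem_of_two (hq : Odd c.q) {K : Subgroup (W c)} (hup : ∀ x : X0 c, up x ∈ K) {g : W c}
    (hg : ent g 1 0 ≠ 0) (hK : ∀ x : X0 c, g * up x * g⁻¹ ∈ K) : neg ∈ K := by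
  obtain ⟨x0, a, y0, -, rfl⟩ := bruhat hg
  have hlow : ∀ x : X0 c, ww * up x * ww ∈ K := by
    intro x
    have hw : (ww : W c)⁻¹ = ww := inv_eq_of_mul_eq_one_right ww_sq
    set e : Fˣ := Units.map (c.σ : F →* F) a with he
    have hmem : (e : F) * c.σ (e : F) * x ∈ X0 c := norm_mul_X0 _ _
    have h := mul_mem (mul_mem (hup (-x0)) (hK ⟨_, hmem⟩)) (hup x0)
    have e2 : dg (c := c) a * ww = ww * dg e⁻¹ := by
      rw [ww_dg, he]
      congr 2
      ext
      simp [c.invol]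
    have key : up (-x0) * (up x0 * dg a * ww * up y0 * up ⟨_, hmem⟩ * (up x0 * dg a * ww * up y0)⁻¹) * up x0 =
        ww * (dg e⁻¹ * up ⟨_, hmem⟩ * (dg e⁻¹)⁻¹) * ww := by
      have hc : up y0 * up ⟨_, hmem⟩ * (up y0)⁻¹ = up ⟨_, hmem⟩ := by
        rw [up_add, add_comm, ← up_add, mul_inv_cancel_right]
      calc _ = (dg a * ww) * (up y0 * up ⟨_, hmem⟩ * (up y0)⁻¹) * (dg a * ww)⁻¹ := by
            have h0 : up (-x0) = (up x0)⁻¹ := eq_inv_of_mul_eq_one_left (by rw [up_add, neg_add_cancel, up_zero])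
            rw [h0]; group
        _ = (ww * dg e⁻¹) * up ⟨_, hmem⟩ * (ww * dg e⁻¹)⁻¹ := by rw [hc, e2]
        _ = _ := by rw [_root_.mul_inv_rev, hw]; group
    have hnorm : dg e⁻¹ * up ⟨_, hmem⟩ * (dg e⁻¹)⁻¹ = up x := by
      rw [dg_up e⁻¹ _ (norm_mul_X0 _ _), mul_inv_cancel_right]
      congr 1
      refine Subtype.ext ?_
      simp only [Units.val_inv_eq_inv_val, map_inv₀]
      have h1 := e.ne_zero
      have h2' : c.σ (e : F) ≠ 0 := (map_ne_zero c.σ).mpr h1
      field_simp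
    rw [key, hnorm] at h
    exact h
  obtain ⟨b0, hb, hb0⟩ := c.exists_antifixed
  have hx : b0 ∈ X0 c := by rw [mem_X0, hb0, add_neg_cancel]
  have hy : -b0⁻¹ ∈ X0 c := by rw [mem_X0, map_neg, map_inv₀, hb0, inv_neg, neg_neg, neg_add_cancel]
  have h := mul_mem (mul_mem (hup ⟨_, hx⟩) (hlow ⟨_, hy⟩)) (hup ⟨_, hx⟩)
  have hsq := mul_mem h h
  convert hsq using 1
  ext <;> simp [ent_mul, neg_ent, hb]

theorem rot_cond {e : F} (he : e * c.σ e = 1) (hq : Odd c.q) :
    (1 + e) / 2 * c.σ ((1 - e) / 2) + (1 - e) / 2 * c.σ ((1 + e) / 2) = 0 ∧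
    (1 + e) / 2 * c.σ ((1 + e) / 2) + (1 - e) / 2 * c.σ ((1 - e) / 2) = 1 := by
  have h2 := two_ne (c := c) hq
  simp only [map_div₀, map_add, map_sub, map_one, map_ofNat]
  constructor <;> field_simp
  · linear_combination -2 * he
  · linear_combination 2 * he

/-- The rotations fixing `ww`. -/
def rot (hq : Odd c.q) {e : F} (he : e * c.σ e = 1) : W c :=
  mk ((1 + e) / 2) ((1 - e) / 2) ((1 - e) / 2) ((1 + e) / 2) (rot_cond he hq).1 (rot_cond he hq).2 (by
    have := (rot_cond he hq).1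
    linear_combination this)

theorem rot_mul (hq : Odd c.q) {e d : F} (he : e * c.σ e = 1) (hd : d * c.σ d = 1)
    (hed : e * d * c.σ (e * d) = 1) : rot hq he * rot hq hd = rot hq hed := by
  have h2 := two_ne (c := c) hq
  ext <;> simp [rot, ent_mul] <;> field_simp <;> ring

theorem rot_one (hq : Odd c.q) (h : (1 : F) * c.σ 1 = 1) : rot hq h = 1 := by
  have h2 := two_ne (c := c) hq
  ext <;> simp [rot, ent_one, one_add_one_eq_two, h2]

theorem rot_ww (hq : Odd c.q) {e : F} (he : e * c.σ e = 1) : rot hq he * ww = ww * rot hq he := by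
  ext <;> simp [rot, ent_mul, ww]

end CfsgLib.U3Cent
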