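import Cfsg.Agent.Lib.U3Cent.Model
import Cfsg.Agent.Lib.ZStar.Main
import Cfsg.Agent.Lib.CyclicInt.Fusion

/-!
# The setting

A simple group and a map of `W c` onto the centraliser of the image of `neg`, with a scalar kernel of odd order.
-/

set_option autoImplicit false
set_option linter.unusedSectionVars false

namespace CfsgLib.U3Cent

open CfsgLib.PSUBorel

variable {G : Type*} [Group G] {F : Type*} [Field F] [Fintype F] {c : Conj F}

/-- The central involution. -/
def tt (f : W c →* G) : G := f neg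

/-- A noncentral involution. -/
noncomputable def uu (f : W c →* G) : G := f (refl 1)

/-- The hypothesis on `f`. -/
structure Hyp (c : Conj F) (f : W c →* G) : Prop where
  odd : Odd c.q
  range : f.range = Subgroup.centralizer {tt f}
  kers : ∀ g ∈ f.ker, IsScal g
  kero : Odd (Nat.card f.ker)

variable (c)

/-- The units of norm one. -/
def nrmOne : Subgroup Fˣ where
  carrier := {a | (a : F) * c.σ (a : F) = 1}
  one_mem' := by simp
  mul_mem' {a b} ha hb := by
    simp only [Set.mem_setOf_eq, Units.val_mul, map_mul] at *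
    linear_combination (b : F) * c.σ (b : F) * ha + hb
  inv_mem' {a} ha := by
    simp only [Set.mem_setOf_eq, Units.val_inv_eq_inv_val, map_inv₀] at *
    rw [← mul_inv, ha, inv_one]

variable {c}

theorem mem_nrmOne {a : Fˣ} : a ∈ nrmOne c ↔ (a : F) * c.σ (a : F) = 1 := Iff.rfl

/-- The image of the torus. -/
def tor (f : W c →* G) : Subgroup G := (f.comp dgHom).range

/-- The image of the scalars. -/
def scal (f : W c →* G) : Subgroup G := (nrmOne c).map (f.comp dgHom)

/-- The image of the root group. -/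
def root (f : W c →* G) : Subgroup G := (f.comp upHom).range

theorem mem_tor {f : W c →* G} {x : G} : x ∈ tor f ↔ ∃ a, f (dg a) = x := Iff.rfl

theorem mem_scal {f : W c →* G} {x : G} : x ∈ scal f ↔ ∃ a ∈ nrmOne c, f (dg a) = x := Subgroup.mem_map

theorem mem_root {f : W c →* G} {x : G} : x ∈ root f ↔ ∃ b : X0 c, f (up b) = x :=
  ⟨fun ⟨b, e⟩ => ⟨Multiplicative.toAdd b, e⟩, fun ⟨b, e⟩ => ⟨Multiplicative.ofAdd b, e⟩⟩

theorem scal_le_tor (f : W c →* G) : scal f ≤ tor f := fun _ hx => by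
  obtain ⟨a, -, e⟩ := mem_scal.mp hx
  exact mem_tor.mpr ⟨a, e⟩

/-- A scalar element is a diagonal one of norm one. -/
theorem exists_nrmOne {g : W c} (h : IsScal g) : ∃ a ∈ nrmOne c, g = dg a := by
  obtain ⟨a, x, rfl⟩ := tri h.2.1
  have h01 := h.1
  simp [ent_mul] at h01
  subst h01
  rw [up_zero, mul_one] at h ⊢
  exact ⟨a, isScal_dg.mp h, rfl⟩

theorem one_tr (hq : Odd c.q) : (1 : F) + c.σ 1 ≠ 0 := by
  rw [map_one, one_add_one_eq_two]; exact two_ne hq

theorem conj_refl_of_eq {g : W c} {a b : F} (h : g * refl a = refl b * g) : g * refl a * g⁻¹ = refl b :=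
  mul_inv_eq_iff_eq_mul.mpr h

namespace Hyp

variable {f : W c →* G} (hf : Hyp c f)
include hf

theorem two_ne' : (2 : F) ≠ 0 := two_ne hf.odd

theorem mem_cent {x : G} : x * tt f = tt f * x ↔ ∃ g, f g = x := by
  rw [← Subgroup.mem_centralizer_singleton_iff, ← hf.range]; rfl

theorem eq_one_of_sq {k : W c} (hk : k ∈ f.ker) (h : k * k = 1) : k = 1 :=
  orderOf_eq_one_iff.mp (Nat.eq_one_of_dvd_coprimes (Nat.coprime_two_left.mpr hf.kero)
    (orderOf_dvd_of_pow_eq_one (by rw [pow_two, h])) (Subgroup.orderOf_dvd_natCard _ hk))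

theorem comm_iff {g h : W c} : f g * f h = f h * f g ↔ g * h = h * g := by
  refine ⟨fun e => ?_, fun e => by rw [← map_mul, ← map_mul, e]⟩
  set k := (h * g)⁻¹ * (g * h) with hk
  have hker : k ∈ f.ker := f.mem_ker.mpr (by rw [hk, map_mul, map_inv, map_mul, map_mul, e, inv_mul_cancel])
  obtain ⟨h1, h2, h3⟩ := hf.kers k hker
  have e' : g * h = h * g * k := by rw [hk, mul_inv_cancel_left]
  have hd := congrArg (fun m : W c => m.1.1.det) e'
  simp only [Subgroup.coe_mul, Units.val_mul, Matrix.det_mul] at hd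
  rw [mul_comm g.1.1.det] at hd
  have hdet : k.1.1.det = 1 :=
    mul_left_cancel₀ (mul_ne_zero h.1.det_ne_zero g.1.det_ne_zero) (by rw [mul_one]; exact hd.symm)
  rw [Matrix.det_fin_two] at hdet
  change ent k 0 0 * ent k 1 1 - ent k 0 1 * ent k 1 0 = 1 at hdet
  rw [← h3, h1, zero_mul, sub_zero] at hdet
  have hkk : k * k = 1 := by ext <;> simp [ent_mul, ent_one, h1, h2, ← h3, hdet]
  rw [hf.eq_one_of_sq hker hkk, mul_one] at e'
  exact e'

theorem tt_sq : tt f * tt f = 1 := by rw [tt, ← map_mul, neg_sq, map_one]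

theorem tt_ne : tt f ≠ 1 := fun e => neg_ne hf.odd (hf.eq_one_of_sq (f.mem_ker.mpr e) neg_sq)

theorem tt_comm (g : W c) : f g * tt f = tt f * f g := hf.mem_cent.mpr ⟨g, rfl⟩

theorem refl_sq' {a : F} (ha : a + c.σ a ≠ 0) : f (refl a) * f (refl a) = 1 := by
  rw [← map_mul, refl_sq ha, map_one]

theorem refl_ne {a : F} (ha : a + c.σ a ≠ 0) : f (refl a) ≠ 1 := fun e =>
  refl_not_scal hf.odd ha (hf.kers _ (f.mem_ker.mpr e))

theorem refl_ne_tt {a : F} (ha : a + c.σ a ≠ 0) : f (refl a) ≠ tt f := fun e => by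
  have hker : refl a * neg ∈ f.ker := f.mem_ker.mpr (by
    rw [map_mul, e, ← hf.tt_sq]; rfl)
  have h1 : refl (c := c) a * neg * (refl a * neg) = 1 := by
    rw [mul_assoc, ← mul_assoc neg, (neg_scal (c := c)).comm, mul_assoc (refl a), neg_sq, mul_one, refl_sq ha]
  have := hf.eq_one_of_sq hker h1
  apply refl_not_scal hf.odd ha
  rw [show refl (c := c) a = neg from by
    rw [← mul_one (refl a), ← neg_sq, ← mul_assoc, this, one_mul]]
  exact neg_scal

theorem refl_inj' {a b : F} (ha : a + c.σ a ≠ 0) (hb : b + c.σ b ≠ 0) (h : f (refl a) = f (refl b)) : a = b := by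
  refine refl_inj hf.odd ha hb ?_
  have hc : refl (c := c) a * refl b = refl b * refl a := hf.comm_iff.mp (by rw [h])
  have hker : refl a * refl b ∈ f.ker := f.mem_ker.mpr (by rw [map_mul, h, hf.refl_sq' hb])
  have h1 : refl (c := c) a * refl b * (refl a * refl b) = 1 := by
    rw [mul_assoc, ← mul_assoc (refl b), ← hc, mul_assoc (refl a), refl_sq hb, mul_one, refl_sq ha]
  have := hf.eq_one_of_sq hker h1
  rw [← mul_one (refl a), ← refl_sq hb, ← mul_assoc, this, one_mul]

theorem uu_sq : uu f * uu f = 1 := hf.refl_sq' (one_tr hf.odd)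

theorem uu_ne : uu f ≠ 1 := hf.refl_ne (one_tr hf.odd)

theorem uu_ne_tt : uu f ≠ tt f := hf.refl_ne_tt (one_tr hf.odd)

theorem uu_comm : uu f * tt f = tt f * uu f := hf.tt_comm _

theorem root_inj {b : X0 c} (h : f (up b) = 1) : b = 0 := Subtype.ext (hf.kers _ (f.mem_ker.mpr h)).1

/-- An element squaring to one in the kernel comes from one squaring to one. -/
theorem exists_sq_one {g : W c} (h : f g * f g = 1) : ∃ g', f g' = f g ∧ g' * g' = 1 := by
  have hz : g * g ∈ f.ker := f.mem_ker.mpr (by rw [map_mul, h])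
  obtain ⟨k, hk⟩ := hf.kero
  have hp : (g * g) ^ (2 * k + 1) = 1 := by
    rw [← hk]; exact Subtype.mk_eq_mk.mp (pow_card_eq_one' (x := (⟨g * g, hz⟩ : f.ker)))
  refine ⟨g * (g * g) ^ k, by rw [map_mul, map_pow, map_mul, h, one_pow, mul_one], ?_⟩
  have hc : Commute g ((g * g) ^ k) := ((Commute.refl g).mul_right (Commute.refl g)).pow_right k
  calc g * (g * g) ^ k * (g * (g * g) ^ k) = g * g * ((g * g) ^ k * (g * g) ^ k) := by
        exact (hc.symm.mul_mul_mul_comm _ _)
    _ = (g * g) ^ (2 * k + 1) := by rw [← pow_add, ← pow_succ', two_mul]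
    _ = 1 := hp

theorem inv_cases {x : G} (hc : x * tt f = tt f * x) (hx : x * x = 1) :
    x = 1 ∨ x = tt f ∨ ∃ a : F, a + c.σ a ≠ 0 ∧ x = f (refl a) := by
  obtain ⟨g, rfl⟩ := hf.mem_cent.mp hc
  obtain ⟨g', e, hg'⟩ := hf.exists_sq_one hx
  rw [← e]
  rcases sq_cases hf.odd hg' with rfl | rfl | ⟨a, ha, rfl⟩
  · exact Or.inl (map_one f)
  · exact Or.inr (Or.inl rfl)
  · exact Or.inr (Or.inr ⟨a, ha, rfl⟩)

/-- The noncentral involutions form one class of the centraliser. -/
theorem refl_conj_uu {a : F} (ha : a + c.σ a ≠ 0) : ∃ h, f h * f (refl a) * (f h)⁻¹ = uu f := by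
  obtain ⟨g, hg⟩ := refl_transitive hf.odd ha
  refine ⟨g⁻¹, ?_⟩
  rw [uu, ← map_inv, inv_inv, ← map_mul, ← map_mul, mul_assoc, ← hg, inv_mul_cancel_left]

theorem not_comm : ¬ IsMulCommutative G := fun h => by
  obtain ⟨b0, hb, hb0⟩ := c.exists_antifixed
  have e : uu f * f (up ⟨b0, by rw [mem_X0, hb0, add_neg_cancel]⟩) = _ * uu f := h.is_comm.comm _ _
  have e' := hf.comm_iff.mp e
  rw [up_refl (one_tr hf.odd)] at e'
  have e'' := mul_right_cancel e'
  refine hb ?_
  have := refl_inj hf.odd (one_tr hf.odd) ?_ e''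
  · simpa using this
  · rw [map_add, sig_X0]
    have := one_tr (c := c) hf.odd
    intro e0
    exact this (by linear_combination e0)

variable [Finite G] [IsSimpleGroup G]

theorem center_bot : Subgroup.center G = ⊥ :=
  (IsSimpleGroup.eq_bot_or_eq_top_of_normal (Subgroup.center G) inferInstance).resolve_right fun e =>
    hf.not_comm ⟨⟨fun a b => (Subgroup.mem_center_iff.mp (e ▸ Subgroup.mem_top b) a)⟩⟩

theorem conj_uu : ∃ g, g * uu f * g⁻¹ = tt f := by
  by_contra hno
  have hord : orderOf (tt f) = 2 := orderOf_eq_prime (by rw [pow_two, hf.tt_sq]) hf.tt_ne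
  have hiso : Cfsg.IsIsolated (tt f) := fun g hg => by
    rcases hf.inv_cases hg.eq.symm (by
      rw [show g * tt f * g⁻¹ * (g * tt f * g⁻¹) = g * (tt f * tt f) * g⁻¹ by group, hf.tt_sq]; group) with
      h | h | ⟨a, ha, h⟩
    · exact absurd (conj_eq_one_iff.mp h) hf.tt_ne
    · exact h
    · obtain ⟨k, hk⟩ := hf.refl_conj_uu ha
      exact absurd ⟨(f k * g)⁻¹, by rw [← hk, ← h]; group⟩ hno
  have hcen : tt f ∈ Subgroup.center G := Subgroup.mem_center_iff.mpr fun g => by
    have h := CfsgLib.ZStar.commutator_mem hord hiso g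
    rw [CfsgLib.CyclicInt.pPrimeCore_eq_bot hf.not_comm, Subgroup.mem_bot, mul_inv_eq_one,
      mul_inv_eq_iff_eq_mul] at h
    exact h.symm
  rw [hf.center_bot] at hcen
  exact hf.tt_ne hcen

theorem exists_swap : ∃ s, s * tt f * s⁻¹ = uu f ∧ s * uu f * s⁻¹ = tt f := by
  obtain ⟨g, hg⟩ := hf.conj_uu
  have hc : g * tt f * g⁻¹ * tt f = tt f * (g * tt f * g⁻¹) :=
    calc g * tt f * g⁻¹ * tt f = g * (tt f * uu f) * g⁻¹ := by rw [← hg]; group
      _ = g * (uu f * tt f) * g⁻¹ := by rw [hf.uu_comm]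
      _ = g * uu f * g⁻¹ * (g * tt f * g⁻¹) := by group
      _ = _ := by rw [hg]
  rcases hf.inv_cases hc (by
      rw [show g * tt f * g⁻¹ * (g * tt f * g⁻¹) = g * (tt f * tt f) * g⁻¹ by group, hf.tt_sq]; group) with
    h | h | ⟨a, ha, h⟩
  · exact absurd (conj_eq_one_iff.mp h) hf.tt_ne
  · exact absurd (conj_injective (h.trans hg.symm)).symm hf.uu_ne_tt
  · obtain ⟨k, hk⟩ := hf.refl_conj_uu ha
    refine ⟨f k * g, by rw [← hk, ← h]; group, ?_⟩
    have hct : f k * tt f * (f k)⁻¹ = tt f := by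
      rw [mul_inv_eq_iff_eq_mul]; exact hf.tt_comm k
    rw [show f k * g * uu f * (f k * g)⁻¹ = f k * (g * uu f * g⁻¹) * (f k)⁻¹ by group, hg, hct]

omit [Finite G] [IsSimpleGroup G] in
/-- The setting is invariant under conjugation. -/
theorem conj (g : G) : Hyp c ((MulAut.conj g).toMonoidHom.comp f) := by
  have hk : ((MulAut.conj g).toMonoidHom.comp f).ker = f.ker := by
    ext x; simp [MonoidHom.mem_ker]
  refine ⟨hf.odd, ?_, hk ▸ hf.kers, hk ▸ hf.kero⟩
  ext x
  rw [Subgroup.mem_centralizer_singleton_iff]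
  constructor
  · rintro ⟨y, rfl⟩
    have e := hf.tt_comm y
    simp only [tt, MonoidHom.comp_apply, MulEquiv.toMonoidHom_eq_coe, MonoidHom.coe_coe, MulAut.conj_apply]
    simp only [tt] at e
    rw [show ∀ a b : G, g * a * g⁻¹ * (g * b * g⁻¹) = g * (a * b) * g⁻¹ from fun a b => by group, e]
    group
  · intro hx
    obtain ⟨y, hy⟩ := (hf.mem_cent (x := g⁻¹ * x * g)).mp (by
      simp only [tt, MonoidHom.comp_apply, MulEquiv.toMonoidHom_eq_coe, MonoidHom.coe_coe, MulAut.conj_apply] at hx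
      simp only [tt]
      calc g⁻¹ * x * g * f neg = g⁻¹ * (x * (g * f neg * g⁻¹)) * g := by group
        _ = _ := by rw [hx]; group)
    exact ⟨y, by simp [MulAut.conj_apply, hy]; group⟩

omit [Finite G] [IsSimpleGroup G] in
theorem conj_tt_eq (g : G) : tt ((MulAut.conj g).toMonoidHom.comp f) = g * tt f * g⁻¹ := rfl

end Hyp

end CfsgLib.U3Cent
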