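import Cfsg.Agent.Lib.U3Cent.Numbers

/-!
# The action on the points

The radical is regular on the points other than the base point, and two points are fixed by a unique involution.
-/

set_option autoImplicit false
set_option linter.unusedSectionVars false
set_option linter.style.haveILetI false

namespace CfsgLib.U3Cent

open CfsgLib.PSUBorel

universe u v

variable {G : Type u} [Group G] {F : Type v} [Field F] [Fintype F] {c : Conj F}

/-- The points. -/
abbrev Pts (f : W c →* G) : Type u := G ⧸ nrm f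

/-- The base point. -/
def bx (f : W c →* G) : Pts f := QuotientGroup.mk 1

/-- The second base point. -/
def by0 (f : W c →* G) : Pts f := f ww • bx f

theorem smul_bx {f : W c →* G} {g : G} : g • bx f = bx f ↔ g ∈ nrm f := by
  show (QuotientGroup.mk (g * 1) : Pts f) = QuotientGroup.mk 1 ↔ _
  rw [mul_one, QuotientGroup.eq, mul_one, inv_mem_iff]

theorem ww_bx (f : W c →* G) : f ww • bx f = by0 f := rfl

theorem ww_by0 (f : W c →* G) : f ww • by0 f = bx f := by
  rw [by0, smul_smul, ← map_mul, ww_sq, map_one, one_smul]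

variable [Finite G] [IsSimpleGroup G] {p n : ℕ} [hp : Fact p.Prime]

namespace Rad

variable {f : W c →* G} {R : Subgroup G} (hR : Rad p n f R)
include hR

theorem R_le_nrm : R ≤ nrm f := hR.le_cx.trans (cx_le_nrm f)

theorem odd_R : Odd (Nat.card R) := hR.card_R ▸ hR.hyp.odd.pow

theorem isPGroup : IsPGroup p R := IsPGroup.of_card (hR.card_R.trans (by rw [hR.hq, ← pow_mul]))

theorem tt_by0 : tt f • by0 f = by0 f := by
  rw [by0, smul_smul, ← hR.hyp.tt_comm ww, ← smul_smul, smul_bx.mpr (bor_le_nrm f (tt_mem_bor f))]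

theorem conj_ww_bor {g : W c} (h : f ww * f g * f ww ∈ bor f) : ent g 0 1 = 0 := by
  obtain ⟨m, hm, e⟩ := h
  rw [← map_mul, ← map_mul] at e
  have hk : m⁻¹ * (ww * g * ww) ∈ f.ker := f.mem_ker.mpr (by rw [map_mul, map_inv, e, inv_mul_cancel])
  have h10 : ent (ww * g * ww) 1 0 = 0 := by
    rw [← mul_inv_cancel_left m (ww * g * ww), ← mem_borW]
    exact mul_mem hm (hR.hyp.borW_ker hk)
  simpa [ent_mul] using h10

/-- The radical acts semiregularly off the base point. -/
theorem eq_one_of_fix {z : G} (hz : z ∈ R) (hfix : z • by0 f = by0 f) : z = 1 := by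
  have hf := hR.hyp
  have hti : (tt f)⁻¹ = tt f := inv_eq_of_mul_eq_one_right hf.tt_sq
  have htR : ∀ x ∈ R, tt f * x * tt f ∈ R := fun x hx => by
    have := hR.normal _ (bor_le_nrm f (tt_mem_bor f)) x hx
    rwa [hti] at this
  have hmem : ∀ g : G, g • by0 f = by0 f → f ww * g * f ww ∈ nrm f := fun g hg => by
    rw [← smul_bx, ← smul_smul, ← smul_smul, ww_bx, hg, ww_by0]
  have hstab : tt f • by0 f = by0 f := hR.tt_by0
  -- the inverted part
  set w := z * (tt f * z⁻¹ * tt f) with hw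
  have hwR : w ∈ R := mul_mem hz (htR _ (inv_mem hz))
  have hwfix : w • by0 f = by0 f := by
    have hzi : z⁻¹ • by0 f = by0 f := inv_smul_eq_iff.mpr hfix.symm
    rw [hw, mul_smul, mul_smul, mul_smul, hstab, hzi, hstab, hfix]
  have hwinv : w * tt f * (w * tt f) = 1 := by
    rw [hw, show z * (tt f * z⁻¹ * tt f) * tt f = z * tt f * z⁻¹ * (tt f * tt f) by group, hf.tt_sq, mul_one,
      show z * tt f * z⁻¹ * (z * tt f * z⁻¹) = z * (tt f * tt f) * z⁻¹ by group, hf.tt_sq]
    group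
  have hw1 : w * tt f ≠ 1 := fun e => by
    have h := Subgroup.orderOf_dvd_natCard R hwR
    rw [eq_inv_of_mul_eq_one_left e, hti, orderOf_eq_prime (by rw [pow_two, hf.tt_sq]) hf.tt_ne] at h
    exact Nat.not_even_iff_odd.mpr hR.odd_R (even_iff_two_dvd.mpr h)
  have hwt : w * tt f = tt f := by
    set u := w * tt f with hu
    have huN : u ∈ nrm f := mul_mem (hR.R_le_nrm hwR) (bor_le_nrm f (tt_mem_bor f))
    have hu' : f ww * u * f ww ∈ nrm f := hmem u (by rw [hu, mul_smul, hstab, hwfix])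
    have hww1 : f ww * f ww = 1 := by rw [← map_mul, ww_sq, map_one]
    have hc1 := mem_cx.mp (hf.inv_mem_cx hR.hq hR.hn huN hwinv)
    have hc2 := mem_cx.mp (hf.inv_mem_cx hR.hq hR.hn hu' (by
      calc f ww * u * f ww * (f ww * u * f ww) = f ww * u * (f ww * f ww) * u * f ww := by group
        _ = f ww * (u * u) * f ww := by rw [hww1]; group
        _ = 1 := by rw [hwinv, mul_one, hww1]))
    have hK : neg ∈ (Subgroup.centralizer ({u} : Set G)).comap f := by
      refine neg_mem_of_two hf.odd (fun b => Subgroup.mem_centralizer_singleton_iff.mpr (hc1 b).symm) (g := ww)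
        (by simp) fun b => Subgroup.mem_centralizer_singleton_iff.mpr ?_
      rw [map_mul, map_mul, map_inv, inv_eq_of_mul_eq_one_right hww1]
      calc f ww * f (up b) * f ww * u = f ww * (f (up b) * (f ww * u * f ww)) * f ww := by
            rw [show f ww * (f (up b) * (f ww * u * f ww)) * f ww =
              f ww * f (up b) * f ww * u * (f ww * f ww) by group, hww1, mul_one]
        _ = f ww * (f ww * u * f ww * f (up b)) * f ww := by rw [hc2 b]
        _ = f ww * f ww * u * (f ww * f (up b) * f ww) := by group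
        _ = u * (f ww * f (up b) * f ww) := by rw [hww1, one_mul]
    exact hf.inv_nrm hR.hq hR.hn huN hwinv hw1 (Subgroup.mem_centralizer_singleton_iff.mp hK).symm
  have hw1' : w = 1 := mul_right_cancel (hwt.trans (one_mul _).symm)
  have hzt : z * tt f = tt f * z :=
    calc z * tt f = w * (tt f * z) := by rw [hw, show z * (tt f * z⁻¹ * tt f) * (tt f * z) =
            z * tt f * z⁻¹ * (tt f * tt f) * z by group, hf.tt_sq]; group
      _ = tt f * z := by rw [hw1', one_mul]
  have hzroot : z ∈ root f := by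
    rw [← hR.cent]; exact ⟨hz, Subgroup.mem_centralizer_singleton_iff.mpr hzt⟩
  obtain ⟨b, rfl⟩ := mem_root.mp hzroot
  have hb := hR.conj_ww_bor (g := up b) ((hf.mem_bor_iff hR.hq hR.hn).mpr ⟨hmem _ hfix, by
    rw [← map_mul, ← map_mul]; exact hf.tt_comm _⟩)
  rw [show b = 0 from Subtype.ext hb, up_zero, map_one]

theorem by0_ne : by0 f ≠ bx f := fun e => by
  obtain ⟨b0, hb, hb0⟩ := c.exists_antifixed
  have h : f (up ⟨b0, by rw [mem_X0, hb0, add_neg_cancel]⟩) • by0 f = by0 f := by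
    rw [e]; exact smul_bx.mpr (bor_le_nrm f (up_mem_bor f _))
  exact hb (congrArg Subtype.val (hR.hyp.root_inj (hR.eq_one_of_fix (hR.root_le (mem_root.mpr ⟨_, rfl⟩)) h)))

theorem smul_ne_bx {r : G} (hr : r ∈ R) : r • by0 f ≠ bx f := fun e => by
  have h := smul_bx.mpr (hR.R_le_nrm (inv_mem hr))
  rw [← e, inv_smul_smul] at h
  exact hR.by0_ne (h.trans e)

theorem smul_inj {r r' : G} (hr : r ∈ R) (hr' : r' ∈ R) (h : r • by0 f = r' • by0 f) : r = r' := by
  have := hR.eq_one_of_fix (mul_mem (inv_mem hr') hr) (by rw [mul_smul, h, inv_smul_smul])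
  exact (inv_mul_eq_one.mp this).symm

/-- The radical is transitive off the base point. -/
theorem exists_smul {ω : Pts f} (hω : ω ≠ bx f) : ∃ r ∈ R, r • by0 f = ω := by
  classical
  haveI := Fintype.ofFinite (Pts f)
  haveI := Fintype.ofFinite R
  have hbij : Function.Bijective (fun r : R => (⟨(r : G) • by0 f, hR.smul_ne_bx r.2⟩ : {ω : Pts f // ω ≠ bx f})) := by
    refine (Fintype.bijective_iff_injective_and_card _).mpr
      ⟨fun r r' h => Subtype.ext (hR.smul_inj r.2 r'.2 (congrArg Subtype.val h :)), ?_⟩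
    rw [Fintype.card_subtype_compl, Fintype.card_subtype_eq, ← Nat.card_eq_fintype_card, ← Nat.card_eq_fintype_card,
      hR.card_R]
    show _ = (nrm f).index - 1
    rw [hR.index_nrm, Nat.add_sub_cancel]
  obtain ⟨r, hr⟩ := hbij.2 ⟨ω, hω⟩
  exact ⟨r, r.2, congrArg Subtype.val hr⟩

theorem exists_move {a b : Pts f} (hab : a ≠ b) : ∃ g : G, g • a = bx f ∧ g • b = by0 f := by
  obtain ⟨g, rfl⟩ := MulAction.exists_smul_eq G (bx f) a
  have hne : g⁻¹ • b ≠ bx f := fun e => hab (by rw [← e, smul_inv_smul])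
  obtain ⟨r, hr, e⟩ := hR.exists_smul hne
  refine ⟨r⁻¹ * g⁻¹, ?_, ?_⟩
  · rw [mul_smul, inv_smul_smul, smul_bx.mpr (hR.R_le_nrm (inv_mem hr))]
  · rw [mul_smul, ← e, inv_smul_smul]

theorem tor_by0 {x : G} (hx : x ∈ tor f) : x • by0 f = by0 f := by
  obtain ⟨a, rfl⟩ := mem_tor.mp hx
  rw [by0, smul_smul, ← map_mul, show dg a * ww = ww * dg (c := c) (Units.map (c.σ : F →* F) a)⁻¹ by
    rw [ww_dg]; congr 2; ext; simp [c.invol], map_mul, mul_smul, smul_bx.mpr (bor_le_nrm f (tor_le_bor f (mem_tor.mpr ⟨_, rfl⟩)))]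

/-- The stabiliser of the two base points. -/
theorem two_point {g : G} (h0 : g • bx f = bx f) (h1 : g • by0 f = by0 f) : g ∈ tor f := by
  obtain ⟨x, hx, b, hb, rfl⟩ := hR.decomp g (smul_bx.mp h0)
  obtain ⟨m, hm, rfl⟩ := hb
  obtain ⟨a, y, rfl⟩ := tri hm
  have hr : f (dg a) * f (up y) * (f (dg a))⁻¹ ∈ R :=
    hR.normal _ (bor_le_nrm f (tor_le_bor f ⟨a, rfl⟩)) _ (hR.root_le (mem_root.mpr ⟨y, rfl⟩))
  have e : x * f (dg a * up y) = x * (f (dg a) * f (up y) * (f (dg a))⁻¹) * f (dg a) := by rw [map_mul]; group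
  rw [e, mul_smul, hR.tor_by0 (mem_tor.mpr ⟨a, rfl⟩)] at h1
  rw [e, hR.eq_one_of_fix (mul_mem hx hr) h1, one_mul]
  exact mem_tor.mpr ⟨a, rfl⟩

/-- Two points are fixed by an involution. -/
theorem exists_inv {a b : Pts f} (hab : a ≠ b) :
    ∃ u : G, u * u = 1 ∧ u ≠ 1 ∧ u • a = a ∧ u • b = b := by
  obtain ⟨g, ha, hb⟩ := hR.exists_move hab
  have htt := smul_bx.mpr (bor_le_nrm f (tt_mem_bor f))
  refine ⟨g⁻¹ * tt f * g, ?_, fun e => hR.hyp.tt_ne ?_, ?_, ?_⟩
  · rw [show g⁻¹ * tt f * g * (g⁻¹ * tt f * g) = g⁻¹ * (tt f * tt f) * g by group, hR.hyp.tt_sq]; group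
  · calc tt f = g * (g⁻¹ * tt f * g) * g⁻¹ := by group
      _ = 1 := by rw [e]; group
  · rw [mul_smul, mul_smul, ha, htt, inv_smul_eq_iff, ha]
  · rw [mul_smul, mul_smul, hb, hR.tt_by0, inv_smul_eq_iff, hb]

/-- At most one involution fixes two points. -/
theorem inv_unique {a b : Pts f} (hab : a ≠ b) {u v : G} (hu : u * u = 1) (hu1 : u ≠ 1) (hv : v * v = 1)
    (hv1 : v ≠ 1) (hua : u • a = a) (hub : u • b = b) (hva : v • a = a) (hvb : v • b = b) : u = v := by
  obtain ⟨g, ha, hb⟩ := hR.exists_move hab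
  have key : ∀ w : G, w * w = 1 → w ≠ 1 → w • a = a → w • b = b → g * w * g⁻¹ = tt f := by
    intro w hw hw1 hwa hwb
    refine (hR.hyp.inv_tor (hR.two_point ?_ ?_) ?_).resolve_left fun e => hw1 (conj_eq_one_iff.mp e)
    · rw [mul_smul, mul_smul, inv_smul_eq_iff.mpr ha.symm, hwa, ha]
    · rw [mul_smul, mul_smul, inv_smul_eq_iff.mpr hb.symm, hwb, hb]
    · rw [show g * w * g⁻¹ * (g * w * g⁻¹) = g * (w * w) * g⁻¹ by group, hw]; group
  exact conj_injective ((key u hu hu1 hua hub).trans (key v hv hv1 hva hvb).symm)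

end Rad

end CfsgLib.U3Cent
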