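import Cfsg.Agent.Lib.U3Cent.Local

/-!
# The normaliser of the root group and the points

`nrm f` is the stabiliser of the base point, `bor f` its intersection with the centraliser of `tt f`.
-/

set_option autoImplicit false
set_option linter.unusedSectionVars false
set_option linter.style.haveILetI false

namespace CfsgLib.U3Cent

open CfsgLib.PSUBorel

universe u v

variable {G : Type u} [Group G] {F : Type v} [Field F] [Fintype F] {c : Conj F}

variable (c) in
/-- The upper triangular subgroup. -/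
def borW : Subgroup (W c) :=
  PSpBorel.ofClosed {g | ent g 1 0 = 0} (by simp [ent_one]) (by
    intro g hg h hh
    show ent (g * h) 1 0 = 0
    rw [ent_mul, show ent g 1 0 = 0 from hg, show ent h 1 0 = 0 from hh, zero_mul, mul_zero, add_zero])

theorem mem_borW {g : W c} : g ∈ borW c ↔ ent g 1 0 = 0 := Iff.rfl

/-- The stabiliser of the base point in the centraliser. -/
def bor (f : W c →* G) : Subgroup G := (borW c).map f

/-- The stabiliser of the base point. -/
def nrm (f : W c →* G) : Subgroup G := Subgroup.normalizer (root f : Set G)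

/-- The centraliser of the root group. -/
def cx (f : W c →* G) : Subgroup G := Subgroup.centralizer (root f : Set G)

theorem card_borW : Nat.card (borW c) = c.q * (c.q ^ 2 - 1) := by
  have h : Function.Bijective (fun z : Fˣ × X0 c =>
      (⟨dg z.1 * up z.2, by rw [mem_borW, ent_mul]; simp⟩ : borW c)) := by
    refine ⟨?_, fun g => ?_⟩
    · rintro ⟨a, x⟩ ⟨b, y⟩ h
      have h' : dg a * up x = dg b * up y := congrArg Subtype.val h
      have h00 := congrArg (fun g => ent g 0 0) h'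
      simp [ent_mul] at h00
      obtain rfl : a = b := Units.ext h00
      obtain rfl := up_inj (mul_left_cancel h')
      rfl
    · obtain ⟨a, x, e⟩ := tri g.2
      exact ⟨(a, x), Subtype.ext e.symm⟩
  rw [← Nat.card_congr (Equiv.ofBijective _ h), Nat.card_prod, card_units_q (c := c), card_X0, mul_comm]

theorem root_comm {f : W c →* G} {x y : G} (hx : x ∈ root f) (hy : y ∈ root f) : x * y = y * x := by
  obtain ⟨a, rfl⟩ := mem_root.mp hx
  obtain ⟨b, rfl⟩ := mem_root.mp hy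
  rw [← map_mul f, ← map_mul f, up_add, up_add, add_comm]

theorem cx_le_nrm (f : W c →* G) : cx f ≤ nrm f := Subgroup.centralizer_le_normalizer _

theorem root_le_cx (f : W c →* G) : root f ≤ cx f := fun _ hx =>
  Subgroup.mem_centralizer_iff.mpr fun _ hy => root_comm hy hx

theorem mem_cx {f : W c →* G} {x : G} : x ∈ cx f ↔ ∀ b : X0 c, x * f (up b) = f (up b) * x := by
  rw [cx, Subgroup.mem_centralizer_iff]
  exact ⟨fun h b => (h _ (mem_root.mpr ⟨b, rfl⟩)).symm, fun h y hy => by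
    obtain ⟨b, rfl⟩ := mem_root.mp hy
    exact (h b).symm⟩

theorem cx_normal (f : W c →* G) {g x : G} (hg : g ∈ nrm f) (hx : x ∈ cx f) : g * x * g⁻¹ ∈ cx f := by
  refine Subgroup.mem_centralizer_iff.mpr fun y hy => ?_
  have h := Subgroup.mem_centralizer_iff.mp hx _
    ((Subgroup.mem_normalizer_iff.mp (inv_mem hg) y).mp hy)
  rw [inv_inv] at h
  calc y * (g * x * g⁻¹) = g * (g⁻¹ * y * g * x) * g⁻¹ := by group
    _ = g * (x * (g⁻¹ * y * g)) * g⁻¹ := by rw [h]
    _ = _ := by group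

theorem up_mem_bor (f : W c →* G) (b : X0 c) : f (up b) ∈ bor f := ⟨up b, rfl, rfl⟩

theorem root_le_bor (f : W c →* G) : root f ≤ bor f := fun x hx => by
  obtain ⟨b, rfl⟩ := mem_root.mp hx
  exact up_mem_bor f b

theorem tor_le_bor (f : W c →* G) : tor f ≤ bor f := fun x hx => by
  obtain ⟨a, rfl⟩ := mem_tor.mp hx
  exact ⟨dg a, rfl, rfl⟩

theorem neg_one_nrmOne : (-1 : Fˣ) ∈ nrmOne c := by simp [mem_nrmOne]

theorem dg_conj (a : Fˣ) (x : X0 c) : dg a * up x * (dg a)⁻¹ = up ⟨_, norm_mul_X0 (a : F) x⟩ := by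
  rw [dg_up a x (norm_mul_X0 _ _), mul_inv_cancel_right]

theorem bor_le_nrm [Finite G] (f : W c →* G) : bor f ≤ nrm f := by
  rintro _ ⟨g, hg, rfl⟩
  obtain ⟨a, x, rfl⟩ := tri hg
  rw [map_mul]
  refine mul_mem (CfsgLib.A8ThreeLocal.Loc.normalises_of fun y hy => ?_)
    (Subgroup.le_normalizer (mem_root.mpr ⟨x, rfl⟩))
  obtain ⟨b, rfl⟩ := mem_root.mp hy
  rw [← map_inv, ← map_mul, ← map_mul, dg_conj]
  exact mem_root.mpr ⟨_, rfl⟩

theorem tt_mem_bor (f : W c →* G) : tt f ∈ bor f := ⟨neg, neg_ent.2.2.1, rfl⟩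

theorem bor_comm {f : W c →* G} {x : G} (hx : x ∈ bor f) (hf : Hyp c f) : x * tt f = tt f * x := by
  obtain ⟨g, -, rfl⟩ := hx
  exact hf.tt_comm g

namespace Hyp

variable {f : W c →* G} (hf : Hyp c f)
include hf

theorem tt_mem_cx : tt f ∈ cx f := mem_cx.mpr fun b => (hf.tt_comm (up b)).symm

theorem borW_ker : f.ker ≤ borW c := fun g hg => (hf.kers g hg).2.1

theorem card_bor : Nat.card (bor f) * Nat.card f.ker = c.q * (c.q ^ 2 - 1) := by
  rw [bor, ← Subgroup.range_subtype (borW c), ← MonoidHom.range_comp,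
    card_range_comp f (borW c).subtype (borW c).subtype_injective (by rw [Subgroup.range_subtype]; exact hf.borW_ker),
    card_borW]

theorem card_cent_bor :
    Nat.card (Subgroup.centralizer ({tt f} : Set G)) = (c.q + 1) * Nat.card (bor f) :=
  Nat.eq_of_mul_eq_mul_right (Nat.card_pos (α := f.ker))
    (by rw [hf.card_cent', mul_assoc, hf.card_bor]; ring)

variable [Finite G] [IsSimpleGroup G] {p n : ℕ} [hp : Fact p.Prime] (hq : c.q = p ^ n) (hn : n ≠ 0)
include hq hn

theorem mem_bor_iff {x : G} : x ∈ bor f ↔ x ∈ nrm f ∧ x * tt f = tt f * x := by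
  refine ⟨fun h => ⟨bor_le_nrm f h, bor_comm h hf⟩, fun ⟨hN, hc⟩ => ?_⟩
  obtain ⟨g, rfl⟩ := hf.mem_cent.mp hc
  obtain ⟨b0, hb, hb0⟩ := c.exists_antifixed
  set b : X0 c := ⟨b0, by rw [mem_X0, hb0, add_neg_cancel]⟩
  obtain ⟨y, hy⟩ := mem_root.mp ((Subgroup.mem_normalizer_iff.mp hN _).mp (mem_root.mpr ⟨b, rfl⟩))
  exact ⟨g, tri_of_conj (fun e => hb (congrArg Subtype.val e)) (hf.up_conj_eq hq hn hy.symm), rfl⟩

theorem refl_not_bor {a : F} (ha : a + c.σ a ≠ 0) : f (refl a) ∉ bor f := by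
  rintro ⟨g, hg, e⟩
  have hk : g⁻¹ * refl a ∈ f.ker := f.mem_ker.mpr (by rw [map_mul, map_inv, ← e, inv_mul_cancel])
  have h : ent (refl (c := c) a) 1 0 = 0 := by
    rw [← mul_inv_cancel_left g (refl a), ← mem_borW]
    exact mul_mem hg (hf.borW_ker hk)
  rw [(refl_ent ha).2.2.1, div_eq_zero_iff] at h
  exact h.elim (neg_ne_zero.mpr hf.two_ne') ha

theorem inv_nrm {z : G} (hz : z ∈ nrm f) (hzz : z * z = 1) (hz1 : z ≠ 1) (hc : z * tt f = tt f * z) :
    z = tt f := by
  rcases hf.inv_cases hc hzz with e | e | ⟨a, ha, e⟩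
  · exact absurd e hz1
  · exact e
  · exact absurd ((hf.mem_bor_iff hq hn).mpr ⟨hz, hc⟩) (e ▸ hf.refl_not_bor hq hn ha)

/-- The involutions of a subgroup of the stabiliser containing `tt` form one class. -/
theorem nrm_conj {D : Subgroup G} (hD : D ≤ nrm f) (htD : tt f ∈ D) {x : G} (hx : x ∈ D) (hxx : x * x = 1)
    (hx1 : x ≠ 1) : ∃ d ∈ D, d * x * d⁻¹ = tt f :=
  exists_conj_inv htD hf.tt_sq hf.tt_ne (fun _ hz hzz hz1 hc => hf.inv_nrm hq hn (hD hz) hzz hz1 hc) hx hxx hx1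

theorem inv_mem_cx {x : G} (hx : x ∈ nrm f) (hxx : x * x = 1) : x ∈ cx f := by
  rcases eq_or_ne x 1 with rfl | hx1
  · exact one_mem _
  obtain ⟨d, hd, e⟩ := hf.nrm_conj hq hn le_rfl (bor_le_nrm f (tt_mem_bor f)) hx hxx hx1
  rw [show x = d⁻¹ * tt f * d⁻¹⁻¹ by rw [← e]; group]
  exact cx_normal f (inv_mem hd) hf.tt_mem_cx

/-- Frattini: the stabiliser is the torus times the centraliser of the root group. -/
theorem nrm_decomp {g : G} (hg : g ∈ nrm f) : ∃ a : Fˣ, ∃ y ∈ cx f, g = f (dg a) * y := by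
  have hi : g * tt f * g⁻¹ ∈ cx f := cx_normal f hg hf.tt_mem_cx
  obtain ⟨d, hd, e⟩ := hf.nrm_conj hq hn (cx_le_nrm f) hf.tt_mem_cx hi
    (by rw [show g * tt f * g⁻¹ * (g * tt f * g⁻¹) = g * (tt f * tt f) * g⁻¹ by group, hf.tt_sq]; group)
    (fun e => hf.tt_ne (conj_eq_one_iff.mp e))
  obtain ⟨b, hb, eb⟩ := (hf.mem_bor_iff hq hn (x := d * g)).mpr ⟨mul_mem (cx_le_nrm f hd) hg, by
    calc d * g * tt f = d * (g * tt f * g⁻¹) * d⁻¹ * (d * g) := by group
      _ = tt f * (d * g) := by rw [e]⟩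
  obtain ⟨a, x, rfl⟩ := tri hb
  have h1 : f (dg a) ∈ nrm f := bor_le_nrm f (tor_le_bor f ⟨a, rfl⟩)
  refine ⟨a, (f (dg a))⁻¹ * d⁻¹ * f (dg a) * f (up x), ?_, ?_⟩
  · have h2 := cx_normal f (inv_mem h1) (inv_mem hd)
    rw [inv_inv] at h2
    exact mul_mem h2 (root_le_cx f (mem_root.mpr ⟨x, rfl⟩))
  · rw [show g = d⁻¹ * f (dg a * up x) by rw [eb]; group, map_mul]
    group

/-- `r`, the number of involutions of the stabiliser. -/
theorem index_mul : (nrm f).index * (bor f).relIndex (nrm f) =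
    (c.q + 1) * (Subgroup.centralizer ({tt f} : Set G)).index := by
  have hle : bor f ≤ Subgroup.centralizer ({tt f} : Set G) := fun x hx =>
    Subgroup.mem_centralizer_singleton_iff.mpr (bor_comm hx hf)
  have h1 := Subgroup.relIndex_mul_index hle
  have h2 := Subgroup.relIndex_mul_index (bor_le_nrm f)
  have h3 : (bor f).relIndex (Subgroup.centralizer ({tt f} : Set G)) = c.q + 1 := by
    have h := ((bor f).subgroupOf (Subgroup.centralizer ({tt f} : Set G))).card_mul_index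
    rw [Nat.card_congr (Subgroup.subgroupOfEquivOfLe hle).toEquiv, hf.card_cent_bor, mul_comm (c.q + 1)] at h
    exact Nat.eq_of_mul_eq_mul_left Nat.card_pos h
  rw [mul_comm, h2, ← h1, h3]

omit hq hn [IsSimpleGroup G] hp in
theorem card_nrm : Nat.card (nrm f) = (bor f).relIndex (nrm f) * Nat.card (bor f) := by
  have h := ((bor f).subgroupOf (nrm f)).card_mul_index
  rw [Nat.card_congr (Subgroup.subgroupOfEquivOfLe (bor_le_nrm f)).toEquiv] at h
  rw [← h, mul_comm]; rfl

/-- The involutions of the stabiliser are as many as the cosets of the stabiliser in the centraliser. -/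
theorem card_inv_nrm :
    Nat.card {x : G // x ∈ nrm f ∧ x * x = 1 ∧ x ≠ 1} = (bor f).relIndex (nrm f) := by
  let φ : nrm f ⧸ (bor f).subgroupOf (nrm f) → {x : G // x ∈ nrm f ∧ x * x = 1 ∧ x ≠ 1} := Quotient.lift
    (fun g : nrm f => ⟨(g : G) * tt f * (g : G)⁻¹, mul_mem (mul_mem g.2 (bor_le_nrm f (tt_mem_bor f))) (inv_mem g.2),
      by rw [show (g : G) * tt f * (g : G)⁻¹ * ((g : G) * tt f * (g : G)⁻¹) = g * (tt f * tt f) * (g : G)⁻¹ by group,
        hf.tt_sq]; group, fun e => hf.tt_ne (conj_eq_one_iff.mp e)⟩)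
    (fun g h hgh => Subtype.ext (by
      have hb : (g : G)⁻¹ * h ∈ bor f := (QuotientGroup.leftRel_apply (s := (bor f).subgroupOf (nrm f))).mp hgh
      show (g : G) * tt f * (g : G)⁻¹ = (h : G) * tt f * (h : G)⁻¹
      rw [show (h : G) * tt f * (h : G)⁻¹ = g * ((g : G)⁻¹ * h * tt f) * ((g : G)⁻¹ * h)⁻¹ * (g : G)⁻¹ by group,
        bor_comm hb hf]
      group))
  refine (Nat.card_congr (Equiv.ofBijective φ ⟨?_, ?_⟩)).symm
  · intro x y
    induction x using QuotientGroup.induction_on with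
    | H g =>
      induction y using QuotientGroup.induction_on with
      | H h =>
        intro e
        have e' : (g : G) * tt f * (g : G)⁻¹ = (h : G) * tt f * (h : G)⁻¹ := congrArg Subtype.val e
        refine QuotientGroup.eq.mpr ((hf.mem_bor_iff hq hn).mpr ⟨mul_mem (inv_mem g.2) h.2, ?_⟩)
        show (g : G)⁻¹ * h * tt f = tt f * ((g : G)⁻¹ * h)
        calc (g : G)⁻¹ * h * tt f = (g : G)⁻¹ * ((h : G) * tt f * (h : G)⁻¹) * h := by group
          _ = (g : G)⁻¹ * ((g : G) * tt f * (g : G)⁻¹) * h := by rw [e']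
          _ = _ := by group
  · rintro ⟨x, hx, hxx, hx1⟩
    obtain ⟨d, hd, e⟩ := hf.nrm_conj hq hn le_rfl (bor_le_nrm f (tt_mem_bor f)) hx hxx hx1
    refine ⟨QuotientGroup.mk (⟨d⁻¹, inv_mem hd⟩ : nrm f), Subtype.ext ?_⟩
    show d⁻¹ * tt f * d⁻¹⁻¹ = x
    rw [← e]; group

end Hyp

end CfsgLib.U3Cent
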