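import Cfsg.Agent.Lib.U3Cent.Slope

/-!
# There are at most three classes

A rotation commuting with `ww` and `tt` acts transitively on the classes, and its cube trivially.
-/

set_option autoImplicit false
set_option linter.unusedSectionVars false
set_option linter.style.haveILetI false

namespace CfsgLib.U3Cent

open CfsgLib.PSUBorel

universe u v

variable {G : Type u} [Group G] [Finite G] [IsSimpleGroup G] {F : Type v} [Field F] [Fintype F] {c : Conj F}
variable {p n : ℕ} [hp : Fact p.Prime]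

/-- An element commuting with `refl 1` is a scalar times a rotation. -/
theorem exists_rot (hq : Odd c.q) {k : W c} (h : k * refl 1 = refl 1 * k) :
    ∃ (a : Fˣ) (e : F) (he : e * c.σ e = 1), a ∈ nrmOne c ∧ k = dg a * rot hq he := by
  have h2 := two_ne (c := c) hq
  have hw : k * ww = ww * k := by
    rw [show ww (c := c) = neg * refl 1 by rw [refl_one hq, ← mul_assoc, neg_sq, one_mul], ← mul_assoc,
      ← (neg_scal (c := c)).comm k, mul_assoc, h, ← mul_assoc]
  have e00 := congrArg (fun m => ent m 0 0) hw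
  have e01 := congrArg (fun m => ent m 0 1) hw
  simp [ent_mul] at e00 e01
  have h1 := eq1 k
  have h0 := eq0 k
  rw [← e00, ← e01] at h1
  have hN : (ent k 0 0 + ent k 0 1) * c.σ (ent k 0 0 + ent k 0 1) = 1 := by
    rw [map_add]; linear_combination h1 + h0
  have hD : (ent k 0 0 - ent k 0 1) * c.σ (ent k 0 0 - ent k 0 1) = 1 := by
    rw [map_sub]; linear_combination h1 - h0
  have ha := left_ne_zero_of_mul_eq_one hN
  have hs := right_ne_zero_of_mul_eq_one hN
  have hne : ((Units.mk0 _ ha : Fˣ) : F) * c.σ ((Units.mk0 _ ha : Fˣ) : F) = 1 := hN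
  have he : (ent k 0 0 - ent k 0 1) / (ent k 0 0 + ent k 0 1) *
      c.σ ((ent k 0 0 - ent k 0 1) / (ent k 0 0 + ent k 0 1)) = 1 := by
    rw [map_div₀, div_mul_div_comm, hD, hN, div_one]
  refine ⟨Units.mk0 _ ha, _, he, hne, ?_⟩
  have hi : (c.σ (ent k 0 0 + ent k 0 1))⁻¹ = ent k 0 0 + ent k 0 1 := (eq_inv_of_mul_eq_one_left hN).symm
  ext <;> simp only [ent_mul, rot, mk_00, mk_01, mk_10, mk_11, dg_00, dg_01, dg_10, dg_11, Units.val_mk0, hi,
    zero_mul, add_zero, zero_add] <;> field_simp <;> first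
      | ring1
      | linear_combination (2 : F) * e00
      | linear_combination (-2 : F) * e00
      | linear_combination (2 : F) * e01
      | linear_combination (-2 : F) * e01

namespace Rad

variable {f : W c →* G} {R : Subgroup G} (hR : Rad p n f R) {π : G → F} {χ : Fˣ →* Fˣ} (hP : Proj f R π χ)
include hR hP

theorem not_root_of_ac {r : G} (hr : r ∈ R) (h1 : ac f r = 1) : r ∉ root f := fun h =>
  one_tr (c := c) hR.hyp.odd (by rw [← h1]; exact (hR.trace_eq_zero hr).mpr h)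

theorem slope_shift {r : G} (hr : r ∈ R) (h1 : ac f r = 1) (x : X0 c) :
    f (up x) * r ∈ R ∧ f (up x) * r ∉ root f ∧ cl χ (π (f (up x) * r)) = cl χ (π r) ∧
      ss f (f (up x) * r) = (x : F) := by
  have hxR : f (up x) ∈ root f := mem_root.mpr ⟨x, rfl⟩
  refine ⟨mul_mem (hR.root_le hxR) hr, fun h => hR.not_root_of_ac hP hr h1 ?_, by rw [hR.pi_root_mul hP hr], ?_⟩
  · have := mul_mem (inv_mem hxR) h
    rwa [inv_mul_cancel_left] at this
  · rw [ss, hR.ac_up_mul hr, h1, map_add, map_one, sig_X0]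
    have h2 := hR.hyp.two_ne'
    rw [show (1 : F) + x + (1 + -x) = 2 by ring, show (1 : F) + x - (1 + -x) = 2 * x by ring,
      mul_div_cancel_left₀ _ h2]

/-- Every class has a point with coordinate one. -/
theorem exists_one (u : Fˣ) : ∃ r ∈ R, ac f r = 1 ∧ cl χ (π r) = cl χ (u : F) := by
  obtain ⟨y, hy, hy', hπ⟩ := hR.exists_rep hP (u : F)
  have hy0 : π y ≠ 0 := hπ ▸ u.ne_zero
  have hg0 : ac f y ≠ 0 := hR.ac_ne_zero hy fun e => hy0 (e ▸ hR.pi_one hP)
  obtain ⟨w, hw⟩ := c.exists_norm (d := (ac f y)⁻¹) (by rw [map_inv₀, hR.ac_fixed hP hy hy'])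
  have hw0 : w ≠ 0 := fun e => inv_ne_zero hg0 (by rw [← hw, e, zero_mul])
  refine ⟨f (dg (Units.mk0 w hw0)) * y * (f (dg (Units.mk0 w hw0)))⁻¹,
    hR.normal _ (bor_le_nrm f (tor_le_bor f (mem_tor.mpr ⟨_, rfl⟩))) _ hy, ?_, ?_⟩
  · rw [hR.ac_tor hy, Units.val_mk0, hw, inv_mul_cancel₀ hg0]
  · rw [hP.equiv _ y hy, cl_mul χ _ hy0, hπ]

omit hP in
theorem ac_eq_one_iff {r : G} (hr : r ∈ R) : ac f r = 1 ↔ uu f • r • by0 f = r • by0 f := by
  refine ⟨fun h => ?_, fun h => hR.ac_eq (Or.inr ⟨one_tr hR.hyp.odd, h⟩)⟩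
  rcases hR.ac_spec hr with ⟨x, e, -⟩ | ⟨-, hfix⟩
  · exact absurd (mem_X0.mp x.2) (by rw [e, h]; exact one_tr hR.hyp.odd)
  · rwa [h] at hfix

/-- At most three classes. -/
theorem index_le_three : χ.range.index ≤ 3 := by
  classical
  have hf := hR.hyp
  obtain ⟨e0, he0⟩ := IsCyclic.exists_generator (α := nrmOne c)
  set h := f (rot hf.odd (e := ((e0 : Fˣ) : F)) e0.2) with hh
  have hht : h * tt f = tt f * h := hf.tt_comm _
  have hhu : h * uu f = uu f * h := hR.rot_comm_uu _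
  obtain ⟨r0, hr0, h10, -⟩ := hR.exists_one hP 1
  -- the points `h ^ m • r0 • y`
  have hstep : ∀ r ∈ R, ac f r = 1 → ∃ r' ∈ R, ac f r' = 1 ∧ h • r • by0 f = r' • by0 f := by
    intro r hr h1
    have hfix : uu f • h • r • by0 f = h • r • by0 f := by
      rw [smul_smul, ← hhu, mul_smul, (hR.ac_eq_one_iff hr).mp h1]
    have hne : h • r • by0 f ≠ bx f := fun e => by
      rw [e, smul_bx] at hfix
      exact hf.refl_not_bor hR.hq hR.hn (one_tr hf.odd)
        ((hf.mem_bor_iff hR.hq hR.hn).mpr ⟨hfix, hf.uu_comm⟩)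
    obtain ⟨r', hr', e⟩ := hR.exists_smul hne
    rw [← e] at hfix
    exact ⟨r', hr', (hR.ac_eq_one_iff hr').mpr hfix, e.symm⟩
  choose nx hnx1 hnx2 hnx3 using hstep
  let sq : ℕ → {r : G // r ∈ R ∧ ac f r = 1} := fun m =>
    Nat.rec ⟨r0, hr0, h10⟩ (fun _ r => ⟨nx r.1 r.2.1 r.2.2, hnx1 _ _ _, hnx2 _ _ _⟩) m
  have hsq : ∀ m, h • (sq m).1 • by0 f = (sq (m + 1)).1 • by0 f := fun m => hnx3 _ _ _
  have hpow : ∀ m, h ^ m • r0 • by0 f = (sq m).1 • by0 f := by
    intro m
    induction m with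
    | zero => rw [pow_zero, one_smul]; rfl
    | succ m ih => rw [pow_succ', mul_smul, ih, hsq]
  set k : ℕ → Fˣ ⧸ χ.range := fun m => cl χ (π (sq m).1) with hk
  have hnr : ∀ m, (sq m).1 ∉ root f := fun m => hR.not_root_of_ac hP (sq m).2.1 (sq m).2.2
  have hper : ∀ m, k (m + 3) = k m := by
    rcases hR.fix_cases (ω := h • bx f) (by
      rw [smul_smul, ← hht, mul_smul, smul_bx.mpr (bor_le_nrm f (tt_mem_bor f))]) with e | ⟨η, e⟩
    · have hb : h ∈ bor f := (hf.mem_bor_iff hR.hq hR.hn).mpr ⟨smul_bx.mp e, hht⟩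
      have hone : ∀ m, k (m + 1) = k m := fun m => by
        show cl χ (π (sq (m + 1)).1) = _
        rw [← hR.idx_smul (sq (m + 1)).2.1, ← hsq m, hR.cls_bor hP hb (sq m).2.1 (hnr m)]
      intro m
      exact (hone (m + 2)).trans ((hone (m + 1)).trans (hone m))
    -- one step is the exchange at slope `η`
    have hbk : (f (up η) * f ww)⁻¹ * h ∈ bor f := by
      refine (hf.mem_bor_iff hR.hq hR.hn).mpr ⟨?_, ?_⟩
      · rw [← smul_bx, mul_smul, e, inv_smul_eq_iff, mul_smul, ww_bx]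
      · rw [← _root_.map_mul, ← map_inv]
        exact Commute.mul_left (hf.tt_comm _) hht
    have hone : ∀ m, ∀ z ∈ R, z ∉ root f → cl χ (π z) = k m → ss f z = -(η : F) →
        cl χ (π (jr f R z⁻¹)) = k (m + 1) := by
      intro m z hz hzx hc hs
      obtain ⟨w1, w2, w3, w4⟩ := hR.slope_shift hP (sq (m + 1)).2.1 (sq (m + 1)).2.2 (-η)
      set w := f (up (-η)) * (sq (m + 1)).1
      have hw1 : w ≠ 1 := fun h' => w2 (h' ▸ one_mem _)
      obtain ⟨j1, -, j3, -⟩ := hR.jr_spec w1 hw1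
      have hclass : cl χ (π (jr f R w)) = k m := by
        rw [← hR.idx_smul j1, ← j3]
        have e' : f ww • w • by0 f = ((f (up η) * f ww)⁻¹ * h) • (sq m).1 • by0 f := by
          rw [mul_smul (_)⁻¹, hsq, _root_.mul_inv_rev, mul_smul (f ww)⁻¹]
          rw [show (f (up η))⁻¹ = f (up (-η)) from inv_eq_of_mul_eq_one_right
            (by rw [← _root_.map_mul, up_add, add_neg_cancel, up_zero, map_one]),
            show (f ww)⁻¹ = f ww from inv_eq_of_mul_eq_one_right (by rw [← _root_.map_mul, ww_sq, map_one]), mul_smul]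
        rw [e', hR.cls_bor hP hbk (sq m).2.1 (hnr m)]
      obtain ⟨y, hy, x, hy', ez, hπ⟩ := hR.exists_split hP hz
      have hsum := hR.ss_add_inv hP hy hy' x ez
      have hsy : ss f y = 0 := by rw [ss, hR.ac_fixed hP hy hy', sub_self, zero_div]
      have hzs : ss f z⁻¹ = (η : F) := by rw [hsy, hs] at hsum; linear_combination hsum
      rw [hR.jr_cl_congr hP (inv_mem hz) j1 (fun h' => hzx (inv_mem_iff.mp h')) (hR.jr_not_root w1 w2)
        (by rw [hR.cl_inv hP hz hzx, hc, hclass]) (by rw [hzs, hR.jr_ss w1 w2, w4, AddSubgroup.coe_neg, neg_neg]),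
        hR.jr_jr w1 hw1, w3]
    intro m
    obtain ⟨z1, z2, z3, z4⟩ := hR.slope_shift hP (sq m).2.1 (sq m).2.2 (-η)
    rw [AddSubgroup.coe_neg] at z4
    set z := f (up (-η)) * (sq m).1
    have hne : ∀ w, w ∉ root f → w⁻¹ ∉ root f ∧ w⁻¹ ≠ 1 := fun w hw =>
      ⟨fun h' => hw (inv_mem_iff.mp h'), fun h' => hw (inv_eq_one.mp h' ▸ one_mem _)⟩
    have hstep : ∀ (w : G), w ∈ R → w ∉ root f → ss f w = -(η : F) → jr f R w⁻¹ ∈ R ∧ jr f R w⁻¹ ∉ root f ∧
        ss f (jr f R w⁻¹) = -(η : F) := by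
      intro w hw hwx hws
      refine ⟨(hR.jr_spec (inv_mem hw) (hne w hwx).2).1, hR.jr_not_root (inv_mem hw) (hne w hwx).1, ?_⟩
      obtain ⟨y, hy, x, hy', ew, -⟩ := hR.exists_split hP hw
      have hsum := hR.ss_add_inv hP hy hy' x ew
      have hsy : ss f y = 0 := by rw [ss, hR.ac_fixed hP hy hy', sub_self, zero_div]
      rw [hsy, hws] at hsum
      rw [hR.jr_ss (inv_mem hw) (hne w hwx).1]
      linear_combination -hsum
    obtain ⟨a1, a2, a3⟩ := hstep z z1 z2 z4
    obtain ⟨b1, b2, b3⟩ := hstep _ a1 a2 a3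
    have c1 := hone m z z1 z2 z3 z4
    have c2 := hone (m + 1) _ a1 a2 c1 a3
    have c3 := hone (m + 2) _ b1 b2 c2 b3
    obtain ⟨a, ha⟩ := hR.rot_three z1 z2
    rw [ha, hP.equiv a z z1, cl_mul χ a (hR.pi_ne hP z1 z2), z3] at c3
    exact c3.symm
  have hmod : ∀ m, k m = k (m % 3) := by
    intro m
    induction m using Nat.strong_induction_on with
    | _ m ih =>
      rcases Nat.lt_or_ge m 3 with hm | hm
      · rw [Nat.mod_eq_of_lt hm]
      · obtain ⟨j, rfl⟩ := Nat.exists_eq_add_of_le hm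
        rw [add_comm, hper, ih j (by omega), Nat.add_mod_right]
  have hsurj : Function.Surjective (fun i : Fin 3 => k i) := by
    intro K
    induction K using QuotientGroup.induction_on with
    | H u =>
      obtain ⟨r, hr, h1, hc⟩ := hR.exists_one hP u
      obtain ⟨g, hgt, hgu, hg⟩ := hR.trans_uu ((hR.ac_eq_one_iff hr0).mp h10) ((hR.ac_eq_one_iff hr).mp h1)
      obtain ⟨j, rfl⟩ := hf.mem_cent.mp hgt
      obtain ⟨a, e, he, ha, rfl⟩ := exists_rot hf.odd (hf.comm_iff.mp hgu)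
      have hrw : ∀ mm : ℕ, ∃ hm : (((e0 ^ mm : nrmOne c) : Fˣ) : F) * c.σ (((e0 ^ mm : nrmOne c) : Fˣ) : F) = 1,
          f (rot hf.odd hm) = h ^ mm := by
        intro mm
        refine ⟨(e0 ^ mm).2, ?_⟩
        induction mm with
        | zero =>
          rw [pow_zero h]
          have : rot hf.odd (e := (((e0 ^ 0 : nrmOne c) : Fˣ) : F)) (e0 ^ 0).2 = 1 := by
            simp only [pow_zero, OneMemClass.coe_one, Units.val_one]
            exact rot_one hf.odd _
          rw [this, map_one]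
        | succ mm ih =>
          rw [pow_succ h, ← ih, hh, ← _root_.map_mul]
          congr 1
          ext <;> simp [rot, ent_mul, pow_succ] <;> field_simp [hf.two_ne'] <;> ring
      have he' : e ≠ 0 := left_ne_zero_of_mul_eq_one he
      obtain ⟨mm, hmm⟩ : ∃ mm : ℕ, e0 ^ mm = (⟨Units.mk0 e he', he⟩ : nrmOne c) :=
        Submonoid.mem_powers_iff _ _ |>.mp (mem_powers_iff_mem_zpowers.mpr (he0 _))
      obtain ⟨hm', ehm⟩ := hrw mm
      have erot : f (rot hf.odd he) = h ^ mm := by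
        rw [← ehm]
        congr 1
        ext <;> simp [rot, hmm]
      refine ⟨⟨mm % 3, Nat.mod_lt _ (by norm_num)⟩, ?_⟩
      show k (mm % 3) = _
      rw [← hmod, ← cl_mk, ← hc, ← hR.idx_smul hr, ← hg, _root_.map_mul, mul_smul, erot, hpow,
        hR.cls_bor hP (tor_le_bor f (mem_tor.mpr ⟨a, rfl⟩)) (sq mm).2.1 (hnr mm)]
  rw [Subgroup.index]
  exact (Nat.card_le_card_of_surjective _ hsurj).trans_eq (Nat.card_fin 3)

end Rad

end CfsgLib.U3Cent
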