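import Cfsg.Agent.Lib.U3Cent.Action

/-!
# The first coordinate

`ac f r` is the centre of the reflection fixing `r • y`, and the parameter of `r` if `r` is a root element.
-/

set_option autoImplicit false
set_option linter.unusedSectionVars false
set_option linter.style.haveILetI false

namespace CfsgLib.U3Cent

open CfsgLib.PSUBorel

universe u v

variable {G : Type u} [Group G] {F : Type v} [Field F] [Fintype F] {c : Conj F}

/-- `a` is the coordinate of `r`. -/
def IsA (f : W c →* G) (r : G) (a : F) : Prop :=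
  (∃ x : X0 c, (x : F) = a ∧ f (up x) = r) ∨ (a + c.σ a ≠ 0 ∧ f (refl a) • r • by0 f = r • by0 f)

open Classical in
/-- The first coordinate. -/
noncomputable def ac (f : W c →* G) (r : G) : F := Classical.epsilon (IsA f r)

theorem tr_add_X0 (a : F) (x : X0 c) : a + (x : F) + c.σ (a + (x : F)) = a + c.σ a := by
  rw [map_add, sig_X0]; ring

variable [Finite G] [IsSimpleGroup G] {p n : ℕ} [hp : Fact p.Prime]

namespace Rad

variable {f : W c →* G} {R : Subgroup G} (hR : Rad p n f R)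
include hR

theorem tt_conj_mem {r : G} (hr : r ∈ R) : tt f * r * tt f ∈ R := by
  have := hR.normal _ (bor_le_nrm f (tt_mem_bor f)) r hr
  rwa [inv_eq_of_mul_eq_one_right hR.hyp.tt_sq] at this

theorem mem_root_iff {r : G} (hr : r ∈ R) : r ∈ root f ↔ tt f • r • by0 f = r • by0 f := by
  have e : tt f • r • by0 f = (tt f * r * tt f) • by0 f := by rw [mul_smul, mul_smul, hR.tt_by0]
  rw [e]
  constructor
  · intro h
    obtain ⟨x, rfl⟩ := mem_root.mp h
    rw [← hR.hyp.tt_comm, mul_assoc, hR.hyp.tt_sq, mul_one]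
  · intro h
    have h' := hR.smul_inj (hR.tt_conj_mem hr) hr h
    rw [← hR.cent]
    refine ⟨hr, Subgroup.mem_centralizer_singleton_iff.mpr ?_⟩
    calc r * tt f = tt f * r * tt f * tt f := by rw [h']
      _ = tt f * r := by rw [mul_assoc, hR.hyp.tt_sq, mul_one]

theorem exists_isA {r : G} (hr : r ∈ R) : ∃ a, IsA f r a := by
  by_cases h : r ∈ root f
  · obtain ⟨x, hx⟩ := mem_root.mp h
    exact ⟨x, Or.inl ⟨x, rfl, hx⟩⟩
  have hf := hR.hyp
  have hne : tt f • r • by0 f ≠ r • by0 f := fun e => h ((hR.mem_root_iff hr).mpr e)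
  obtain ⟨u, hu, hu1, hua, hub⟩ := hR.exists_inv hne
  have hcu : tt f * u * tt f = u := by
    have htt : ∀ ω : Pts f, tt f • tt f • ω = ω := fun ω => by rw [smul_smul, hf.tt_sq, one_smul]
    refine hR.inv_unique hne ?_ ?_ hu hu1 ?_ ?_ hua hub
    · calc tt f * u * tt f * (tt f * u * tt f) = tt f * u * (tt f * tt f) * u * tt f := by group
        _ = tt f * (u * u) * tt f := by rw [hf.tt_sq]; group
        _ = 1 := by rw [hu, mul_one, hf.tt_sq]
    · intro e
      refine hu1 ?_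
      calc u = tt f * tt f * u * (tt f * tt f) := by rw [hf.tt_sq, one_mul, mul_one]
        _ = tt f * (tt f * u * tt f) * tt f := by group
        _ = 1 := by rw [e, mul_one, hf.tt_sq]
    · rw [mul_smul, mul_smul, htt, hub]
    · rw [mul_smul, mul_smul, hua, htt]
  have hct : u * tt f = tt f * u := by
    calc u * tt f = tt f * u * tt f * tt f := by rw [hcu]
      _ = tt f * u := by rw [mul_assoc, hf.tt_sq, mul_one]
  rcases hf.inv_cases hct hu with e | e | ⟨a, ha, e⟩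
  · exact absurd e hu1
  · exact absurd (e ▸ hub) hne
  · exact ⟨a, Or.inr ⟨ha, e ▸ hub⟩⟩

theorem refl_not_fix_root {x : X0 c} {a : F} (ha : a + c.σ a ≠ 0) :
    f (refl a) • f (up x) • by0 f ≠ f (up x) • by0 f := fun h => by
  have hf := hR.hyp
  have ha' : a + ((-x : X0 c) : F) + c.σ (a + ((-x : X0 c) : F)) ≠ 0 := by rwa [tr_add_X0]
  have hne : a + ((-x : X0 c) : F) ≠ 0 := fun e => ha' (by rw [e, map_zero, add_zero])
  have ha'' : 1 / (a + ((-x : X0 c) : F)) + c.σ (1 / (a + ((-x : X0 c) : F))) ≠ 0 := by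
    rw [one_div, map_inv₀, inv_add_inv hne ((map_ne_zero c.σ).mpr hne)]
    exact div_ne_zero ha' (mul_ne_zero hne ((map_ne_zero c.σ).mpr hne))
  refine hf.refl_not_bor hR.hq hR.hn ha'' ((hf.mem_bor_iff hR.hq hR.hn).mpr ⟨?_, hf.tt_comm _⟩)
  have e : refl (c := c) (1 / (a + ((-x : X0 c) : F))) = ww * (up (-x) * refl a * up x) * ww := by
    rw [up_refl ha (-x), mul_assoc (refl _) (up (-x)), up_add, neg_add_cancel, up_zero, mul_one, ww_refl ha',
      mul_assoc, ww_sq, mul_one]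
  rw [← smul_bx, e]
  simp only [map_mul, mul_smul]
  rw [ww_bx, h, smul_smul (f (up (-x))), ← map_mul, up_add, neg_add_cancel, up_zero, map_one, one_smul, ww_by0]

theorem isA_unique {r : G} {a a' : F} (h : IsA f r a) (h' : IsA f r a') : a = a' := by
  have hf := hR.hyp
  rcases h with ⟨x, rfl, rfl⟩ | ⟨ha, hfix⟩
  · rcases h' with ⟨y, rfl, hy⟩ | ⟨ha', hfix'⟩
    · have e : f (up (x - y)) = 1 := by
        rw [sub_eq_add_neg, ← up_add, map_mul, ← hy, ← map_mul, up_add, add_neg_cancel, up_zero, map_one]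
      rw [sub_eq_zero.mp (hf.root_inj e)]
    · exact absurd hfix' (hR.refl_not_fix_root ha')
  · rcases h' with ⟨y, rfl, rfl⟩ | ⟨ha', hfix'⟩
    · exact absurd hfix (hR.refl_not_fix_root ha)
    · obtain ⟨g, hg⟩ := MulAction.exists_smul_eq G (r • by0 f) (bx f)
      have hmem : ∀ b : F, f (refl b) • r • by0 f = r • by0 f → g * f (refl b) * g⁻¹ ∈ nrm f := fun b hb => by
        rw [← smul_bx, mul_smul, mul_smul, inv_smul_eq_iff.mpr hg.symm, hb, hg]
      have hsq : ∀ z : G, z * z = 1 → g * z * g⁻¹ * (g * z * g⁻¹) = 1 := fun z hz => by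
        rw [show g * z * g⁻¹ * (g * z * g⁻¹) = g * (z * z) * g⁻¹ by group, hz]; group
      refine hf.refl_inj' ha ha' (conj_injective (hf.fix_unique hR.hq hR.hn (hmem a hfix) (hmem a' hfix')
        (hsq _ (hf.refl_sq' ha)) (hsq _ (hf.refl_sq' ha')) (fun e => hf.refl_ne ha (conj_eq_one_iff.mp e))
        (fun e => hf.refl_ne ha' (conj_eq_one_iff.mp e)) (w := g * tt f * g⁻¹) (hsq _ hf.tt_sq)
        (fun e => hf.tt_ne (conj_eq_one_iff.mp e)) (fun e => hf.refl_ne_tt ha (conj_injective e).symm)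
        (Commute.map (hf.tt_comm _ : Commute (f (refl a)) (tt f)) (MulAut.conj g)).eq
        (Commute.map (hf.tt_comm _ : Commute (f (refl a')) (tt f)) (MulAut.conj g)).eq))

theorem ac_spec {r : G} (hr : r ∈ R) : IsA f r (ac f r) := Classical.epsilon_spec (hR.exists_isA hr)

theorem ac_eq {r : G} {a : F} (h : IsA f r a) : ac f r = a :=
  hR.isA_unique (Classical.epsilon_spec (p := IsA f r) ⟨a, h⟩) h

theorem ac_root (x : X0 c) : ac f (f (up x)) = x := hR.ac_eq (Or.inl ⟨x, rfl, rfl⟩)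

theorem ac_one : ac f (1 : G) = 0 := by
  have h := hR.ac_root 0
  rwa [up_zero, map_one] at h

theorem trace_eq_zero {r : G} (hr : r ∈ R) : ac f r + c.σ (ac f r) = 0 ↔ r ∈ root f := by
  rcases hR.ac_spec hr with ⟨x, e, hx⟩ | ⟨ha, hfix⟩
  · exact iff_of_true (e ▸ mem_X0.mp x.2) (hx ▸ mem_root.mpr ⟨x, rfl⟩)
  · refine iff_of_false ha fun h => ?_
    obtain ⟨x, rfl⟩ := mem_root.mp h
    exact hR.refl_not_fix_root ha hfix

theorem ac_up_mul {r : G} (hr : r ∈ R) (x : X0 c) : ac f (f (up x) * r) = ac f r + x := by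
  refine hR.ac_eq ?_
  rcases hR.ac_spec hr with ⟨y, e, hy⟩ | ⟨ha, hfix⟩
  · exact Or.inl ⟨x + y, by rw [← e, AddSubgroup.coe_add, add_comm], by rw [← hy, ← map_mul, up_add]⟩
  · refine Or.inr ⟨by rwa [tr_add_X0], ?_⟩
    rw [mul_smul, smul_smul (f (refl _)), ← map_mul, ← up_refl ha, map_mul, mul_smul, hfix]

theorem ac_tor {r : G} (hr : r ∈ R) (a : Fˣ) :
    ac f (f (dg a) * r * (f (dg a))⁻¹) = (a : F) * c.σ (a : F) * ac f r := by
  refine hR.ac_eq ?_
  rcases hR.ac_spec hr with ⟨y, e, hy⟩ | ⟨ha, hfix⟩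
  · exact Or.inl ⟨⟨_, norm_mul_X0 (a : F) y⟩, by rw [← e], by rw [← hy, ← map_inv, ← map_mul, ← map_mul, dg_conj]⟩
  · have hfixy : (f (dg a))⁻¹ • by0 f = by0 f := hR.tor_by0 (inv_mem (mem_tor.mpr ⟨a, rfl⟩))
    have htr : (a : F) * c.σ (a : F) * ac f r + c.σ ((a : F) * c.σ (a : F) * ac f r) =
        (a : F) * c.σ (a : F) * (ac f r + c.σ (ac f r)) := by rw [map_mul, map_mul, c.invol]; ring
    refine Or.inr ⟨?_, ?_⟩
    · rw [htr]; exact mul_ne_zero (mul_ne_zero a.ne_zero ((map_ne_zero c.σ).mpr a.ne_zero)) ha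
    · rw [mul_smul, hfixy, mul_smul, smul_smul (f (refl _)), ← map_mul, ← dg_refl ha, map_mul, mul_smul, hfix]

theorem ac_ne_zero {r : G} (hr : r ∈ R) (hr1 : r ≠ 1) : ac f r ≠ 0 := fun e => by
  rcases hR.ac_spec hr with ⟨x, ex, hx⟩ | ⟨ha, -⟩
  · rw [e] at ex
    rw [show x = 0 from Subtype.ext ex, up_zero, map_one] at hx
    exact hr1 hx.symm
  · exact ha (by rw [e, map_zero, add_zero])

/-- The action of `ww`. -/
theorem exists_ww {r : G} (hr : r ∈ R) (hr1 : r ≠ 1) :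
    ∃ r' ∈ R, r' ≠ 1 ∧ f ww • r • by0 f = r' • by0 f ∧ ac f r' = 1 / ac f r := by
  have hne : f ww • r • by0 f ≠ bx f := fun e => by
    have h := congrArg (fun ω => f ww • ω) e
    simp only [ww_bx, smul_smul (f ww) (f ww), ← map_mul, ww_sq, map_one, one_smul] at h
    exact hr1 (hR.eq_one_of_fix hr h)
  obtain ⟨r', hr', e⟩ := hR.exists_smul hne
  refine ⟨r', hr', ?_, e.symm, hR.ac_eq ?_⟩
  · rintro rfl
    rw [one_smul] at e
    have h := congrArg (fun ω => f ww • ω) e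
    simp only [ww_by0, smul_smul (f ww) (f ww), ← map_mul, ww_sq, map_one, one_smul] at h
    exact hR.smul_ne_bx hr h.symm
  rcases hR.ac_spec hr with ⟨x, ex, hx⟩ | ⟨ha, hfix⟩
  · have hx0 : (x : F) ≠ 0 := ex ▸ hR.ac_ne_zero hr hr1
    obtain ⟨y, b, z, hy, hg⟩ := bruhat (g := ww * up x * ww) (by simpa [ent_mul] using hx0)
    refine Or.inl ⟨y, by rw [hy, ← ex]; simp [ent_mul], ?_⟩
    refine hR.smul_inj (hR.root_le (mem_root.mpr ⟨y, rfl⟩)) hr' ?_
    have h1 : f (ww * up x * ww) • bx f = r' • by0 f := by rw [e, map_mul, map_mul, mul_smul, mul_smul, ww_bx, hx]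
    rw [← h1, hg, map_mul, map_mul, map_mul, mul_smul, mul_smul, mul_smul, smul_bx.mpr (bor_le_nrm f (up_mem_bor f z)),
      ww_bx, hR.tor_by0 (mem_tor.mpr ⟨b, rfl⟩)]
  · have hne0 : ac f r ≠ 0 := hR.ac_ne_zero hr hr1
    refine Or.inr ⟨?_, ?_⟩
    · rw [one_div, map_inv₀, inv_add_inv hne0 ((map_ne_zero c.σ).mpr hne0)]
      exact div_ne_zero ha (mul_ne_zero hne0 ((map_ne_zero c.σ).mpr hne0))
    · rw [e, smul_smul (f (refl _)), ← map_mul, ← ww_refl ha, map_mul, mul_smul, hfix]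

end Rad

end CfsgLib.U3Cent
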