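import Cfsg.Agent.Lib.U3Cent.Setting
import Cfsg.Agent.Lib.U3Cent.Iso
import Cfsg.Agent.Lib.Fusion.GLTwoSylow

/-!
Orders of the centraliser, its torus, its scalars and its root group.
-/

set_option autoImplicit false
set_option linter.unusedSectionVars false

namespace CfsgLib.U3Cent

open CfsgLib.PSUBorel

variable {G : Type*} [Group G] {F : Type*} [Field F] [Fintype F] {c : Conj F}

theorem card_range_comp {A : Type*} [Group A] [Finite A] (f : W c →* G) (e : A →* W c)
    (he : Function.Injective e) (hle : f.ker ≤ e.range) :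
    Nat.card (f.comp e).range * Nat.card f.ker = Nat.card A := by
  have h : Nat.card (f.comp e).ker = Nat.card f.ker := by
    rw [← MonoidHom.comap_ker, ← Subgroup.card_map_of_injective he, Subgroup.map_comap_eq_self hle]
  rw [← h, ← Subgroup.index_ker, mul_comm, Subgroup.card_mul_index]

theorem dgHom_inj : Function.Injective (dgHom : Fˣ →* W c) := fun _ _ e => dg_inj e

theorem upHom_inj : Function.Injective (upHom : Multiplicative (X0 c) →* W c) := fun _ _ e =>
  Multiplicative.toAdd.injective (up_inj e)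

theorem one_lt_q (hq : Odd c.q) : 3 ≤ c.q := by
  obtain ⟨k, hk⟩ := hq
  have h : 1 < c.q ^ 2 := c.card ▸ Fintype.one_lt_card
  rcases Nat.eq_zero_or_pos k with rfl | h0
  · simp [hk] at h
  · omega

theorem card_units_q : Nat.card Fˣ = c.q ^ 2 - 1 := by
  rw [Nat.card_units, Nat.card_eq_fintype_card, c.card]

theorem mem_nrmOne' {a : Fˣ} : a ∈ nrmOne c ↔ a ^ (c.q + 1) = 1 := by
  rw [mem_nrmOne, Units.ext_iff, Units.val_pow_eq_pow_val, pow_succ', c.hσ, Units.val_one]

theorem card_nrmOne : Nat.card (nrmOne c) = c.q + 1 := by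
  rw [show nrmOne c = (powMonoidHom (c.q + 1) : Fˣ →* Fˣ).ker from Subgroup.ext fun a => mem_nrmOne',
    IsCyclic.card_powMonoidHom_ker, card_units_q (c := c)]
  exact Nat.gcd_eq_right ⟨c.q - 1, by rw [← Nat.sq_sub_sq, one_pow]⟩

namespace Hyp

variable {f : W c →* G} (hf : Hyp c f)
include hf

theorem ker_le_scalar : f.ker ≤ (dgHom.comp (nrmOne c).subtype).range := fun g hg => by
  obtain ⟨a, ha, rfl⟩ := exists_nrmOne (hf.kers g hg)
  exact ⟨⟨a, ha⟩, rfl⟩

theorem ker_le_dg : f.ker ≤ (dgHom : Fˣ →* W c).range := hf.ker_le_scalar.trans fun _ ⟨a, e⟩ => ⟨a.1, e⟩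

theorem card_tor : Nat.card (tor f) * Nat.card f.ker = c.q ^ 2 - 1 := by
  rw [tor, card_range_comp f dgHom dgHom_inj hf.ker_le_dg, card_units_q]

omit hf in
theorem scal_eq : scal f = (f.comp (dgHom.comp (nrmOne c).subtype)).range := by
  rw [scal, ← MonoidHom.comp_assoc, MonoidHom.range_comp _ (nrmOne c).subtype, Subgroup.range_subtype]

theorem card_scal : Nat.card (scal f) * Nat.card f.ker = c.q + 1 := by
  rw [scal_eq, card_range_comp f (dgHom.comp (nrmOne c).subtype) (dgHom_inj.comp (nrmOne c).subtype_injective)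
    hf.ker_le_scalar, card_nrmOne]

theorem ker_dvd : Nat.card f.ker ∣ c.q + 1 := ⟨_, (mul_comm _ _).trans hf.card_scal |>.symm⟩

theorem card_root : Nat.card (root f) = c.q := by
  have hinj : Function.Injective (f.comp upHom) := (injective_iff_map_eq_one _).mpr fun x hx =>
    Multiplicative.toAdd.injective ((hf.root_inj hx).trans toAdd_one.symm)
  rw [root, ← Nat.card_congr (MonoidHom.ofInjective hinj).toEquiv, Nat.card_congr Multiplicative.toAdd, card_X0]

theorem card_cent : Nat.card f.range * Nat.card f.ker = c.q * ((c.q + 1) * (c.q ^ 2 - 1)) := by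
  rw [← Subgroup.index_ker, mul_comm, Subgroup.card_mul_index, card_W]

theorem card_cent' : Nat.card (Subgroup.centralizer ({tt f} : Set G)) * Nat.card f.ker =
    c.q * ((c.q + 1) * (c.q ^ 2 - 1)) := by
  rw [← hf.range, hf.card_cent]

end Hyp

end CfsgLib.U3Cent
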