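import Cfsg.Agent.Lib.Fusion.PSUBorel
import Mathlib.FieldTheory.Finite.Basic
import Mathlib.RingTheory.IntegralDomain

/-!
The normal form of the equivariant alternating form and norm of the root group: both come from a hermitian norm
after a field automorphism.
-/

set_option autoImplicit false
set_option linter.unusedSectionVars false
set_option linter.style.haveILetI false

namespace CfsgLib.U3Cent

open CfsgLib.PSUBorel

variable {F : Type*} [Field F] [Fintype F] (c : Conj F)

/-- The powers of an element of norm one of order `e` with `3 e ≥ q + 1` generate the field or have exponent two. -/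
theorem norm_one_gen (hq : Odd c.q) {ζ : Fˣ} (hζ : ζ ^ (c.q + 1) = 1) (hbig : c.q + 1 ≤ 3 * orderOf ζ)
    (S : Subring F) (hS : (ζ : F) ∈ S) : S = ⊤ ∨ orderOf ζ ≤ 2 := by
  classical
  let K : Subfield F :=
    { S with
      inv_mem' := fun x hx => by
        rcases eq_or_ne x 0 with rfl | h
        · rw [inv_zero]; exact S.zero_mem
        · have e : x⁻¹ = x ^ (Fintype.card F - 2) := by
            refine inv_eq_of_mul_eq_one_right ?_
            rw [← pow_succ', show Fintype.card F - 2 + 1 = Fintype.card F - 1 by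
              have := Fintype.one_lt_card (α := F); omega]
            exact FiniteField.pow_card_sub_one_eq_one x h
          rw [e]; exact S.pow_mem hx _ }
  haveI : Fintype K := Fintype.ofFinite K
  obtain ⟨k, hk⟩ : ∃ k, Fintype.card F = Fintype.card K ^ k := ⟨_, Module.card_eq_pow_finrank⟩
  have hord : orderOf ζ ∣ Fintype.card K - 1 := by
    refine orderOf_dvd_of_pow_eq_one ?_
    have h := FiniteField.pow_card_sub_one_eq_one (⟨(ζ : F), hS⟩ : K) (fun e => ζ.ne_zero (congrArg Subtype.val e))
    exact Units.ext (by simpa using congrArg Subtype.val h)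
  have h1 : orderOf ζ ∣ c.q + 1 := orderOf_dvd_of_pow_eq_one hζ
  have hq1 := c.one_lt
  rw [c.card] at hk
  rcases Nat.even_or_odd k with ⟨j, rfl⟩ | ⟨j, rfl⟩
  · right
    have hqK : c.q = Fintype.card K ^ j := by
      rw [← two_mul, mul_comm, pow_mul] at hk
      exact Nat.pow_left_injective two_ne_zero hk
    have h2 : orderOf ζ ∣ c.q - 1 := by
      rw [hqK]; exact hord.trans (Nat.sub_one_dvd_pow_sub_one _ _)
    have := Nat.dvd_sub h1 h2
    rw [show c.q + 1 - (c.q - 1) = 2 by omega] at this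
    exact Nat.le_of_dvd two_pos this
  · rcases Nat.eq_zero_or_pos j with rfl | hj
    · left
      rw [mul_zero, zero_add, pow_one] at hk
      rw [eq_top_iff]
      intro x _
      have hinj := (Fintype.bijective_iff_injective_and_card (Subtype.val : K → F)).mpr
        ⟨Subtype.val_injective, by rw [← hk, c.card]⟩
      obtain ⟨y, hy⟩ := hinj.2 x
      exact hy ▸ y.2
    exfalso
    obtain ⟨x, hx⟩ : ∃ x, Fintype.card K = x ^ 2 := by
      have hsq : IsSquare (Fintype.card K ^ (2 * j + 1)) := ⟨c.q, by rw [← hk, pow_two]⟩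
      obtain ⟨y, hy⟩ := hsq
      have hd : Fintype.card K ^ j ∣ y := (Nat.pow_dvd_pow_iff two_ne_zero).mp
        ⟨Fintype.card K, by rw [← pow_mul, pow_two y, ← hy, mul_comm j 2, pow_succ]⟩
      obtain ⟨z, rfl⟩ := hd
      refine ⟨z, Nat.eq_of_mul_eq_mul_left (pow_pos (Fintype.card_pos (α := K)) (2 * j)) ?_⟩
      calc Fintype.card K ^ (2 * j) * Fintype.card K = Fintype.card K ^ (2 * j + 1) := (pow_succ _ _).symm
        _ = _ := by rw [hy]; ring
    have hqx : c.q = x ^ (2 * j + 1) := by
      rw [hx, ← pow_mul, mul_comm, pow_mul] at hk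
      exact Nat.pow_left_injective two_ne_zero hk
    have hxodd : Odd x := by
      rw [hqx] at hq
      exact (Nat.odd_pow_iff (by omega)).mp hq
    have hx1 : x ≠ 1 := fun e => by rw [hqx, e, one_pow] at hq1; omega
    have hx3 : 3 ≤ x := by obtain ⟨m, rfl⟩ := hxodd; omega
    have hdvd : orderOf ζ ∣ x + 1 := by
      have ha : (orderOf ζ : ℤ) ∣ (x : ℤ) ^ 2 - 1 := by
        have := Int.natCast_dvd_natCast.mpr hord
        rw [hx, Nat.cast_sub (Nat.one_le_pow _ _ (by omega))] at this
        exact_mod_cast this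
      have hb : (orderOf ζ : ℤ) ∣ (x : ℤ) ^ (2 * j + 1) + 1 := by
        have := Int.natCast_dvd_natCast.mpr h1
        rw [hqx] at this
        exact_mod_cast this
      have hc : (x : ℤ) ^ 2 - 1 ∣ (x : ℤ) ^ (2 * j) - 1 := by
        have := sub_dvd_pow_sub_pow ((x : ℤ) ^ 2) 1 j
        rwa [one_pow, ← pow_mul] at this
      have hd : (orderOf ζ : ℤ) ∣ (x : ℤ) + 1 := by
        have := dvd_sub hb ((ha.trans hc).mul_left (x : ℤ))
        rwa [show (x : ℤ) ^ (2 * j + 1) + 1 - (x : ℤ) * ((x : ℤ) ^ (2 * j) - 1) = (x : ℤ) + 1 by ring] at this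
      exact_mod_cast hd
    have h3 := Nat.le_of_dvd (by omega) hdvd
    have h4 : x ^ 3 ≤ x ^ (2 * j + 1) := Nat.pow_le_pow_right (by omega) (by omega)
    rw [hqx] at hbig
    nlinarith [Nat.mul_le_mul hx3 hx3]

variable (χ : Fˣ →* Fˣ) (B : F → F → F)

/-- The form is a function of `σ b * b'`. -/
theorem form_eq_L (hq : Odd c.q) {p n : ℕ} [hp : Fact p.Prime] (hqp : c.q = p ^ n) (hidx : χ.range.index ≤ 3)
    (hBl : ∀ b1 b2 b', B (b1 + b2) b' = B b1 b' + B b2 b') (hBr : ∀ b b1 b2, B b (b1 + b2) = B b b1 + B b b2)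
    (hBs : ∀ b, B b b = 0)
    (hBχ : ∀ (a : Fˣ) b b', B ((χ a : F) * b) ((χ a : F) * b') = (a : F) * c.σ (a : F) * B b b') :
    (∀ b b', B b b' = B 1 (c.σ b * b')) ∧ ∀ x, c.σ x = x → B 1 x = 0 := by
  classical
  let S : Subring F :=
    { carrier := {u | ∀ b b', B (u * b) b' = B b (c.σ u * b')}
      mul_mem' := fun {u w} hu hw b b' => by
        rw [mul_assoc, hu, hw, map_mul]; congr 1; ring
      one_mem' := fun b b' => by simp
      add_mem' := fun {u w} hu hw b b' => by rw [add_mul, hBl, hu, hw, map_add, add_mul, hBr]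
      zero_mem' := fun b b' => by
        have h1 : B 0 b' = 0 := by have := hBl 0 0 b'; rw [add_zero] at this; exact left_eq_add.mp this
        have h2 : B b 0 = 0 := by have := hBr b 0 0; rw [add_zero] at this; exact left_eq_add.mp this
        simp [h1, h2]
      neg_mem' := fun {u} hu b b' => by
        have h1 := hBl (u * b) (-(u * b)) b'
        have h2 := hBr b (c.σ u * b') (-(c.σ u * b'))
        have h0 : B 0 b' = 0 := by have := hBl 0 0 b'; rw [add_zero] at this; exact left_eq_add.mp this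
        have h0' : B b 0 = 0 := by have := hBr b 0 0; rw [add_zero] at this; exact left_eq_add.mp this
        rw [add_neg_cancel, h0] at h1
        rw [add_neg_cancel, h0'] at h2
        rw [neg_mul, map_neg, neg_mul]
        linear_combination h2 - h1 - hu b b' }
  -- the image of the norm one units
  set U : Subgroup Fˣ := (powMonoidHom (c.q + 1) : Fˣ →* Fˣ).ker with hU
  have hUc : Nat.card U = c.q + 1 := by
    rw [hU, IsCyclic.card_powMonoidHom_ker, Nat.card_units, Nat.card_eq_fintype_card, c.card]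
    exact Nat.gcd_eq_right ⟨c.q - 1, by rw [← Nat.sq_sub_sq, one_pow]⟩
  obtain ⟨ζ, hζ⟩ := IsCyclic.exists_ofOrder_eq_natCard (α := U.map χ)
  obtain ⟨z, hz, hzζ⟩ := Subgroup.mem_map.mp ζ.2
  have hz' : z ^ (c.q + 1) = 1 := MonoidHom.mem_ker.mp hz
  have hbig : c.q + 1 ≤ 3 * orderOf (ζ : Fˣ) := by
    rw [Subgroup.orderOf_coe, hζ]
    have h1 : Nat.card (χ.comp U.subtype).ker * Nat.card (U.map χ) = c.q + 1 := by
      rw [← hUc, ← Subgroup.card_mul_index (χ.comp U.subtype).ker, Subgroup.index_ker, MonoidHom.range_comp,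
        Subgroup.range_subtype]
    have h2 : Nat.card χ.ker = χ.range.index := by
      have h := χ.ker.card_mul_index
      rw [Subgroup.index_ker, ← χ.range.card_mul_index, mul_comm] at h
      exact Nat.eq_of_mul_eq_mul_left Nat.card_pos h
    have h3 : Nat.card (χ.comp U.subtype).ker ≤ Nat.card χ.ker :=
      Nat.card_le_card_of_injective (fun x => ⟨(x.1 : Fˣ), x.2⟩)
        fun x y e => Subtype.ext (Subtype.ext (congrArg (fun w : χ.ker => (w : Fˣ)) e))
    rw [← h1]
    exact Nat.mul_le_mul_right _ (by omega)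
  have hσz : c.σ (z : F) * z = 1 := by
    rw [c.hσ, ← pow_succ, ← Units.val_pow_eq_pow_val, hz', Units.val_one]
  have hζS : ((ζ : Fˣ) : F) ∈ S := by
    intro b b'
    rw [← hzζ]
    have hinv : c.σ ((χ z : Fˣ) : F) * (χ z : Fˣ) = 1 := by
      rw [c.hσ, ← pow_succ, ← Units.val_pow_eq_pow_val, ← map_pow, hz', map_one, Units.val_one]
    have h := hBχ z b (c.σ ((χ z : Fˣ) : F) * b')
    rw [show ((χ z : Fˣ) : F) * (c.σ ((χ z : Fˣ) : F) * b') = c.σ ((χ z : Fˣ) : F) * (χ z : Fˣ) * b' by ring,
      hinv, one_mul, show (z : F) * c.σ (z : F) = 1 by rw [mul_comm]; exact hσz, one_mul] at h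
    exact h
  have hζn : (ζ : Fˣ) ^ (c.q + 1) = 1 := by rw [← hzζ, ← map_pow, hz', map_one]
  obtain ⟨j, hj, hσj⟩ := c.exists_antifixed
  have hB11 : ∀ x, c.σ x = x → ∀ b, B b b = 0 := fun _ _ b => hBs b
  rcases norm_one_gen c hq hζn hbig S hζS with hS | hsmall
  · have hall : ∀ u b b', B (u * b) b' = B b (c.σ u * b') := fun u => (hS ▸ Subring.mem_top u : u ∈ S)
    refine ⟨fun b b' => by have := hall b 1 b'; rwa [mul_one] at this, fun x hx => ?_⟩
    obtain ⟨u, hu⟩ := c.exists_norm hx
    have h := hall u 1 u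
    rw [mul_one, hBs, mul_comm (c.σ u), hu] at h
    exact h.symm
  · -- a prime field of three or five elements
    have hle : c.q ≤ 5 := by omega
    have hn1 : n = 1 := by
      have hp3 : 3 ≤ p := by
        rcases hp.out.eq_two_or_odd with h | h
        · subst h
          rw [hqp] at hq
          rcases Nat.eq_zero_or_pos n with rfl | hn
          · have := c.one_lt; rw [hqp] at this; simp at this
          · exact absurd ((Nat.even_pow' hn.ne').mpr even_two) (Nat.not_even_iff_odd.mpr hq)
        · have := hp.out.two_le; omega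
      rcases n with _ | _ | n
      · have := c.one_lt; rw [hqp] at this; simp at this
      · rfl
      · exfalso
        have h2 : 3 ^ 2 ≤ p ^ (n + 2) := (Nat.pow_le_pow_left hp3 2).trans (Nat.pow_le_pow_right (by omega) (by omega))
        rw [← hqp] at h2
        omega
    rw [hn1, pow_one] at hqp
    haveI : CharP F p := by
      obtain ⟨p', hp'⟩ := CharP.exists F
      haveI := hp'
      obtain ⟨k, hk, hk'⟩ := FiniteField.card F p'
      rw [c.card, hqp] at hk'
      have := (Nat.prime_dvd_prime_iff_eq hp.out hk).mp (hp.out.dvd_of_dvd_pow (hk' ▸ dvd_pow_self p two_ne_zero))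
      rwa [this]
    have hfix : ∀ x, c.σ x = x → ∃ m : ℕ, x = m := fun x hx => by
      have hmem : x ∈ (⊥ : Subfield F) := by
        rw [Subfield.mem_bot_iff_pow_eq_self F p, ← hqp, ← c.hσ]; exact hx
      rw [← ZMod.fieldRange_castHom_eq_bot (K := F) p] at hmem
      obtain ⟨k, hk⟩ := hmem
      exact ⟨k.val, by rw [← hk, ZMod.castHom_apply, ZMod.natCast_val]⟩
    have hnl : ∀ (m : ℕ) b b', B ((m : F) * b) b' = (m : F) * B b b' := by
      intro m b b'
      induction m with
      | zero =>
        have := hBl 0 0 b'; rw [add_zero] at this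
        simp [left_eq_add.mp this]
      | succ m ih => push_cast; rw [add_mul, one_mul, hBl, ih, add_mul, one_mul]
    have hnr : ∀ (m : ℕ) b b', B b ((m : F) * b') = (m : F) * B b b' := by
      intro m b b'
      induction m with
      | zero =>
        have := hBr b 0 0; rw [add_zero] at this
        simp [left_eq_add.mp this]
      | succ m ih => push_cast; rw [add_mul, one_mul, hBr, ih, add_mul, one_mul]
    have hskew : ∀ b b', B b b' = -B b' b := fun b b' => by
      have := hBs (b + b')
      rw [hBl, hBr, hBr, hBs, hBs, zero_add, add_zero] at this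
      exact eq_neg_of_add_eq_zero_left this
    have h2 : (2 : F) ≠ 0 := fun h => by
      have h2' : ((2 : ℕ) : F) = 0 := by push_cast; exact h
      rw [CharP.cast_eq_zero_iff F p, Nat.prime_dvd_prime_iff_eq hp.out Nat.prime_two] at h2'
      rw [hqp, h2'] at hq
      exact absurd hq (by decide)
    have hdec : ∀ x, ∃ a b : ℕ, x = (a : F) + (b : F) * j := fun x => by
      obtain ⟨a, ha⟩ := hfix ((x + c.σ x) / 2) (by rw [map_div₀, map_add, c.invol, map_ofNat, add_comm])
      obtain ⟨b, hb⟩ := hfix ((x - c.σ x) / (2 * j)) (by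
        rw [map_div₀, map_sub, c.invol, map_mul, map_ofNat, hσj, mul_neg, div_neg, ← neg_div, neg_sub])
      exact ⟨a, b, by rw [← ha, ← hb]; field_simp; ring⟩
    have hex : ∀ a b a' b' : ℕ,
        B ((a : F) + (b : F) * j) ((a' : F) + (b' : F) * j) = ((a : F) * b' - (b : F) * a') * B 1 j := by
      intro a b a' b'
      have ha : B (a : F) ((a' : F) + (b' : F) * j) = (a : F) * b' * B 1 j := by
        rw [← mul_one (a : F), hnl, hBr, ← mul_one (a' : F), hnr, hBs, hnr]; ring
      rw [hBl, ha, hnl, hBr, hnr, ← mul_one (a' : F), hnr, hBs, hskew j 1]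
      ring
    have hfix0 : ∀ x, c.σ x = x → B 1 x = 0 := fun x hx => by
      obtain ⟨m, rfl⟩ := hfix x hx
      rw [← mul_one (m : F), hnr, hBs, mul_zero]
    refine ⟨fun b b' => ?_, hfix0⟩
    obtain ⟨a, b2, rfl⟩ := hdec b
    obtain ⟨a', b2', rfl⟩ := hdec b'
    rw [hex, map_add, map_mul, map_natCast, map_natCast, hσj,
      show ((a : F) + (b2 : F) * -j) * ((a' : F) + (b2' : F) * j) =
        ((a : F) * a' - (b2 : F) * b2' * (j * j)) + (((a : F) * b2' - (b2 : F) * a') * j) by ring, hBr,
      hfix0 ((a : F) * a' - (b2 : F) * b2' * (j * j)) (by simp only [map_sub, map_mul, map_natCast, hσj]; ring)]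
    obtain ⟨m, hm⟩ := hfix ((a : F) * b2' - (b2 : F) * a') (by simp [map_sub, map_mul, map_natCast])
    rw [hm, hnr, zero_add]

/-- The normal form. -/
theorem exists_normal_form (hq : Odd c.q) {p n : ℕ} [Fact p.Prime] (hqp : c.q = p ^ n) (hidx : χ.range.index ≤ 3)
    (g : F → F) (hgσ : ∀ b, c.σ (g b) = g b) (hg0 : ∀ b, b ≠ 0 → g b ≠ 0)
    (hgχ : ∀ (a : Fˣ) b, g ((χ a : F) * b) = (a : F) * c.σ (a : F) * g b)
    (hBl : ∀ b1 b2 b', B (b1 + b2) b' = B b1 b' + B b2 b') (hBr : ∀ b b1 b2, B b (b1 + b2) = B b b1 + B b b2)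
    (hBs : ∀ b, B b b = 0) (hBX : ∀ b b', B b b' + c.σ (B b b') = 0) (hB0 : ∃ b b', B b b' ≠ 0)
    (hBχ : ∀ (a : Fˣ) b b', B ((χ a : F) * b) ((χ a : F) * b') = (a : F) * c.σ (a : F) * B b b')
    (hpair : ∀ b b', b ≠ 0 → g b = g b' → b' ≠ b → b' ≠ -b →
      B b b' ^ 2 = -(4 * g (b' - b) * g (b' + b)) ∧ ∃ a : Fˣ, b' + b = (χ a : F) * (b' - b)) :
    ∃ (θ : F ≃+* F) (l : F), l ≠ 0 ∧ ∀ b b', 2 * g b = -(l * θ b * c.σ (l * θ b)) ∧
      B b b' = -(c.σ (l * θ b) * (l * θ b') - l * θ b * c.σ (l * θ b')) := by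
  classical
  obtain ⟨hBL, hLfix⟩ := form_eq_L c χ B hq hqp hidx hBl hBr hBs hBχ
  have h2 : (2 : F) ≠ 0 := fun h => by
    obtain ⟨p', hp'⟩ := CharP.exists F
    haveI := hp'
    obtain ⟨k, hk, hk'⟩ := FiniteField.card F p'
    have h' : p' ∣ 2 := (CharP.cast_eq_zero_iff F p' 2).mp (by push_cast; exact h)
    rw [(Nat.prime_dvd_prime_iff_eq hk Nat.prime_two).mp h', c.card] at hk'
    exact absurd (hk' ▸ dvd_pow_self 2 k.ne_zero) (fun hd => Nat.not_even_iff_odd.mpr hq
      (even_iff_two_dvd.mpr (Nat.prime_two.dvd_of_dvd_pow hd)))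
  obtain ⟨j, hj, hσj⟩ := c.exists_antifixed
  have hfixnorm : ∀ x : F, c.σ (x * c.σ x) = x * c.σ x := fun x => by rw [map_mul, c.invol, mul_comm]
  set N : F → F := fun x => x * c.σ x with hN
  -- multiplicativity
  have hLN : ∀ (a : Fˣ) x, B 1 (N (χ a : Fˣ) * x) = N a * B 1 x := fun a x => by
    have h := hBχ a 1 x
    rw [mul_one, hBL] at h
    rw [← h]; congr 1; simp only [hN]; ring
  obtain ⟨x0, hx0⟩ : ∃ x, B 1 x ≠ 0 := by
    obtain ⟨b, b', h⟩ := hB0
    exact ⟨_, by rwa [hBL] at h⟩
  have hkey : ∀ a a' : Fˣ, N (χ a : Fˣ) = N (χ a' : Fˣ) → N (a : F) = N a' := fun a a' h => by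
    have h1 := hLN a x0
    rw [h, hLN a' x0] at h1
    exact (mul_right_cancel₀ hx0 h1).symm
  have hsurj : ∀ y : F, c.σ y = y → y ≠ 0 → ∃ a : Fˣ, N (χ a : Fˣ) = y := by
    let FX := {y : F // c.σ y = y ∧ y ≠ 0}
    have hN0 : ∀ x : Fˣ, N (x : F) ≠ 0 := fun x => mul_ne_zero x.ne_zero ((map_ne_zero c.σ).mpr x.ne_zero)
    have hch : ∀ y : FX, ∃ a : Fˣ, N (a : F) = y.1 := fun y => by
      obtain ⟨u, hu⟩ := c.exists_norm y.2.1
      exact ⟨Units.mk0 u (fun e => y.2.2 (by rw [← hu, e, zero_mul])), hu⟩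
    choose s hs using hch
    let φ : FX → FX := fun y => ⟨N (χ (s y) : Fˣ), hfixnorm _, hN0 _⟩
    have hinj : Function.Injective φ := fun y y' e => by
      have := hkey _ _ (congrArg Subtype.val e)
      rw [hs, hs] at this
      exact Subtype.ext this
    intro y hy hy0
    obtain ⟨w, hw⟩ := (Finite.injective_iff_surjective.mp hinj) ⟨y, hy, hy0⟩
    exact ⟨s w, congrArg Subtype.val hw⟩
  have hL0 : B 1 0 = 0 := hLfix 0 (map_zero _)
  have hdec : ∀ x : F, ∃ a b : F, c.σ a = a ∧ c.σ b = b ∧ x = a + b * j := fun x =>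
    ⟨(x + c.σ x) / 2, (x - c.σ x) / (2 * j), by rw [map_div₀, map_add, c.invol, map_ofNat, add_comm], by
      rw [map_div₀, map_sub, c.invol, map_mul, map_ofNat, hσj, mul_neg, div_neg, ← neg_div, neg_sub],
      by field_simp; ring⟩
  have hLj : B 1 j ≠ 0 := fun h => by
    obtain ⟨a, b, ha, hb, hx⟩ := hdec x0
    refine hx0 ?_
    rw [hx, hBr, hLfix a ha, zero_add]
    rcases eq_or_ne b 0 with rfl | hb0
    · rw [zero_mul, hL0]
    · obtain ⟨a', ha'⟩ := hsurj b hb hb0
      rw [← ha', hLN, h, mul_zero]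
  -- the automorphism of the fixed field
  set f : F → F := fun y => B 1 (y * j) / B 1 j with hf
  have hfadd : ∀ y y', f (y + y') = f y + f y' := fun y y' => by
    simp only [hf]; rw [add_mul, hBr, add_div]
  have hf0 : f 0 = 0 := by simp only [hf]; rw [zero_mul, hL0, zero_div]
  have hfN : ∀ a : Fˣ, f (N (χ a : Fˣ)) = N a := fun a => by
    simp only [hf]; rw [hLN]; exact mul_div_cancel_right₀ _ hLj
  have hfσ : ∀ y, c.σ y = y → c.σ (f y) = f y := fun y hy => by
    rcases eq_or_ne y 0 with rfl | h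
    · rw [hf0, map_zero]
    · obtain ⟨a, rfl⟩ := hsurj y hy h
      rw [hfN, hfixnorm]
  have hfmul : ∀ y y', c.σ y = y → c.σ y' = y' → f (y * y') = f y * f y' := fun y y' hy hy' => by
    rcases eq_or_ne y 0 with rfl | h
    · rw [zero_mul, hf0, zero_mul]
    rcases eq_or_ne y' 0 with rfl | h'
    · rw [mul_zero, hf0, mul_zero]
    obtain ⟨a, rfl⟩ := hsurj y hy h
    obtain ⟨a', rfl⟩ := hsurj y' hy' h'
    rw [hfN, hfN, show N ((χ a : Fˣ) : F) * N ((χ a' : Fˣ) : F) = N ((χ (a * a') : Fˣ) : F) by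
      simp only [hN, map_mul, Units.val_mul]; ring, hfN]
    simp only [hN, Units.val_mul, map_mul]; ring
  have hf1 : f 1 = 1 := by simp only [hf, one_mul]; exact div_self hLj
  have hfinj : ∀ y, c.σ y = y → f y = 0 → y = 0 := fun y hy h => by
    by_contra h0
    obtain ⟨a, rfl⟩ := hsurj y hy h0
    rw [hfN] at h
    exact mul_ne_zero a.ne_zero ((map_ne_zero c.σ).mpr a.ne_zero) h
  have hjj : c.σ (j * j) = j * j := by rw [map_mul, hσj]; ring
  obtain ⟨j', hj'⟩ : IsSquare (f (j * j)) := by
    rcases eq_or_ne (f (j * j)) 0 with h | h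
    · exact ⟨0, by rw [h, mul_zero]⟩
    have hF2 : ringChar F ≠ 2 := fun e => h2 (by
      haveI := ringChar.of_eq e
      exact CharTwo.two_eq_zero)
    rw [FiniteField.isSquare_iff hF2 h, c.card]
    obtain ⟨m, hm⟩ := hq
    rw [show c.q ^ 2 / 2 = (c.q - 1) * (m + 1) by
      rw [hm, Nat.add_sub_cancel, show (2 * m + 1) ^ 2 = 1 + 2 * (2 * m * (m + 1)) by ring,
        Nat.add_mul_div_left _ _ two_pos, show 1 / 2 = 0 from rfl, Nat.zero_add], pow_mul]
    have h1 : f (j * j) ^ (c.q - 1) = 1 := mul_right_cancel₀ h (by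
      rw [← pow_succ, show c.q - 1 + 1 = c.q by have := c.one_lt; omega, ← c.hσ, hfσ _ hjj, one_mul])
    rw [h1, one_pow]
  have hσj' : c.σ j' = -j' := by
    have h0 : f (j * j) ≠ 0 := fun e => mul_ne_zero hj hj (hfinj _ hjj e)
    have hsq : c.σ j' * c.σ j' = j' * j' := by rw [← map_mul, ← hj', hfσ _ hjj]
    refine (mul_self_eq_mul_self_iff.mp hsq).resolve_left fun hfx => ?_
    rcases eq_or_ne j' 0 with e | e
    · exact h0 (by rw [hj', e, mul_zero])
    obtain ⟨a, ha⟩ : ∃ y, c.σ y = y ∧ f y = j' := by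
      obtain ⟨u, hu⟩ := c.exists_norm hfx
      exact ⟨N (χ (Units.mk0 u fun e' => e (by rw [← hu, e', zero_mul])) : Fˣ), hfixnorm _, by rw [hfN]; exact hu⟩
    have hz : f (a * a - j * j) = 0 := by
      have := hfadd (a * a - j * j) (j * j)
      rw [sub_add_cancel, hfmul _ _ ha.1 ha.1, ha.2, ← hj'] at this
      exact right_eq_add.mp this
    have hz' := hfinj _ (by rw [map_sub, map_mul, ha.1, hjj]) hz
    rcases mul_self_eq_mul_self_iff.mp (sub_eq_zero.mp hz') with e' | e'
    · have h := ha.1; rw [e', hσj] at h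
      exact hj ((mul_eq_zero.mp (show (2 : F) * j = 0 by linear_combination -h)).resolve_left h2)
    · have h := ha.1; rw [e', map_neg, hσj] at h
      exact hj ((mul_eq_zero.mp (show (2 : F) * j = 0 by linear_combination h)).resolve_left h2)
  have hj'0 : j' ≠ 0 := fun e => mul_ne_zero hj hj (hfinj _ hjj (by rw [hj', e, mul_zero]))
  let re : F → F := fun x => (x + c.σ x) / 2
  let im : F → F := fun x => (x - c.σ x) / (2 * j)
  have hre : ∀ x, c.σ (re x) = re x := fun x => by
    simp only [re]; rw [map_div₀, map_add, c.invol, map_ofNat, add_comm]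
  have him : ∀ x, c.σ (im x) = im x := fun x => by
    simp only [im]; rw [map_div₀, map_sub, c.invol, map_mul, map_ofNat, hσj, mul_neg, div_neg, ← neg_div, neg_sub]
  let θ0 : F →+* F :=
    { toFun := fun x => f (re x) + f (im x) * j'
      map_one' := by simp [re, im, hf0, hf1, one_add_one_eq_two, h2]
      map_mul' := fun x y => by
        have e1 : re (x * y) = re x * re y + im x * im y * (j * j) := by
          simp only [re, im, map_mul]; field_simp; ring
        have e2 : im (x * y) = re x * im y + im x * re y := by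
          simp only [re, im, map_mul]; field_simp; ring
        have hab : c.σ (re x * re y) = re x * re y := by rw [map_mul, hre, hre]
        rw [e1, e2, hfadd, hfadd, hfmul _ _ (hre x) (hre y), hfmul _ _ (by rw [map_mul, him, him]) hjj,
          hfmul _ _ (him x) (him y), hfmul _ _ (hre x) (him y), hfmul _ _ (him x) (hre y), hj']
        ring
      map_zero' := by simp [re, im, hf0]
      map_add' := fun x y => by
        rw [show re (x + y) = re x + re y by simp only [re, map_add]; ring,
          show im (x + y) = im x + im y by simp only [im, map_add]; ring, hfadd, hfadd]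
        ring }
  let θ : F ≃+* F := RingEquiv.ofBijective θ0 (Finite.injective_iff_bijective.mp θ0.injective)
  have hθ : ∀ x, θ x = f (re x) + f (im x) * j' := fun x => rfl
  have hθσ : ∀ x, θ (c.σ x) = c.σ (θ x) := fun x => by
    rw [hθ, hθ, show re (c.σ x) = re x by simp only [re, c.invol]; rw [add_comm],
      show im (c.σ x) = -im x by simp only [im, c.invol]; ring, map_add, map_mul, hfσ _ (hre x), hfσ _ (him x), hσj']
    have hneg : f (-im x) = -f (im x) := by
      have := hfadd (-im x) (im x)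
      rw [neg_add_cancel, hf0] at this
      linear_combination -this
    rw [hneg]; ring
  have hθf : ∀ y, c.σ y = y → θ y = f y := fun y hy => by
    rw [hθ, show re y = y by simp only [re, hy]; field_simp; ring, show im y = 0 by simp [im, hy], hf0, zero_mul,
      add_zero]
  -- the form in the new coordinate
  set κ : F := B 1 j / (2 * j') with hκ
  have hB : ∀ b b', B b b' = κ * (c.σ (θ b) * θ b' - θ b * c.σ (θ b')) := fun b b' => by
    obtain ⟨A, Y, hA, hY, hx⟩ := hdec (c.σ b * b')
    have hL : B b b' = f Y * B 1 j := by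
      rw [hBL, hx, hBr, hLfix A hA, zero_add]
      simp only [hf]; rw [div_mul_cancel₀ _ hLj]
    have hd : c.σ b * b' - b * c.σ b' = 2 * Y * j := by
      have hc := congrArg c.σ hx
      rw [map_mul, c.invol, map_add, map_mul, hA, hY, hσj] at hc
      linear_combination hx - hc
    have := congrArg θ hd
    rw [map_sub, map_mul, map_mul, map_mul, map_mul, hθσ, hθσ, map_ofNat, hθf Y hY,
      show θ j = j' by rw [hθ, show re j = 0 by simp [re, hσj],
        show im j = 1 by simp only [im, hσj]; field_simp; ring, hf0, hf1, zero_add, one_mul]] at this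
    rw [this, hL, hκ]; field_simp
  have hκσ : c.σ κ = κ := by
    rw [hκ, map_div₀, map_mul, map_ofNat, hσj',
      show c.σ (B 1 j) = -B 1 j by linear_combination hBX 1 j, mul_neg, neg_div_neg_eq]
  have hκ0 : κ ≠ 0 := div_ne_zero hLj (mul_ne_zero h2 hj'0)
  have hNθ : ∀ x, θ (N x) = N (θ x) := fun x => by simp only [hN]; rw [map_mul, hθσ]
  have hN0 : ∀ x : F, x ≠ 0 → N x ≠ 0 := fun x hx => mul_ne_zero hx ((map_ne_zero c.σ).mpr hx)
  have hθ0 : ∀ x : F, x ≠ 0 → θ x ≠ 0 := fun x hx => (map_ne_zero θ).mpr hx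
  set γ : F → F := fun b => g b / N (θ b) with hγ
  have hgγ : ∀ b, b ≠ 0 → g b = γ b * N (θ b) := fun b hb => by
    simp only [hγ]; rw [div_mul_cancel₀ _ (hN0 _ (hθ0 _ hb))]
  have hNχ : ∀ a : Fˣ, N (θ (χ a : Fˣ)) = N (a : F) := fun a => by
    rw [← hNθ, hθf _ (hfixnorm _), hfN]
  have hNmul : ∀ x y, N (x * y) = N x * N y := fun x y => by simp only [hN, map_mul]; ring
  have hγχ : ∀ (a : Fˣ) b, γ ((χ a : F) * b) = γ b := fun a b => by
    simp only [hγ]
    rw [hgχ, map_mul, hNmul, hNχ, mul_div_mul_left _ _ (hN0 _ a.ne_zero)]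
  -- the pair equation with equal norms
  have hpe : ∀ b b', b ≠ 0 → g b = g b' → b' ≠ b → b' ≠ -b →
      κ ^ 2 * (c.σ (θ b) * θ b' - θ b * c.σ (θ b')) ^ 2 =
        -(4 * γ (b' - b) ^ 2 * ((N (θ b') - N (θ b)) ^ 2 - (c.σ (θ b) * θ b' - θ b * c.σ (θ b')) ^ 2)) := by
    intro b b' hb hg h1 h2'
    obtain ⟨e, a, ha⟩ := hpair b b' hb hg h1 h2'
    have hm : b' - b ≠ 0 := sub_ne_zero.mpr h1
    have hp : b' + b ≠ 0 := fun h => h2' (eq_neg_of_add_eq_zero_left h)
    rw [hB, hgγ _ hm, hgγ _ hp, show γ (b' + b) = γ (b' - b) by rw [ha, hγχ]] at e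
    simp only [hN, map_add, map_sub] at e ⊢
    linear_combination e
  have hκγ : ∀ b u, b ≠ 0 → N (θ u) = 1 → u ≠ 1 → u ≠ -1 → g (u * b) = g b →
      κ ^ 2 = 4 * γ (u * b - b) ^ 2 := by
    intro b u hb hu hu1 hu2 hg
    have h1 : u * b ≠ b := fun e => hu1 (mul_right_cancel₀ hb (by rw [e, one_mul]))
    have h2' : u * b ≠ -b := fun e => hu2 (mul_right_cancel₀ hb (by rw [e, neg_one_mul]))
    have e := hpe b (u * b) hb hg.symm h1 h2'
    rw [map_mul, hNmul, hu, one_mul, sub_self, zero_pow two_ne_zero, zero_sub] at e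
    set w := c.σ (θ b) * (θ u * θ b) - θ b * c.σ (θ u * θ b) with hw
    have hw0 : w ≠ 0 := fun h => by
      rw [hw, map_mul] at h
      have h' : θ b * c.σ (θ b) * (θ u - c.σ (θ u)) = 0 := by linear_combination h
      have hu' : c.σ (θ u) = θ u :=
        (sub_eq_zero.mp ((mul_eq_zero.mp h').resolve_left (hN0 _ (hθ0 _ hb)))).symm
      simp only [hN] at hu
      rw [hu', mul_self_eq_one_iff] at hu
      rcases hu with h | h
      · exact hu1 (θ.injective (by rw [h, map_one]))
      · exact hu2 (θ.injective (by rw [h, map_neg, map_one]))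
    exact mul_right_cancel₀ (pow_ne_zero 2 hw0) (by linear_combination e)
  -- the range of `χ`
  set R := χ.range with hR
  have hmemR : ∀ r ∈ R, ∃ a : Fˣ, χ a = r := fun r hr => hr
  -- constancy
  have hconst : (∀ b b', b ≠ 0 → b' ≠ 0 → γ b = γ b') ∧ ∃ b, b ≠ 0 ∧ κ ^ 2 = 4 * γ b ^ 2 := by
    by_cases hz : ∃ u : Fˣ, u ∈ R ∧ N (u : F) = 1 ∧ (u : F) ≠ 1 ∧ (u : F) ≠ -1
    · obtain ⟨u, hu, hNu, hu1, hu2⟩ := hz
      obtain ⟨a, ha⟩ := hmemR u hu
      have hNu' : N (θ u) = 1 := by rw [← hNθ, hNu, map_one]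
      have hall : ∀ b, b ≠ 0 → κ ^ 2 = 4 * γ b ^ 2 := fun b hb => by
        have hd : (u : F) - 1 ≠ 0 := sub_ne_zero.mpr hu1
        have hb' : b / ((u : F) - 1) ≠ 0 := div_ne_zero hb hd
        have h := hκγ _ u hb' hNu' hu1 hu2 (by
          rw [← ha, hgχ]
          have : N (a : F) = 1 := by rw [← hNχ, ha, hNu']
          simp only [hN] at this
          rw [this, one_mul])
        rwa [show (u : F) * (b / ((u : F) - 1)) - b / ((u : F) - 1) = b by field_simp] at h
      refine ⟨fun b b' hb hb' => ?_, 1, one_ne_zero, hall 1 one_ne_zero⟩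
      by_contra hne
      have hneg : γ b' = -γ b := ((mul_self_eq_mul_self_iff.mp (mul_left_cancel₀
        (show (4 : F) ≠ 0 by rw [show (4 : F) = 2 * 2 by norm_num]; exact mul_ne_zero h2 h2)
        (by linear_combination (hall b hb) - hall b' hb'))).resolve_left (Ne.symm hne))
      -- move `b'` by the range to the opposite norm
      obtain ⟨v, hv⟩ := c.exists_norm (d := -(N (θ b) / N (θ b')))
        (by rw [map_neg, map_div₀, hfixnorm, hfixnorm])
      have hv0 : v ≠ 0 := fun e => by
        rw [e, zero_mul] at hv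
        exact div_ne_zero (hN0 _ (hθ0 _ hb)) (hN0 _ (hθ0 _ hb')) (neg_eq_zero.mp hv.symm)
      set b'' := (χ (Units.mk0 v hv0) : F) * b' with hb''
      have hN'' : N (θ b'') = -N (θ b) := by
        rw [hb'', map_mul, hNmul, hNχ, Units.val_mk0]
        show v * c.σ v * _ = _
        rw [hv, neg_mul, div_mul_cancel₀ _ (hN0 _ (hθ0 _ hb'))]
      have hγ'' : γ b'' = -γ b := by rw [hb'', hγχ, hneg]
      have hb''0 : b'' ≠ 0 := mul_ne_zero (Units.ne_zero _) hb'
      have hg : g b = g b'' := by rw [hgγ b hb, hgγ b'' hb''0, hN'', hγ'']; ring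
      have h4 : (4 : F) ≠ 0 := by rw [show (4 : F) = 2 * 2 by norm_num]; exact mul_ne_zero h2 h2
      have hnb : N (θ b) ≠ -N (θ b) := fun e => hN0 _ (hθ0 _ hb)
        ((mul_eq_zero.mp (show (2 : F) * N (θ b) = 0 by linear_combination e)).resolve_left h2)
      have h1' : b'' ≠ b := fun e => hnb (by rw [e] at hN''; exact hN'')
      have h2'' : b'' ≠ -b := fun e => hnb (by
        rw [e, map_neg] at hN''
        simp only [hN, map_neg, neg_mul_neg] at hN'' ⊢
        exact hN'')
      have e := hpe b b'' hb hg h1' h2''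
      rw [hall (b'' - b) (sub_ne_zero.mpr h1'), hN''] at e
      have hg0' : γ (b'' - b) ≠ 0 := by
        intro h0
        have := hall (b'' - b) (sub_ne_zero.mpr h1')
        rw [h0, zero_pow two_ne_zero, mul_zero] at this
        exact hκ0 ((pow_eq_zero_iff two_ne_zero).mp this)
      have : (4 : F) * γ (b'' - b) ^ 2 * (4 * N (θ b) ^ 2) = 0 := by linear_combination e
      rcases mul_eq_zero.mp this with h | h
      · exact mul_ne_zero h4 (pow_ne_zero 2 hg0') h
      · exact mul_ne_zero h4 (pow_ne_zero 2 (hN0 _ (hθ0 _ hb))) h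
    · -- the field with twenty-five elements
      push Not at hz
      set U : Subgroup Fˣ := (powMonoidHom (c.q + 1) : Fˣ →* Fˣ).ker with hU
      have hUc : Nat.card U = c.q + 1 := by
        rw [hU, IsCyclic.card_powMonoidHom_ker, Nat.card_units, Nat.card_eq_fintype_card, c.card]
        exact Nat.gcd_eq_right ⟨c.q - 1, by rw [← Nat.sq_sub_sq, one_pow]⟩
      have hUN : ∀ u : Fˣ, u ∈ U ↔ N (u : F) = 1 := fun u => by
        rw [hU, MonoidHom.mem_ker]
        simp only [hN, powMonoidHom_apply, c.hσ]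
        rw [← pow_succ', Units.ext_iff, Units.val_pow_eq_pow_val, Units.val_one]
      have hk : Nat.card ↥(R ⊓ U) ≤ 2 := by
        refine le_of_le_of_eq (Nat.card_le_card_of_injective
          (fun x : ↥(R ⊓ U) => (⟨((x : Fˣ) : F), ?_⟩ : ({1, -1} : Set F))) ?_) ?_
        · obtain ⟨hxR, hxU⟩ := Subgroup.mem_inf.mp x.2
          have h := hz (x : Fˣ) hxR ((hUN _).mp hxU)
          by_cases h1 : ((x : Fˣ) : F) = 1
          · exact Or.inl h1
          · exact Or.inr (h h1)
        · exact fun x y e => Subtype.ext (Units.ext (congrArg Subtype.val e))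
        · rw [Nat.card_coe_set_eq, Set.ncard_pair fun e => h2 (by linear_combination e)]
      have hFc : Nat.card Fˣ = c.q ^ 2 - 1 := by rw [Nat.card_units, Nat.card_eq_fintype_card, c.card]
      have hRc : Nat.card R * R.index = c.q ^ 2 - 1 := by rw [Subgroup.card_mul_index, hFc]
      -- the product map bounds the intersection from below
      have hprod : Nat.card U ≤ R.index * Nat.card ↥(R ⊓ U) := by
        have h3 : R.relIndex U ∣ R.index := Subgroup.relIndex_dvd_index_of_normal R U
        have h4 : Nat.card U = Nat.card ↥(R ⊓ U) * R.relIndex U := by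
          rw [← Subgroup.inf_relIndex_right R U, ← Nat.card_congr (Subgroup.subgroupOfEquivOfLe
            (inf_le_right : R ⊓ U ≤ U)).toEquiv]
          exact (Subgroup.card_mul_index _).symm
        rw [h4, mul_comm]
        exact Nat.mul_le_mul_right _ (Nat.le_of_dvd (Nat.pos_of_ne_zero Subgroup.index_ne_zero_of_finite) h3)
      rw [hUc] at hprod
      have hq56 : c.q + 1 ≤ 6 := hprod.trans (Nat.mul_le_mul hidx hk)
      have hq35 : c.q = 3 ∨ c.q = 5 := by
        have := c.one_lt
        obtain ⟨m, hm⟩ := hq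
        omega
      have hd : R.index = 3 ∧ c.q = 5 ∧ Nat.card ↥(R ⊓ U) = 2 := by
        rcases hq35 with h3 | h5
        · exfalso
          rw [h3] at hRc hprod
          -- a cyclic group of order eight
          have hdv : Nat.card ↥(R ⊓ U) * R.index ≥ 4 := by rw [mul_comm]; exact hprod
          have hi : R.index ∣ 8 := ⟨Nat.card R, by rw [mul_comm, hRc]; norm_num⟩
          have hcase : R.index = 1 ∨ R.index = 2 := by
            have h0 := R.index_ne_zero_of_finite
            interval_cases h : R.index <;> norm_num at *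
          rcases hcase with h | h
          · rw [h] at hdv; omega
          · -- squares contain the elements of norm one
            have hUR : U ≤ R := by
              intro u hu
              rw [h] at hRc
              have hR4 : Nat.card R = 4 := by omega
              have hU4 : Nat.card U = 4 := by rw [hUc, h3]
              have : R = U := by
                have e1 : R = (powMonoidHom 4 : Fˣ →* Fˣ).ker := by
                  refine Subgroup.eq_of_le_of_card_ge (fun r hr => ?_) ?_
                  · rw [MonoidHom.mem_ker, powMonoidHom_apply, ← hR4]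
                    exact congrArg Subtype.val (pow_card_eq_one' (x := (⟨r, hr⟩ : R)))
                  · rw [IsCyclic.card_powMonoidHom_ker, hFc, h3, hR4]; rfl
                rw [e1, hU, h3]
              exact this ▸ hu
            have : Nat.card U ≤ Nat.card ↥(R ⊓ U) := Subgroup.card_le_of_le (le_inf hUR le_rfl)
            rw [hUc, h3] at this
            omega
        · rw [h5] at hprod
          refine ⟨?_, h5, ?_⟩
          · by_contra hne
            have := Nat.mul_le_mul (show R.index ≤ 2 by omega) hk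
            omega
          · by_contra hne
            have := Nat.mul_le_mul hidx (show Nat.card ↥(R ⊓ U) ≤ 1 by omega)
            omega
      obtain ⟨hd3, h5, -⟩ := hd
      rw [h5, hd3] at hRc
      have hR8 : ∀ u : Fˣ, u ^ 8 = 1 ↔ u ∈ R := by
        have e1 : R = (powMonoidHom 8 : Fˣ →* Fˣ).ker := by
          refine Subgroup.eq_of_le_of_card_ge (fun r hr => ?_) ?_
          · rw [MonoidHom.mem_ker, powMonoidHom_apply, ← show Nat.card R = 8 by omega]
            exact congrArg Subtype.val (pow_card_eq_one' (x := (⟨r, hr⟩ : R)))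
          · rw [IsCyclic.card_powMonoidHom_ker, hFc, h5, show Nat.card R = 8 by omega]; rfl
        intro u
        rw [e1, MonoidHom.mem_ker, powMonoidHom_apply]
      -- classes with equal values have equal norms
      have hconst' : ∀ b b', b ≠ 0 → b' ≠ 0 → γ b = γ b' := by
        intro b b1 hb hb1
        obtain ⟨v, hv⟩ := c.exists_norm (d := g b / g b1) (by rw [map_div₀, hgσ, hgσ])
        have hv0 : v ≠ 0 := fun e => by
          rw [e, zero_mul] at hv
          exact div_ne_zero (hg0 b hb) (hg0 b1 hb1) hv.symm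
        set b' := (χ (Units.mk0 v hv0) : F) * b1 with hb'
        rw [← hγχ (Units.mk0 v hv0) b1, ← hb']
        have hb'0 : b' ≠ 0 := mul_ne_zero (Units.ne_zero _) hb1
        have hg : g b = g b' := by
          rw [hb', hgχ, Units.val_mk0, hv, div_mul_cancel₀ _ (hg0 b1 hb1)]
        by_cases hcl : ∃ a : Fˣ, b' = (χ a : F) * b
        · obtain ⟨a, ha⟩ := hcl
          rw [ha, hγχ]
        push Not at hcl
        have hF5 : ∀ x : F, c.σ x = x → x ≠ 0 → ∃ a : Fˣ, (χ a : F) = x := fun x hx hx0 => by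
          obtain ⟨a, ha⟩ := hmemR (Units.mk0 x hx0) ((hR8 _).mp (Units.ext (by
            have h5' : x ^ 5 = x := by rw [← h5, ← c.hσ]; exact hx
            have h4 : x ^ 4 = 1 := mul_left_cancel₀ hx0 (by rw [← pow_succ', h5', mul_one])
            rw [Units.val_pow_eq_pow_val, Units.val_mk0, show 8 = 4 * 2 from rfl, pow_mul, h4, one_pow, Units.val_one])))
          exact ⟨a, by rw [ha]; rfl⟩
        have h1 : b' ≠ b := fun e => hcl 1 (by rw [map_one, Units.val_one, one_mul, e])
        have h2' : b' ≠ -b := fun e => by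
          obtain ⟨a, ha⟩ := hF5 (-1) (by rw [map_neg, map_one]) (neg_ne_zero.mpr one_ne_zero)
          exact hcl a (by rw [ha, e, neg_one_mul])
        obtain ⟨-, a, ha⟩ := hpair b b' hb hg h1 h2'
        set u := b' / b with hu
        set m := ((χ a : Fˣ) : F) with hm
        have hub : b' = u * b := by rw [hu, div_mul_cancel₀ _ hb]
        have hu1 : u - 1 ≠ 0 := sub_ne_zero.mpr fun e => h1 (by rw [hub, e, one_mul])
        have hum : u + 1 = m * (u - 1) := mul_right_cancel₀ hb (by rw [hub] at ha; linear_combination ha)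
        have hm8 : m ^ 8 = 1 := by
          rw [hm, ← Units.val_pow_eq_pow_val, (hR8 _).mpr ⟨a, rfl⟩, Units.val_one]
        have hσm : c.σ m = m ∨ c.σ m = -m := by
          rw [c.hσ, h5]
          rcases mul_self_eq_one_iff.mp (show m ^ 4 * m ^ 4 = 1 by rw [← pow_add]; exact hm8) with h | h
          · left; rw [pow_succ, h, one_mul]
          · right; rw [pow_succ, h, neg_one_mul]
        have hum' := congrArg c.σ hum
        rw [map_add, map_mul, map_sub, map_one] at hum'
        rcases hσm with e | e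
        · exfalso
          rw [e] at hum'
          have hσu : c.σ u = u := by
            have h0 : (c.σ u - u) * (m - 1) = 0 := by linear_combination hum - hum'
            refine sub_eq_zero.mp ((mul_eq_zero.mp h0).resolve_right fun h => ?_)
            rw [sub_eq_zero.mp h] at hum
            exact h2 (by linear_combination hum)
          obtain ⟨a', ha'⟩ := hF5 u hσu (fun e0 => hb'0 (by rw [hub, e0, zero_mul]))
          exact hcl a' (by rw [ha', hub])
        · rw [e] at hum'
          have hNu : N u = 1 := by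
            have h0 : (2 : F) * (u * c.σ u - 1) = 0 := by
              linear_combination (c.σ u - 1) * hum + (u - 1) * hum'
            exact sub_eq_zero.mp ((mul_eq_zero.mp h0).resolve_left h2)
          have hNb : N (θ b') = N (θ b) := by rw [hub, map_mul, hNmul, ← hNθ, hNu, map_one, one_mul]
          have := hg
          rw [hgγ b hb, hgγ b' hb'0, hNb] at this
          exact mul_right_cancel₀ (hN0 _ (hθ0 _ hb)) this
      refine ⟨hconst', ?_⟩
      -- an element of norm one of order six
      obtain ⟨u, hu⟩ := IsCyclic.exists_ofOrder_eq_natCard (α := U)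
      rw [hUc, h5] at hu
      have huo : orderOf (u : Fˣ) = 6 := by rw [Subgroup.orderOf_coe, hu]
      have hu1 : ((u : Fˣ) : F) ≠ 1 := fun e => by
        rw [Units.val_eq_one.mp e, orderOf_one] at huo; omega
      have hu2 : ((u : Fˣ) : F) ≠ -1 := fun e => by
        have : (u : Fˣ) ^ 2 = 1 := Units.ext (by rw [Units.val_pow_eq_pow_val, e]; norm_num)
        have := Nat.le_of_dvd two_pos (orderOf_dvd_of_pow_eq_one this)
        omega
      have hNu : N (θ (u : Fˣ)) = 1 := by rw [← hNθ, (hUN _).mp u.2, map_one]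
      have hub : ((u : Fˣ) : F) * 1 ≠ 0 := by simp
      refine ⟨((u : Fˣ) : F) * 1 - 1, by simpa [sub_eq_zero] using hu1,
        hκγ 1 ((u : Fˣ) : F) one_ne_zero hNu hu1 hu2 ?_⟩
      rw [hgγ _ hub, hgγ 1 one_ne_zero, hconst' _ 1 hub one_ne_zero, map_mul, hNmul, hNu, one_mul]
  obtain ⟨hconst, b0, hb0, hb0γ⟩ := hconst
  set γ0 := γ 1 with hγ0
  have hγall : ∀ b, b ≠ 0 → γ b = γ0 := fun b hb => hconst b 1 hb one_ne_zero
  rw [hγall b0 hb0] at hb0γ
  have hg00 : g 0 = 0 := by
    obtain ⟨u, hu⟩ := c.exists_norm (d := (-1 : F)) (by rw [map_neg, map_one])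
    have hu0 : u ≠ 0 := fun e => by rw [e, zero_mul] at hu; exact neg_ne_zero.mpr one_ne_zero hu.symm
    obtain ⟨a, ha⟩ : ∃ a : Fˣ, (a : F) * c.σ (a : F) ≠ 1 :=
      ⟨Units.mk0 u hu0, fun e => by rw [Units.val_mk0, hu] at e; exact h2 (by linear_combination -e)⟩
    have h := hgχ a 0
    rw [mul_zero] at h
    exact (mul_eq_zero.mp (show ((a : F) * c.σ (a : F) - 1) * g 0 = 0 by linear_combination -h)).resolve_left
      (sub_ne_zero.mpr ha)
  have hγσ : c.σ γ0 = γ0 := by
    simp only [hγ0, hγ]; rw [map_div₀, hgσ, hfixnorm]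
  obtain ⟨l, hl⟩ := c.exists_norm (d := -(2 * γ0)) (by rw [map_neg, map_mul, map_ofNat, hγσ])
  have hl0 : l ≠ 0 := fun e => by
    rw [e, zero_mul] at hl
    have h0 : γ0 = 0 := (mul_eq_zero.mp (neg_eq_zero.mp hl.symm)).resolve_left h2
    rw [h0, zero_pow two_ne_zero, mul_zero] at hb0γ
    exact hκ0 ((pow_eq_zero_iff two_ne_zero).mp hb0γ)
  have hgval : ∀ b, g b = γ0 * N (θ b) := fun b => by
    rcases eq_or_ne b 0 with rfl | hb
    · rw [hg00, map_zero]; simp [hN]
    · rw [hgγ b hb, hγall b hb]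
  rcases mul_self_eq_mul_self_iff.mp (show κ * κ = (2 * γ0) * (2 * γ0) by linear_combination hb0γ) with h | h
  · refine ⟨θ, l, hl0, fun b b' => ⟨?_, ?_⟩⟩
    · rw [hgval, map_mul]; simp only [hN]
      linear_combination θ b * c.σ (θ b) * hl
    · rw [hB, h, map_mul, map_mul]
      linear_combination (c.σ (θ b) * θ b' - θ b * c.σ (θ b')) * hl
  · let σe : F ≃+* F := RingEquiv.ofBijective c.σ (Finite.injective_iff_bijective.mp c.σ.injective)
    refine ⟨θ.trans σe, l, hl0, fun b b' => ?_⟩
    have e : ∀ x, (θ.trans σe) x = c.σ (θ x) := fun x => rfl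
    rw [e, e]
    refine ⟨?_, ?_⟩
    · rw [hgval, map_mul, c.invol]; simp only [hN]
      linear_combination θ b * c.σ (θ b) * hl
    · rw [hB, h, map_mul, map_mul, c.invol, c.invol]
      linear_combination (θ b * c.σ (θ b') - c.σ (θ b) * θ b') * hl

end CfsgLib.U3Cent
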