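import Cfsg.Agent.Lib.U3Cent.Base
import Cfsg.Agent.Lib.InvTimesAlt.Count

/-!
# The Sylow `p`-subgroup of the stabiliser

If `p` divides the index of the centraliser then so does `q ^ 2`.
-/

set_option autoImplicit false
set_option linter.unusedSectionVars false
set_option linter.style.haveILetI false

namespace CfsgLib.U3Cent

open CfsgLib.PSUBorel

universe u v w

/-- If all periods of a permutation are multiples of `d`, then so is the number of points. -/
theorem dvd_card_of_period {α : Type w} [Finite α] (e : Equiv.Perm α) {d : ℕ}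
    (h : ∀ (x : α) (m : ℕ), (e ^ m) x = x → d ∣ m) : d ∣ Nat.card α := by
  classical
  set K := Subgroup.zpowers e with hK
  haveI := Fintype.ofFinite α
  haveI : Fintype (Quotient (MulAction.orbitRel K α)) := Fintype.ofFinite _
  rw [Nat.card_congr (MulAction.selfEquivSigmaOrbits' K α), Nat.card_sigma]
  refine Finset.dvd_sum fun ω _ => ?_
  obtain ⟨x, rfl⟩ := Quotient.exists_rep ω
  have hne : MulAction.orbitRel.Quotient.orbit (Quotient.mk (MulAction.orbitRel K α) x) = MulAction.orbit K x :=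
    MulAction.orbitRel.Quotient.orbit_mk x
  rw [hne, Nat.card_congr (MulAction.orbitEquivQuotientStabilizer K x)]
  change d ∣ (MulAction.stabilizer K x).index
  haveI : (MulAction.stabilizer K x).Normal := Subgroup.normal_of_comm _
  have hmem := (MulAction.stabilizer K x).pow_index_mem (⟨e, Subgroup.mem_zpowers e⟩ : K)
  exact h x _ hmem

theorem two_n_le {p n i t : ℕ} (hp : p.Prime) (hi : i ≠ 0)
    (h : p ^ i = 2 * (p ^ n - 1) * t + 1) : 2 * n ≤ i := by
  by_contra hlt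
  push Not at hlt
  have h1 : 1 < p ^ i := Nat.one_lt_pow hi hp.one_lt
  have ht : t ≠ 0 := fun e => by rw [e, mul_zero] at h; omega
  have hle : 2 * (p ^ n - 1) ≤ 2 * (p ^ n - 1) * t := Nat.le_mul_of_pos_right _ (Nat.pos_of_ne_zero ht)
  have hn : n ≠ 0 := by omega
  have h2 : 1 < p ^ n := Nat.one_lt_pow hn hp.one_lt
  rcases Nat.lt_or_ge i n with hin | hin
  · have := Nat.pow_le_pow_right hp.pos hin.le
    omega
  obtain ⟨b, rfl⟩ := Nat.exists_eq_add_of_le hin
  have hb : b < n := by omega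
  have hpb : p ^ b < p ^ n := Nat.pow_lt_pow_right hp.one_lt hb
  have hb1 : 1 ≤ p ^ b := Nat.one_le_pow _ _ hp.pos
  have hd : p ^ n - 1 ∣ p ^ b - 1 := by
    have e : p ^ b - 1 = (p ^ n - 1) * (2 * t) - (p ^ n - 1) * p ^ b := by
      rw [Nat.sub_mul _ _ (p ^ b), one_mul, ← pow_add,
        show (p ^ n - 1) * (2 * t) = p ^ (n + b) - 1 by rw [h]; ring_nf; omega]
      have := Nat.le_mul_of_pos_right (p ^ n) hb1
      rw [← pow_add] at this
      omega
    rw [e]
    exact Nat.dvd_sub (Dvd.intro _ rfl) (Dvd.intro _ rfl)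
  have hb0 : b = 0 := by
    rcases Nat.eq_zero_or_pos (p ^ b - 1) with e | e
    · by_contra hb0
      have := Nat.one_lt_pow hb0 hp.one_lt
      omega
    · have := Nat.le_of_dvd e hd
      omega
  subst hb0
  rw [add_zero] at h
  omega

variable {G : Type u} [Group G] [Finite G] [IsSimpleGroup G] {F : Type v} [Field F] [Fintype F] {c : Conj F}

/-- A `p`-subgroup of the centraliser of the root group of the largest order. -/
structure IsPC (p : ℕ) (f : W c →* G) (P : Subgroup G) : Prop where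
  isp : IsPGroup p P
  le : P ≤ cx f
  max : ∀ Q : Subgroup G, IsPGroup p Q → Q ≤ cx f → Nat.card Q ∣ Nat.card P

namespace Hyp

variable {f : W c →* G} (hf : Hyp c f) {p n : ℕ} [hp : Fact p.Prime] (hq : c.q = p ^ n) (hn : n ≠ 0)
include hf hq hn

omit hf hq hn in
theorem exists_isPC : ∃ P, IsPC p f P := by
  obtain ⟨S⟩ : Nonempty (Sylow p (cx f)) := inferInstance
  refine ⟨(S : Subgroup (cx f)).map (cx f).subtype, S.2.map _, Subgroup.map_subtype_le _, fun Q hQ hle => ?_⟩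
  obtain ⟨R, hR⟩ := (hQ.of_equiv (Subgroup.subgroupOfEquivOfLe hle).symm).exists_le_sylow
  rw [← Nat.card_congr (Subgroup.subgroupOfEquivOfLe hle).toEquiv,
    Subgroup.card_map_of_injective (cx f).subtype_injective, S.card_eq_multiplicity, ← R.card_eq_multiplicity]
  exact Subgroup.card_dvd_of_le hR

omit hq hn hf in
theorem isPC_conj {P : Subgroup G} (hP : IsPC p f P) {g : G} (hg : g ∈ nrm f) :
    IsPC p f (P.map (MulAut.conj g).toMonoidHom) := by
  refine ⟨hP.isp.map _, ?_, fun Q hQ hle => ?_⟩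
  · rintro _ ⟨x, hx, rfl⟩
    exact cx_normal f hg (hP.le hx)
  · rw [Subgroup.card_map_of_injective (MulEquiv.injective _)]
    exact hP.max Q hQ hle

omit hq hn hf in
theorem isPC_exists_conj {P Q : Subgroup G} (hP : IsPC p f P) (hQ : IsPC p f Q) :
    ∃ y ∈ cx f, ∀ x ∈ P, y * x * y⁻¹ ∈ Q := by
  obtain ⟨R, hR⟩ := (hP.isp.of_equiv (Subgroup.subgroupOfEquivOfLe hP.le).symm).exists_le_sylow
  obtain ⟨S, hS⟩ := (hQ.isp.of_equiv (Subgroup.subgroupOfEquivOfLe hQ.le).symm).exists_le_sylow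
  obtain ⟨y, hy⟩ := MulAction.exists_smul_eq (cx f) R S
  have hSQ : Q.subgroupOf (cx f) = (S : Subgroup (cx f)) := by
    refine Subgroup.eq_of_le_of_card_ge hS (Nat.le_of_dvd Nat.card_pos ?_)
    have h := hQ.max _ (S.2.map (cx f).subtype) (Subgroup.map_subtype_le _)
    rwa [Subgroup.card_map_of_injective (cx f).subtype_injective,
      ← Nat.card_congr (Subgroup.subgroupOfEquivOfLe hQ.le).toEquiv] at h
  refine ⟨y, y.2, fun x hx => ?_⟩
  have hm : y * ⟨x, hP.le hx⟩ * y⁻¹ ∈ (S : Subgroup (cx f)) := by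
    rw [← hy]; exact ⟨_, hR hx, rfl⟩
  rw [← hSQ] at hm
  exact hm

theorem isPC_root_le {P : Subgroup G} (hP : IsPC p f P) : root f ≤ P := by
  have hnm : P ≤ Subgroup.normalizer (root f : Set G) := hP.le.trans (cx_le_nrm f)
  have hsup : IsPGroup p (P ⊔ root f : Subgroup G) :=
    hP.isp.to_sup_of_normal_right' (hf.root_isPGroup hq hn) hnm
  have he : P = P ⊔ root f := Subgroup.eq_of_le_of_card_ge le_sup_left
    (Nat.le_of_dvd Nat.card_pos (hP.max _ hsup (sup_le hP.le (root_le_cx f))))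
  rw [he]; exact le_sup_right

omit [IsSimpleGroup G] hn hp hq hf in
theorem pow_mem_cx {h y : G} (hh : h ∈ nrm f) (hy : y ∈ cx f) (k : ℕ) : (h * y) ^ k * (h ^ k)⁻¹ ∈ cx f := by
  induction k with
  | zero => simp
  | succ k ih =>
    rw [pow_succ', pow_succ', show h * y * (h * y) ^ k * (h * h ^ k)⁻¹ = h * (y * ((h * y) ^ k * (h ^ k)⁻¹)) * h⁻¹ by
      group]
    exact cx_normal f hh (mul_mem hy ih)

theorem tor_mem_cx {b : Fˣ} : f (dg b) ∈ cx f ↔ b ∈ nrmOne c := by
  refine ⟨fun h => ?_, fun h => mem_cx.mpr fun x => ?_⟩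
  · obtain ⟨b0, hb, hb0⟩ := c.exists_antifixed
    have e := hf.comm_iff.mp (mem_cx.mp h ⟨b0, by rw [mem_X0, hb0, add_neg_cancel]⟩)
    exact isScal_dg.mp ⟨rfl, rfl, (of_comm_up (fun e => hb (congrArg Subtype.val e)) e).2⟩
  · rw [← map_mul, ← map_mul, (isScal_dg.mpr h).comm]

theorem pgroup_le_cx {Q : Subgroup G} (hQ : IsPGroup p Q) (hle : Q ≤ nrm f) : Q ≤ cx f := by
  intro x hx
  obtain ⟨a, y, hy, e⟩ := hf.nrm_decomp hq hn (hle hx)
  have h1 := pow_mem_cx (h := f (dg a)) (bor_le_nrm f (tor_le_bor f ⟨a, rfl⟩)) hy (Nat.card (tor f))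
  rw [show f (dg a) ^ Nat.card (tor f) = 1 from
    congrArg Subtype.val (pow_card_eq_one' (x := (⟨f (dg a), ⟨a, rfl⟩⟩ : tor f))), inv_one, mul_one, ← e] at h1
  obtain ⟨j, hj⟩ := IsPGroup.iff_orderOf.mp hQ ⟨x, hx⟩
  rw [← Subgroup.orderOf_coe] at hj
  have hcop : (orderOf x).Coprime (Nat.card (tor f)) := by
    rw [hj]
    refine ((hp.out.coprime_iff_not_dvd).mpr fun h => hf.not_dvd_sq_sub hq hn ?_).pow_left j
    exact hf.card_tor ▸ h.mul_right _
  obtain ⟨m, hm⟩ := exists_pow_eq_self_of_coprime hcop.symm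
  exact hm ▸ pow_mem h1 m

/-- There is a Sylow `p`-subgroup of the stabiliser normalised by `tt` and by a torus element whose norm has order
`q - 1`. -/
theorem exists_normalised : ∃ (P : Subgroup G) (a : Fˣ), IsPC p f P ∧ (∀ x ∈ P, tt f * x * tt f ∈ P) ∧
    (∀ x ∈ P, f (dg a) * x * (f (dg a))⁻¹ ∈ P) ∧ ∀ m, a ^ (m * (c.q + 1)) = 1 → c.q - 1 ∣ m := by
  obtain ⟨a0, ha0⟩ := IsCyclic.exists_generator (α := Fˣ)
  have hgen : ∀ m, a0 ^ (m * (c.q + 1)) = 1 → c.q - 1 ∣ m := fun m hm => by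
    have h := orderOf_dvd_of_pow_eq_one hm
    rw [orderOf_eq_card_of_forall_mem_zpowers ha0, card_units_q (c := c), ← one_pow 2, Nat.sq_sub_sq, mul_comm,
      mul_comm m] at h
    exact Nat.dvd_of_mul_dvd_mul_right (Nat.succ_pos _) (by rwa [mul_comm m])
  have hh : f (dg a0) ∈ nrm f := bor_le_nrm f (tor_le_bor f ⟨a0, rfl⟩)
  have hcorr : ∀ {P : Subgroup G}, IsPC p f P → ∃ y ∈ cx f,
      y * f (dg a0) ∈ nrm f ⊓ Subgroup.normalizer (P : Set G) := fun {P} hP => by
    obtain ⟨y, hy, h⟩ := isPC_exists_conj (isPC_conj hP hh) hP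
    refine ⟨y, hy, mul_mem (cx_le_nrm f hy) hh, CfsgLib.A8ThreeLocal.Loc.normalises_of fun x hx => ?_⟩
    have := h (f (dg a0) * x * (f (dg a0))⁻¹) ⟨x, hx, rfl⟩
    rwa [show y * (f (dg a0) * x * (f (dg a0))⁻¹) * y⁻¹ = y * f (dg a0) * x * (y * f (dg a0))⁻¹ by group] at this
  obtain ⟨P0, hP0⟩ := exists_isPC (p := p) (f := f)
  obtain ⟨y0, hy0, hd0⟩ := hcorr hP0
  set d := y0 * f (dg a0) with hd
  have heven : 2 ∣ orderOf d := by
    by_contra hodd
    set k := orderOf d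
    have hy' : (f (dg a0))⁻¹ * y0 * f (dg a0) ∈ cx f := by
      have := cx_normal f (inv_mem hh) hy0
      rwa [inv_inv] at this
    have h1 := pow_mem_cx hh hy' k
    rw [show f (dg a0) * ((f (dg a0))⁻¹ * y0 * f (dg a0)) = d by rw [hd]; group, pow_orderOf_eq_one, one_mul,
      inv_mem_iff, ← map_pow, show dg a0 ^ k = dg (c := c) (a0 ^ k) by simp [dg], hf.tor_mem_cx hq hn, mem_nrmOne',
      ← pow_mul] at h1
    obtain ⟨l, hl⟩ := hf.odd
    exact hodd ((show 2 ∣ c.q - 1 from ⟨l, by omega⟩).trans (hgen k h1))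
  set z := d ^ (orderOf d / 2) with hz
  have hzz : z * z = 1 := by rw [hz, ← pow_add, ← two_mul, Nat.mul_div_cancel' heven, pow_orderOf_eq_one]
  have hz1 : z ≠ 1 := fun e => by
    have hpos := orderOf_pos d
    obtain ⟨l, hl⟩ := heven
    have hl2 := Nat.le_of_dvd (by omega) (orderOf_dvd_of_pow_eq_one e)
    omega
  have hzD : z ∈ nrm f ⊓ Subgroup.normalizer (P0 : Set G) := pow_mem hd0 _
  obtain ⟨g, hg, hgz⟩ := hf.nrm_conj hq hn le_rfl (bor_le_nrm f (tt_mem_bor f)) hzD.1 hzz hz1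
  set P := P0.map (MulAut.conj g).toMonoidHom with hPd
  have hP : IsPC p f P := isPC_conj hP0 hg
  have htP : tt f ∈ Subgroup.normalizer (P : Set G) := by
    refine CfsgLib.A8ThreeLocal.Loc.normalises_of ?_
    rintro _ ⟨x, hx, rfl⟩
    refine ⟨z * x * z⁻¹, (Subgroup.mem_normalizer_iff.mp hzD.2 x).mp hx, ?_⟩
    simp only [MulEquiv.toMonoidHom_eq_coe, MonoidHom.coe_coe, MulAut.conj_apply]
    rw [← hgz]; group
  obtain ⟨y, hy, hd'⟩ := hcorr hP
  set D := cx f ⊓ Subgroup.normalizer (P : Set G)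
  have hd2 : y * f (dg a0) ∈ Subgroup.normalizer (P : Set G) := hd'.2
  have hconj : y * f (dg a0) * tt f * (y * f (dg a0))⁻¹ ∈ D :=
    Subgroup.mem_inf.mpr ⟨cx_normal f hd'.1 hf.tt_mem_cx, mul_mem (mul_mem hd2 htP) (inv_mem hd2)⟩
  obtain ⟨e, he, he'⟩ := hf.nrm_conj hq hn (inf_le_left.trans (cx_le_nrm f)) (⟨hf.tt_mem_cx, htP⟩ : tt f ∈ D) hconj
    (by
      set d' := y * f (dg a0)
      rw [show d' * tt f * d'⁻¹ * (d' * tt f * d'⁻¹) = d' * (tt f * tt f) * d'⁻¹ by group, hf.tt_sq]; group)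
    (fun h => hf.tt_ne (conj_eq_one_iff.mp h))
  have hbor : e * (y * f (dg a0)) ∈ bor f := (hf.mem_bor_iff hq hn).mpr ⟨mul_mem (cx_le_nrm f he.1) hd'.1, by
    calc e * (y * f (dg a0)) * tt f = e * (y * f (dg a0) * tt f * (y * f (dg a0))⁻¹) * e⁻¹ * (e * (y * f (dg a0))) := by
          group
      _ = tt f * (e * (y * f (dg a0))) := by rw [he']⟩
  obtain ⟨g', hg', eg'⟩ := hbor
  obtain ⟨b, x, rfl⟩ := tri hg'
  rw [map_mul] at eg'
  have hroot := hf.isPC_root_le hq hn hP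
  have hbn : f (dg b) ∈ Subgroup.normalizer (P : Set G) := by
    have h : f (dg b) = e * (y * f (dg a0)) * (f (up x))⁻¹ := eq_mul_inv_iff_mul_eq.mpr eg'
    rw [h]
    exact mul_mem (mul_mem he.2 hd'.2) (inv_mem (Subgroup.le_normalizer (hroot (mem_root.mpr ⟨x, rfl⟩))))
  have hrel : b⁻¹ * a0 ∈ nrmOne c := by
    have hh' : f (dg b) ∈ nrm f := bor_le_nrm f (tor_le_bor f ⟨b, rfl⟩)
    have h1 := cx_normal f (inv_mem hh') (mul_mem he.1 hy)
    rw [inv_inv] at h1
    refine (hf.tor_mem_cx hq hn).mp ?_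
    have h2 : f (dg (b⁻¹ * a0)) = ((f (dg b))⁻¹ * (e * y) * f (dg b))⁻¹ * f (up x) := by
      rw [show f (dg (b⁻¹ * a0)) = (f (dg b))⁻¹ * f (dg a0) by simp [dg],
        show f (up x) = (f (dg b))⁻¹ * (e * (y * f (dg a0))) by rw [← eg', inv_mul_cancel_left]]
      group
    rw [h2]
    exact mul_mem (inv_mem h1) (root_le_cx f (mem_root.mpr ⟨x, rfl⟩))
  refine ⟨P, b, hP, fun w hw => ?_, fun w hw => (Subgroup.mem_normalizer_iff.mp hbn w).mp hw, fun m hm => hgen m ?_⟩
  · have h := (Subgroup.mem_normalizer_iff.mp htP w).mp hw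
    rwa [inv_eq_of_mul_eq_one_right hf.tt_sq] at h
  · rw [mem_nrmOne', mul_pow, inv_pow, inv_mul_eq_one] at hrel
    rw [mul_comm, pow_mul, ← hrel, ← pow_mul, mul_comm, hm]

/-- A torus element fixing an inverted `p`-element. -/
theorem period {a : Fˣ} (hgen : ∀ m, a ^ (m * (c.q + 1)) = 1 → c.q - 1 ∣ m) {y : G} (hy1 : y ≠ 1)
    (hy : ∃ j, orderOf y = p ^ j) (hyt : tt f * y * tt f = y⁻¹) {m : ℕ}
    (hfix : f (dg a) ^ m * y * (f (dg a) ^ m)⁻¹ = y) : 2 * (c.q - 1) ∣ m := by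
  obtain ⟨j, hj⟩ := hy
  have hj0 : j ≠ 0 := fun e => hy1 (orderOf_eq_one_iff.mp (by rw [hj, e, pow_zero]))
  have hpow : f (dg a) ^ m = f (dg (a ^ m)) := by simp [dg]
  by_cases hmem : a ^ m ∈ nrmOne c
  · rw [mem_nrmOne', ← pow_mul] at hmem
    obtain ⟨e, rfl⟩ := hgen m hmem
    rcases Nat.even_or_odd e with ⟨d, rfl⟩ | he
    · exact ⟨d, by ring⟩
    exfalso
    obtain ⟨x, hx⟩ : ∃ x, x = f (dg a) ^ ((c.q - 1) * e) := ⟨_, rfl⟩
    rw [← hx] at hfix
    by_cases h2 : 2 ∣ orderOf x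
    · have hxt : x ^ (orderOf x / 2) ∈ tor f := pow_mem (hx ▸ pow_mem (mem_tor.mpr ⟨a, rfl⟩) _) _
      have hz : x ^ (orderOf x / 2) * x ^ (orderOf x / 2) = 1 := by
        rw [← pow_add, ← two_mul, Nat.mul_div_cancel' h2, pow_orderOf_eq_one]
      rcases hf.inv_tor hxt hz with h | h
      · have hpos := orderOf_pos x
        obtain ⟨l, hl⟩ := h2
        have := Nat.le_of_dvd (by omega) (orderOf_dvd_of_pow_eq_one h)
        omega
      · have hc : Commute x y := mul_inv_eq_iff_eq_mul.mp hfix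
        have hct : Commute (tt f) y := h ▸ hc.pow_left _
        rw [hct.eq, mul_assoc, hf.tt_sq, mul_one] at hyt
        have h2y : orderOf y ∣ 2 := orderOf_dvd_of_pow_eq_one (by rw [pow_two]; exact mul_eq_one_iff_eq_inv.mpr hyt)
        rw [hj] at h2y
        exact hf.p_ne_two hq hn ((Nat.prime_dvd_prime_iff_eq hp.out Nat.prime_two).mp
          ((dvd_pow_self p hj0).trans h2y))
    · have hk : Odd (orderOf x) := Nat.odd_iff.mpr (Nat.two_dvd_ne_zero.mp h2)
      set k := orderOf x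
      have hker : dg (c := c) a ^ ((c.q - 1) * e * k) ∈ f.ker :=
        f.mem_ker.mpr (by rw [map_pow, pow_mul, ← hx, pow_orderOf_eq_one])
      have hL : dg (c := c) a ^ ((c.q - 1) * e * k * Nat.card f.ker) = 1 := by
        rw [pow_mul]
        exact congrArg Subtype.val (pow_card_eq_one' (x := (⟨_, hker⟩ : f.ker)))
      have ha : a ^ ((c.q - 1) * e * k * Nat.card f.ker) = 1 := dg_inj (c := c) (by
        rw [dg, dg, map_pow, map_one]; exact hL)
      obtain ⟨l, hl⟩ := hf.odd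
      have hl0 : l ≠ 0 := by have := one_lt_q hf.odd; omega
      have ha' : a ^ (l * (e * k * Nat.card f.ker) * (c.q + 1)) = 1 := by
        rw [show l * (e * k * Nat.card f.ker) * (c.q + 1) = (c.q - 1) * e * k * Nat.card f.ker * (l + 1) by
          rw [hl, show 2 * l + 1 - 1 = 2 * l by omega]; ring, pow_mul, ha, one_pow]
      have hd := hgen _ ha'
      rw [show c.q - 1 = l * 2 by omega, Nat.mul_dvd_mul_iff_left (Nat.pos_of_ne_zero hl0)] at hd
      exact Nat.not_even_iff_odd.mpr ((he.mul hk).mul hf.kero) (even_iff_two_dvd.mpr hd)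
  · exfalso
    refine hf.not_dvd_cent hq hn hmem (((dvd_pow_self p hj0).trans (dvd_of_eq hj.symm)).trans
      (Subgroup.orderOf_dvd_natCard _ (Subgroup.mem_centralizer_singleton_iff.mpr ?_)))
    rw [← hpow]
    exact (mul_inv_eq_iff_eq_mul.mp hfix).symm

/-- The Sylow `p`-subgroup of the stabiliser. -/
theorem exists_p_part : ∃ (P : Subgroup G) (i : ℕ), IsPC p f P ∧ Nat.card P = c.q * p ^ i ∧
    (∀ x ∈ P, tt f * x * tt f ∈ P) ∧ Nat.card {y : G // y ∈ P ∧ tt f * y * tt f = y⁻¹} = p ^ i ∧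
    p ^ i ≤ (bor f).relIndex (nrm f) ∧ (i ≠ 0 → 2 * n ≤ i) := by
  obtain ⟨P, a, hP, htP, haP, hgen⟩ := hf.exists_normalised hq hn
  have hroot := hf.isPC_root_le hq hn hP
  have hodd : Odd (Nat.card P) := by
    obtain ⟨m, hm⟩ := IsPGroup.iff_card.mp hP.isp
    rw [hm]
    exact (hp.out.odd_of_ne_two (hf.p_ne_two hq hn)).pow
  have hfixed : P ⊓ Subgroup.centralizer ({tt f} : Set G) = root f := by
    refine le_antisymm (fun x hx => ?_) (le_inf hroot fun x hx => Subgroup.mem_centralizer_singleton_iff.mpr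
      (bor_comm (root_le_bor f hx) hf))
    obtain ⟨g, hg, rfl⟩ := (hf.mem_bor_iff hq hn).mpr ⟨cx_le_nrm f (hP.le hx.1),
      Subgroup.mem_centralizer_singleton_iff.mp hx.2⟩
    obtain ⟨b, y, rfl⟩ := tri hg
    have hy : f (up y) ∈ P := hroot (mem_root.mpr ⟨y, rfl⟩)
    have hb : f (dg b) ∈ P := by
      have := mul_mem (show f (dg b * up y) ∈ P from hx.1) (inv_mem hy)
      rwa [map_mul, mul_inv_cancel_right] at this
    obtain ⟨j, hj⟩ := IsPGroup.iff_orderOf.mp hP.isp ⟨_, hb⟩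
    rw [← Subgroup.orderOf_coe] at hj
    have h1 : orderOf (f (dg b)) = 1 := Nat.eq_one_of_dvd_coprimes
      (((hp.out.coprime_iff_not_dvd).mpr fun h => hf.not_dvd_sq_sub hq hn (hf.card_tor ▸ h.mul_right _)).pow_left j)
      (dvd_of_eq hj) (Subgroup.orderOf_dvd_natCard _ (⟨b, rfl⟩ : f (dg b) ∈ tor f))
    rw [map_mul, orderOf_eq_one_iff.mp h1, one_mul]
    exact mem_root.mpr ⟨y, rfl⟩
  have hcount := CfsgLib.InvTimesAlt.card_fixed_mul_inverted P hodd hf.tt_sq htP
  rw [hfixed, hf.card_root] at hcount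
  obtain ⟨m, hm⟩ := IsPGroup.iff_card.mp hP.isp
  obtain ⟨i, -, hi⟩ := (Nat.dvd_prime_pow hp.out).mp
    (hm ▸ (Dvd.intro_left _ hcount : Nat.card {y : G // y ∈ P ∧ tt f * y * tt f = y⁻¹} ∣ Nat.card P))
  rw [hi] at hcount
  have htn : tt f ∈ nrm f := bor_le_nrm f (tt_mem_bor f)
  refine ⟨P, i, hP, hcount.symm, htP, hi, ?_, fun hi0 => ?_⟩
  · rw [← hi, ← hf.card_inv_nrm hq hn]
    refine Nat.card_le_card_of_injective
      (fun y => ⟨y.1 * tt f, mul_mem (cx_le_nrm f (hP.le y.2.1)) htn, ?_, ?_⟩)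
      fun y z h => Subtype.ext (mul_right_cancel (congrArg Subtype.val h :))
    · rw [show y.1 * tt f * (y.1 * tt f) = y.1 * (tt f * y.1 * tt f) by group, y.2.2, mul_inv_cancel]
    · intro e
      have h := Subgroup.orderOf_dvd_natCard P y.2.1
      rw [eq_inv_of_mul_eq_one_left e, inv_eq_of_mul_eq_one_right hf.tt_sq,
        orderOf_eq_prime (by rw [pow_two, hf.tt_sq]) hf.tt_ne] at h
      exact Nat.not_even_iff_odd.mpr hodd (even_iff_two_dvd.mpr h)
  · haveI : Finite G := inferInstance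
    let φ : {y : G // y ∈ P ∧ y ≠ 1 ∧ tt f * y * tt f = y⁻¹} → {y : G // y ∈ P ∧ y ≠ 1 ∧ tt f * y * tt f = y⁻¹} :=
      fun y => ⟨f (dg a) * y.1 * (f (dg a))⁻¹, haP _ y.2.1, fun e => y.2.2.1 (conj_eq_one_iff.mp e), by
        have hc : Commute (tt f) (f (dg a)) := (hf.tt_comm (dg a)).symm
        calc tt f * (f (dg a) * y.1 * (f (dg a))⁻¹) * tt f
            = tt f * f (dg a) * y.1 * ((f (dg a))⁻¹ * tt f) := by group
          _ = f (dg a) * tt f * y.1 * (tt f * (f (dg a))⁻¹) := by rw [hc.eq, hc.inv_right.eq]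
          _ = f (dg a) * (tt f * y.1 * tt f) * (f (dg a))⁻¹ := by group
          _ = _ := by rw [y.2.2.2]; group⟩
    let e : Equiv.Perm {y : G // y ∈ P ∧ y ≠ 1 ∧ tt f * y * tt f = y⁻¹} := Equiv.ofBijective φ
      (Finite.injective_iff_bijective.mp fun y z h => Subtype.ext (conj_injective (congrArg Subtype.val h :)))
    have hpow : ∀ (m : ℕ) y, ((e ^ m) y).1 = f (dg a) ^ m * y.1 * (f (dg a) ^ m)⁻¹ := by
      intro m y
      induction m with
      | zero => simp
      | succ m ih =>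
        rw [pow_succ', Equiv.Perm.mul_apply]
        show f (dg a) * ((e ^ m) y).1 * (f (dg a))⁻¹ = _
        rw [ih, pow_succ']; group
    obtain ⟨t, ht⟩ := dvd_card_of_period e (d := 2 * (c.q - 1)) fun y m hm' => by
      have h := congrArg Subtype.val hm'
      rw [hpow] at h
      obtain ⟨j, hj⟩ := IsPGroup.iff_orderOf.mp hP.isp ⟨_, y.2.1⟩
      rw [← Subgroup.orderOf_coe] at hj
      exact hf.period hq hn hgen y.2.2.1 ⟨j, hj⟩ y.2.2.2 h
    refine two_n_le hp.out hi0 (t := t) ?_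
    rw [← hq, ← ht, ← hi]
    classical
    let o : {y : G // y ∈ P ∧ tt f * y * tt f = y⁻¹} := ⟨1, one_mem P, by rw [mul_one, hf.tt_sq, inv_one]⟩
    haveI := Fintype.ofFinite {y : G // y ∈ P ∧ tt f * y * tt f = y⁻¹}
    have hcard : Nat.card {y : G // y ∈ P ∧ y ≠ 1 ∧ tt f * y * tt f = y⁻¹} =
        Nat.card {y : {y : G // y ∈ P ∧ tt f * y * tt f = y⁻¹} // y ≠ o} := Nat.card_congr
      { toFun := fun y => ⟨⟨y.1, y.2.1, y.2.2.2⟩, fun e => y.2.2.1 (congrArg Subtype.val e)⟩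
        invFun := fun y => ⟨y.1.1, y.1.2.1, fun e => y.2 (Subtype.ext e), y.1.2.2⟩
        left_inv := fun _ => rfl
        right_inv := fun _ => rfl }
    rw [hcard, Nat.card_eq_fintype_card, Nat.card_eq_fintype_card, Fintype.card_subtype_compl,
      Fintype.card_subtype_eq]
    have := Fintype.card_pos_iff.mpr ⟨o⟩
    omega

/-- If `p` divides the index of the centraliser, the root group is not a Sylow `p`-subgroup. -/
theorem exp_ne_zero (hdvd : p ∣ (Subgroup.centralizer ({tt f} : Set G)).index) {P : Subgroup G} {i : ℕ}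
    (hP : IsPC p f P) (hcard : Nat.card P = c.q * p ^ i) : i ≠ 0 := by
  have hqC : c.q ∣ Nat.card (Subgroup.centralizer ({tt f} : Set G)) :=
    hf.card_root ▸ Subgroup.card_dvd_of_le (fun x hx => Subgroup.mem_centralizer_singleton_iff.mpr
      (bor_comm (root_le_bor f hx) hf) : root f ≤ Subgroup.centralizer ({tt f} : Set G))
  have hdG : p ^ (n + 1) ∣ Nat.card G := by
    rw [← Subgroup.card_mul_index (Subgroup.centralizer ({tt f} : Set G)), pow_succ]
    exact mul_dvd_mul (hq ▸ hqC) hdvd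
  have hnd := Sylow.prime_dvd_card_quotient_normalizer hdG (hf.card_root.trans hq)
  have hN : p ^ (n + 1) ∣ Nat.card (nrm f) := by
    have h := ((root f).subgroupOf (nrm f)).card_mul_index
    rw [Nat.card_congr (Subgroup.subgroupOfEquivOfLe ((root_le_bor f).trans (bor_le_nrm f))).toEquiv,
      hf.card_root, hq] at h
    rw [← h, pow_succ]
    exact mul_dvd_mul_left _ hnd
  obtain ⟨Q, hQ⟩ := Sylow.exists_subgroup_card_pow_prime p hN
  have hQ' := hP.max (Q.map (nrm f).subtype) ((IsPGroup.of_card hQ).map _)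
    (hf.pgroup_le_cx hq hn ((IsPGroup.of_card hQ).map _) (Subgroup.map_subtype_le _))
  rw [Subgroup.card_map_of_injective (nrm f).subtype_injective, hQ, hcard, hq, pow_succ,
    Nat.mul_dvd_mul_iff_left (pow_pos hp.out.pos n)] at hQ'
  exact fun e => hp.out.not_dvd_one (by rwa [e, pow_zero] at hQ')

/-- If `p` divides the index of the centraliser then so does `q ^ 2`. -/
theorem sq_dvd_index (hdvd : p ∣ (Subgroup.centralizer ({tt f} : Set G)).index) :
    c.q ^ 2 ∣ (Subgroup.centralizer ({tt f} : Set G)).index := by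
  set M := (Subgroup.centralizer ({tt f} : Set G)).index with hM
  obtain ⟨P, i, hP, hcard, -, -, -, hbound⟩ := hf.exists_p_part hq hn
  have hcent := hf.card_cent'
  have hG : Nat.card (Subgroup.centralizer ({tt f} : Set G)) * M = Nat.card G := Subgroup.card_mul_index _
  have hi := hf.exp_ne_zero hq hn hdvd hP hcard
  have h3 : c.q * c.q ^ 2 ∣ Nat.card G := by
    refine (mul_dvd_mul_left c.q ?_).trans (hcard ▸ Subgroup.card_subgroup_dvd_card P)
    rw [hq, ← pow_mul, mul_comm n]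
    exact pow_dvd_pow p (hbound hi)
  have hq0 : 0 < c.q := hq ▸ pow_pos hp.out.pos n
  have h4 := h3.mul_right (Nat.card f.ker)
  rw [← hG, mul_right_comm (Nat.card (Subgroup.centralizer ({tt f} : Set G))), hcent, mul_assoc, mul_assoc,
    Nat.mul_dvd_mul_iff_left hq0] at h4
  refine Nat.Coprime.dvd_of_dvd_mul_left ?_ (by rwa [← mul_assoc] at h4)
  refine Nat.Coprime.pow_left 2 (Nat.Coprime.coprime_dvd_left (dvd_of_eq hq)
    (Nat.Coprime.pow_left n ((hp.out.coprime_iff_not_dvd).mpr fun h => ?_)))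
  exact (hp.out.dvd_mul.mp h).elim (hf.not_dvd_succ hq hn) (hf.not_dvd_sq_sub hq hn)

end Hyp

end CfsgLib.U3Cent
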