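import Cfsg.Agent.Lib.U3Cent.SplitAxis
import Cfsg.Agent.Lib.RankOne.Inverted
import Cfsg.Agent.Lib.GL2Cent.Formula
import Cfsg.Agent.Lib.GU2Cent.Arith

/-!
The series `q = 5`, index `357` does not occur: the centraliser of a root subgroup has order `30 r / z` with `r = 17`,
and a group with at most `18` Sylow `17`-subgroups has no element of order `85`.
-/

set_option autoImplicit false
set_option linter.unusedSectionVars false
set_option linter.style.haveILetI false

namespace CfsgLib.U3Cent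

open CfsgLib.PSUBorel

variable {G : Type*} [Group G] [Finite G] {F : Type*} [Field F] [Fintype F] {c : Conj F}

/-- A group with Sylow `2`-subgroup of order two: twice the odd core. -/
theorem exists_core_two {C : Subgroup G} (P : Sylow 2 C) (hP : Nat.card (P : Subgroup C) = 2) :
    ∃ O : Subgroup G, O ≤ C ∧ Odd (Nat.card O) ∧ Nat.card C = 2 * Nat.card O ∧
      ∀ x ∈ C, Odd (orderOf x) → x ∈ O := by
  haveI : Fact (Nat.Prime 2) := ⟨Nat.prime_two⟩
  have hPc : IsCyclic ↥(P : Subgroup C) := isCyclic_of_prime_card (p := 2) hP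
  obtain ⟨O, hOC, hO, hall⟩ := GU2Cent.exists_odd_core P hPc
  have hmin : (Nat.card C).minFac = 2 :=
    (Nat.minFac_eq_two_iff _).mpr (hP ▸ Subgroup.card_subgroup_dvd_card _)
  have hc := IsCyclic.isComplement' hmin hPc
  set K := (MonoidHom.transferSylow P (IsCyclic.normalizer_le_centralizer hmin hPc)).ker
  have hK : Odd (Nat.card K) := by
    rw [← hc.index_eq_card]; exact Nat.odd_iff.mpr (Nat.two_dvd_ne_zero.mp P.not_dvd_index)
  have hle : K.map C.subtype ≤ O := by
    rintro _ ⟨k, hk, rfl⟩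
    exact hall _ k.2 (hK.of_dvd_nat (Subgroup.orderOf_coe k ▸ Subgroup.orderOf_dvd_natCard K hk))
  have h1 : Nat.card K * 2 = Nat.card C := hP ▸ hc.card_mul_card
  have h2 := Subgroup.card_dvd_of_le hle
  rw [Subgroup.card_map_of_injective C.subtype_injective] at h2
  have h3 : Nat.card O ∣ Nat.card K :=
    (Nat.coprime_two_right.mpr hO).dvd_of_dvd_mul_right (h1.symm ▸ Subgroup.card_dvd_of_le hOC)
  exact ⟨O, hOC, hO, by rw [← h1, Nat.dvd_antisymm h2 h3, mul_comm], hall⟩

namespace Hyp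

variable {f : W c →* G} (hf : Hyp c f)
include hf

omit hf in
/-- The scalars times the root group. -/
def scalUp : nrmOne c × Multiplicative (X0 c) →* W c where
  toFun p := dg (p.1 : Fˣ) * upHom p.2
  map_one' := by simp
  map_mul' p q := by
    have hs : IsScal (dg (c := c) (q.1 : Fˣ)) := isScal_dg.mpr (mem_nrmOne.mp q.1.2)
    simp only [Prod.fst_mul, Prod.snd_mul, Subgroup.coe_mul, dg_mul, map_mul]
    rw [mul_assoc, ← mul_assoc (dg (q.1 : Fˣ)) (upHom p.2), hs.comm]
    simp [mul_assoc]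

omit hf in
theorem scalUp_inj : Function.Injective (scalUp (c := c)) := by
  intro p q e
  have e' : dg (p.1 : Fˣ) * upHom p.2 = dg (q.1 : Fˣ) * upHom q.2 := e
  have h00 := congrArg (fun g => ent g 0 0) e'
  simp [ent_mul, upHom] at h00
  have h1 : p.1 = q.1 := Subtype.ext (Units.ext h00)
  rw [h1] at e'
  exact Prod.ext h1 (upHom_inj (mul_left_cancel e'))

variable [IsSimpleGroup G]

/-- The series does not occur. -/
theorem not_five (h5 : c.q = 5) : (Subgroup.centralizer ({tt f} : Set G)).index ≠ 357 := by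
  classical
  intro hM
  haveI h5' : Fact (Nat.Prime 5) := ⟨by norm_num⟩
  haveI h17 : Fact (Nat.Prime 17) := ⟨by norm_num⟩
  haveI : Fact (Nat.Prime 2) := ⟨Nat.prime_two⟩
  set z := Nat.card f.ker with hz
  have hz0 : 0 < z := Nat.card_pos
  have hcent : Nat.card (Subgroup.centralizer ({tt f} : Set G)) * z = 720 := by
    rw [hf.card_cent', h5]; rfl
  have hG : Nat.card G * z = 257040 := by
    rw [← Subgroup.card_mul_index (Subgroup.centralizer ({tt f} : Set G)), mul_right_comm, hcent, hM]; norm_num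
  -- the root group and its centraliser
  have hXc : Nat.card (root f) = 5 := by rw [hf.card_root, h5]
  obtain ⟨b, hb⟩ : ∃ b : X0 c, b ≠ 0 := by
    obtain ⟨b0, hb, hb0⟩ := c.exists_antifixed
    exact ⟨⟨b0, by rw [mem_X0, hb0, add_neg_cancel]⟩, fun e => hb (congrArg Subtype.val e)⟩
  set x := f (up b) with hx
  have hxo : orderOf x = 5 := by
    have hd : orderOf x ∣ 5 := hXc ▸ Subgroup.orderOf_dvd_natCard _ (mem_root.mpr ⟨b, rfl⟩)
    exact ((Nat.dvd_prime (by norm_num)).mp hd).resolve_left fun e => hb (hf.root_inj (orderOf_eq_one_iff.mp e))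
  have hrootz : root f = Subgroup.zpowers x := (Subgroup.eq_of_le_of_card_ge
    ((Subgroup.zpowers_le).mpr (mem_root.mpr ⟨b, rfl⟩)) (by rw [hXc, Nat.card_zpowers, hxo])).symm
  set C := Subgroup.centralizer ({x} : Set G) with hC
  have hmemC : ∀ g, g ∈ C ↔ g * x = x * g := fun g => Subgroup.mem_centralizer_singleton_iff
  have hinter : C ⊓ Subgroup.centralizer {tt f} = (f.comp (scalUp (c := c))).range := by
    ext g
    rw [Subgroup.mem_inf, hmemC, Subgroup.mem_centralizer_singleton_iff]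
    constructor
    · rintro ⟨h1, h2⟩
      obtain ⟨g, rfl⟩ := hf.mem_cent.mp h2
      obtain ⟨e10, e00⟩ := of_comm_up hb (hf.comm_iff.mp h1)
      obtain ⟨a, y, rfl⟩ := tri e10
      simp [ent_mul] at e00
      refine ⟨(⟨a, mem_nrmOne.mpr ?_⟩, Multiplicative.ofAdd y), rfl⟩
      rw [← inv_inv (c.σ (a : F)), ← e00, mul_inv_cancel₀ a.ne_zero]
    · rintro ⟨⟨a, y⟩, rfl⟩
      have hs : IsScal (dg (c := c) (a : Fˣ)) := isScal_dg.mpr (mem_nrmOne.mp a.2)
      refine ⟨?_, hf.tt_comm _⟩
      show f (dg (a : Fˣ) * upHom y) * f (up b) = f (up b) * f (dg (a : Fˣ) * upHom y)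
      rw [← map_mul, ← map_mul, ← mul_assoc (up b), ← hs.comm, mul_assoc, mul_assoc]
      simp only [up, ← map_mul, mul_comm]
  have hintc : Nat.card ↥(C ⊓ Subgroup.centralizer {tt f}) * z = 30 := by
    rw [hinter, card_range_comp f (scalUp (c := c)) scalUp_inj (fun g hg => by
      obtain ⟨a, ha, rfl⟩ := exists_nrmOne (hf.kers g hg)
      exact ⟨(⟨a, ha⟩, 1), by simp [scalUp]⟩), Nat.card_prod, card_nrmOne,
      Nat.card_congr Multiplicative.toAdd, card_X0, h5]
  have htC : tt f ∈ C := (hmemC _).mpr (hf.tt_comm _).symm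
  -- Sylow two
  let T2 : Subgroup C := Subgroup.zpowers ⟨tt f, htC⟩
  have ht2 : orderOf (⟨tt f, htC⟩ : C) = 2 := orderOf_eq_prime (Subtype.ext (by simpa [pow_two] using hf.tt_sq))
    (fun e => hf.tt_ne (congrArg Subtype.val e))
  obtain ⟨P, hP⟩ := (IsPGroup.of_card (n := 1) (show Nat.card T2 = 2 ^ 1 by
    rw [Nat.card_zpowers, ht2, pow_one])).exists_le_sylow
  have hPT : (P : Subgroup C) = T2 := by
    by_contra hne
    haveI : Group.IsNilpotent ↥(P : Subgroup C) := P.2.isNilpotent
    have htop : T2.subgroupOf P ≠ ⊤ := fun e => hne (le_antisymm (Subgroup.subgroupOf_eq_top.mp e) hP)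
    obtain ⟨⟨g, hgP⟩, hgN, hgT⟩ := SetLike.exists_of_lt
      (Group.normalizerCondition_of_isNilpotent (T2.subgroupOf P) (lt_top_iff_ne_top.mpr htop))
    have hgt : g * ⟨tt f, htC⟩ * g⁻¹ ∈ T2 :=
      (Subgroup.mem_normalizer_iff.mp hgN ⟨⟨tt f, htC⟩, hP (Subgroup.mem_zpowers _)⟩).mp (Subgroup.mem_zpowers _)
    have hcomm : (g : G) * tt f = tt f * g := by
      obtain ⟨i, hi⟩ := Subgroup.mem_zpowers_iff.mp hgt
      have hsq : (⟨tt f, htC⟩ : C) ^ (2 : ℤ) = 1 := by rw [zpow_two]; exact Subtype.ext hf.tt_sq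
      rcases Int.even_or_odd i with ⟨j, rfl⟩ | ⟨j, rfl⟩
      · rw [← two_mul, zpow_mul, hsq, one_zpow] at hi
        rw [conj_eq_one_iff.mp hi.symm, orderOf_one] at ht2
        exact absurd ht2 (by norm_num)
      · rw [zpow_add, zpow_mul, hsq, one_zpow, one_mul, zpow_one] at hi
        exact congrArg Subtype.val (eq_mul_inv_iff_mul_eq.mp hi).symm
    set R := ((P : Subgroup C).map C.subtype) ⊓ Subgroup.centralizer {tt f}
    have hRc : R ≤ C ⊓ Subgroup.centralizer {tt f} := inf_le_inf_right _ (Subgroup.map_subtype_le _)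
    obtain ⟨n, hn⟩ := IsPGroup.iff_card.mp ((P.2.map C.subtype).to_le (inf_le_left : R ≤ _))
    have hd : 2 ^ n ∣ 30 := hintc ▸ (hn ▸ Subgroup.card_dvd_of_le hRc).mul_right z
    have hn1 : n ≤ 1 := by
      by_contra hlt
      exact absurd ((pow_dvd_pow 2 (show 2 ≤ n by omega)).trans hd) (by norm_num)
    have hgo : (g : G) ∈ Subgroup.zpowers (tt f) := by
      have hle : Subgroup.zpowers (tt f) ≤ R := (Subgroup.zpowers_le).mpr
        ⟨⟨_, hP (Subgroup.mem_zpowers _), rfl⟩, Subgroup.mem_centralizer_singleton_iff.mpr rfl⟩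
      rw [Subgroup.eq_of_le_of_card_ge hle (by
        rw [hn, Nat.card_zpowers, orderOf_eq_prime (by rw [pow_two, hf.tt_sq]) hf.tt_ne]
        exact (Nat.pow_le_pow_right two_pos hn1).trans_eq (pow_one 2))]
      exact ⟨⟨g, hgP, rfl⟩, Subgroup.mem_centralizer_singleton_iff.mpr hcomm⟩
    obtain ⟨i, hi⟩ := Subgroup.mem_zpowers_iff.mp hgo
    exact hgT (Subgroup.mem_zpowers_iff.mpr ⟨i, Subtype.ext (by simpa using hi)⟩)
  obtain ⟨O, hOC, hOo, hCO, hall⟩ := exists_core_two P (by rw [hPT, Nat.card_zpowers, ht2])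
  have hnorm : ∀ {s : G}, s * x * s⁻¹ ∈ Subgroup.zpowers x → ∀ y ∈ O, s * y * s⁻¹ ∈ O := by
    intro s hs y hy
    refine hall _ ((hmemC _).mpr ?_) ?_
    · have hx' : x ∈ Subgroup.zpowers (s * x * s⁻¹) := GU2Cent.mem_zpowers_of_cyclic (P := Subgroup.zpowers x)
        inferInstance (Subgroup.mem_zpowers _) hs
        (by rw [show s * x * s⁻¹ = (MulAut.conj s) x from rfl, MulEquiv.orderOf_eq, hxo])
        (orderOf_dvd_iff_pow_eq_one.mp hxo.dvd)
      obtain ⟨i, hi⟩ := Subgroup.mem_zpowers_iff.mp hx'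
      have hcy : Commute y x := (hmemC y).mp (hOC hy)
      have hc' := ((hcy.map (MulAut.conj s).toMonoidHom).zpow_right i).eq
      simp only [MulEquiv.toMonoidHom_eq_coe, MonoidHom.coe_coe, MulAut.conj_apply, hi] at hc'
      exact hc'
    · rw [show s * y * s⁻¹ = (MulAut.conj s) y from rfl, MulEquiv.orderOf_eq]
      exact hOo.of_dvd_nat (Subgroup.orderOf_dvd_natCard O hy)
  have htO : ∀ y ∈ O, tt f * y * (tt f)⁻¹ ∈ O := hnorm (by
    rw [← hf.tt_comm, mul_inv_cancel_right]; exact Subgroup.mem_zpowers _)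
  set I := Cfsg.invertedBy O (tt f) with hI
  set r := Nat.card I with hr
  have hOI := RankOne.Inverted.card_eq hOo htO hf.tt_sq
  have hOint : Nat.card ↥(O ⊓ Subgroup.centralizer {tt f}) * z = 15 := by
    set A := O ⊓ Subgroup.centralizer {tt f}
    set B := C ⊓ Subgroup.centralizer {tt f}
    have hAB : A ≤ B := inf_le_inf_right _ hOC
    have hAo : Odd (Nat.card A) := hOo.of_dvd_nat (Subgroup.card_dvd_of_le inf_le_left)
    have hd : Nat.card A ∣ Nat.card B := Subgroup.card_dvd_of_le hAB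
    have h1 : (O.subgroupOf C).index = 2 := by
      have := Subgroup.card_mul_index (O.subgroupOf C)
      rw [Nat.card_congr (Subgroup.subgroupOfEquivOfLe hOC).toEquiv, hCO, mul_comm 2] at this
      exact Nat.eq_of_mul_eq_mul_left Nat.card_pos this
    have h2 : A.relIndex B ≤ 2 := by
      rw [show A = O ⊓ B from le_antisymm (le_inf inf_le_left hAB) (inf_le_inf_left _ inf_le_right),
        Subgroup.inf_relIndex_right, ← h1]
      exact Subgroup.relIndex_le_of_le_right inf_le_left (show (O.subgroupOf C).index ≠ 0 by rw [h1]; norm_num)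
    have h3 : Nat.card A * A.relIndex B = Nat.card B := by
      rw [← Nat.card_congr (Subgroup.subgroupOfEquivOfLe hAB).toEquiv]
      exact Subgroup.card_mul_index _
    obtain ⟨e, he⟩ := hd
    have he2 : e ∣ 2 := by
      rw [he] at h3
      have h4 := Nat.eq_of_mul_eq_mul_left Nat.card_pos h3
      have h5 : e ≠ 0 := fun e0 => by rw [e0, mul_zero] at he; exact absurd he Nat.card_pos.ne'
      rw [h4] at h2
      interval_cases e <;> norm_num at *
    rcases (Nat.dvd_prime Nat.prime_two).mp he2 with rfl | rfl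
    · rw [mul_one] at he
      have : Odd (30 : ℕ) := hintc ▸ (he ▸ hAo).mul hf.kero
      exact absurd this (by decide)
    · rw [he] at hintc; linarith
  have hCcard : Nat.card C * z = 30 * r := by
    rw [hCO, hOI, ← hI, ← hr, show 2 * (Nat.card ↥(O ⊓ Subgroup.centralizer {tt f}) * r) * z =
      2 * r * (Nat.card ↥(O ⊓ Subgroup.centralizer {tt f}) * z) by ring, hOint]
    ring
  -- the element of order eight acts without fixed points on `I`
  obtain ⟨g, hg⟩ := IsCyclic.exists_ofOrder_eq_natCard (α := Fˣ)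
  rw [card_units_q (c := c), h5] at hg
  set ε := g ^ 3 with hε
  have hεo : orderOf ε = 8 := by rw [hε, orderOf_pow_of_dvd (by norm_num) (hg ▸ by norm_num), hg]; norm_num
  have hε4 : ε ^ 4 = -1 := by
    refine Units.ext ?_
    have h1 : ((ε ^ 4 : Fˣ) : F) * ((ε ^ 4 : Fˣ) : F) = 1 := by
      rw [← Units.val_mul, ← pow_add, show 4 + 4 = 8 from rfl, ← hεo, pow_orderOf_eq_one, Units.val_one]
    rw [Units.val_neg, Units.val_one]
    refine (mul_self_eq_one_iff.mp h1).resolve_left fun h => ?_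
    have := Nat.le_of_dvd (by norm_num) (orderOf_dvd_of_pow_eq_one (Units.ext (h.trans Units.val_one.symm) : ε ^ 4 = 1))
    omega
  set τ := f (dg ε) with hτ
  have hτ4 : τ ^ 4 = tt f := by rw [hτ, ← map_pow, ← map_pow, hε4]; rfl
  have hτo : orderOf τ = 8 := orderOf_eq_prime_pow (p := 2) (n := 2)
    (by rw [show 2 ^ 2 = 4 from rfl, hτ4]; exact hf.tt_ne)
    (by rw [show 2 ^ (2 + 1) = 4 * 2 from rfl, pow_mul, hτ4, pow_two, hf.tt_sq])
  have hconjX : ∀ a : Fˣ, f (dg a) * x * (f (dg a))⁻¹ ∈ Subgroup.zpowers x := fun a => by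
    rw [← hrootz, hx, ← map_mul, dg_up a b (norm_mul_X0 _ b), map_mul, mul_inv_cancel_right]
    exact mem_root.mpr ⟨_, rfl⟩
  have hstab : ∀ y ∈ I, τ * y * τ⁻¹ ∈ I := fun y hy => ⟨hnorm (hconjX ε) y hy.1, by
    have e : tt f * τ = τ * tt f := (hf.tt_comm _).symm
    calc tt f * (τ * y * τ⁻¹) * (tt f)⁻¹ = (tt f * τ) * y * (tt f * τ)⁻¹ := by group
      _ = τ * (tt f * y * (tt f)⁻¹) * τ⁻¹ := by rw [e]; group
      _ = (τ * y * τ⁻¹)⁻¹ := by rw [hy.2]; group⟩
  have hstab' : ∀ s ∈ Subgroup.zpowers τ, ∀ y ∈ I, s * y * s⁻¹ ∈ I := by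
    intro s hs
    obtain ⟨n, rfl⟩ := (Submonoid.mem_powers_iff _ _).mp (mem_powers_iff_mem_zpowers.mpr hs)
    induction n with
    | zero => intro y hy; simpa using hy
    | succ n ih =>
      intro y hy
      rw [show τ ^ (n + 1) * y * (τ ^ (n + 1))⁻¹ = τ * (τ ^ n * y * (τ ^ n)⁻¹) * τ⁻¹ by rw [pow_succ']; group]
      exact hstab _ (ih (Subgroup.npow_mem_zpowers τ n) y hy)
  letI act : MulAction (Subgroup.zpowers τ) I :=
    { smul := fun s y => ⟨(s : G) * y * (s : G)⁻¹, hstab' s s.2 y y.2⟩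
      one_smul := fun y => Subtype.ext (by show ((1 : Subgroup.zpowers τ) : G) * y * ((1 : Subgroup.zpowers τ) : G)⁻¹ = y; simp)
      mul_smul := fun s s' y => Subtype.ext (by
        show ((s * s' : Subgroup.zpowers τ) : G) * y * ((s * s' : Subgroup.zpowers τ) : G)⁻¹ =
          (s : G) * ((s' : G) * y * (s' : G)⁻¹) * (s : G)⁻¹
        simp [mul_assoc]) }
  have h8 : (8 : ℤ) ∣ (r : ℤ) - 1 := by
    have h := CfsgLib.GL2Cent.dvd_of_fixed (A := Subgroup.zpowers τ) (Ω := I) ⊥
      (fun u hu y => by rw [Subgroup.mem_bot] at hu; rw [hu, one_smul]) (c := 1) (fun s hs => ?_)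
    · rwa [Subgroup.index_bot, Nat.card_zpowers, hτo] at h
    rw [Subgroup.mem_bot] at hs
    have htt : tt f ∈ Subgroup.zpowers (s : G) := by
      obtain ⟨j, hj, hjo⟩ : ∃ j, j ≤ 3 ∧ orderOf (s : G) = 2 ^ j :=
        (Nat.dvd_prime_pow Nat.prime_two).mp (show orderOf (s : G) ∣ 2 ^ 3 by
          rw [show 2 ^ 3 = 8 from rfl, ← hτo, ← Nat.card_zpowers τ]; exact Subgroup.orderOf_dvd_natCard _ s.2)
      have hj0 : j ≠ 0 := fun e => hs (Subtype.ext (orderOf_eq_one_iff.mp (by rw [hjo, e, pow_zero])))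
      set u := (s : G) ^ 2 ^ (j - 1) with hu
      have huo : orderOf u = 2 := by
        rw [hu, orderOf_pow_of_dvd (by positivity) (hjo ▸ pow_dvd_pow 2 (by omega)), hjo,
          Nat.pow_div (by omega) two_pos, show j - (j - 1) = 1 by omega, pow_one]
      have h1 : tt f ∈ Subgroup.zpowers u := GU2Cent.mem_zpowers_of_cyclic (P := Subgroup.zpowers τ) inferInstance
        (hτ4 ▸ Subgroup.npow_mem_zpowers τ 4) (pow_mem s.2 _) huo (by rw [pow_two, hf.tt_sq])
      exact (Subgroup.zpowers_le.mpr (pow_mem (Subgroup.mem_zpowers _) _)) h1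
    have hone : (1 : G) ∈ I := ⟨one_mem _, by simp⟩
    rw [Nat.cast_eq_one, Nat.card_eq_one_iff_unique]
    refine ⟨⟨fun y y' => ?_⟩, ⟨⟨⟨1, hone⟩, Subtype.ext (by show (s : G) * 1 * (s : G)⁻¹ = 1; simp)⟩⟩⟩
    have key : ∀ w : MulAction.fixedBy I s, ((w : I) : G) = 1 := fun w => by
      have hw : (s : G) * ((w : I) : G) * (s : G)⁻¹ = ((w : I) : G) := congrArg Subtype.val w.2
      have hcs : Commute (s : G) ((w : I) : G) := mul_inv_eq_iff_eq_mul.mp hw
      obtain ⟨n, hn⟩ := Subgroup.mem_zpowers_iff.mp htt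
      have hct := (hcs.zpow_left n).eq
      rw [hn] at hct
      have h2 := (w : I).2.2
      rw [hct, mul_inv_cancel_right] at h2
      exact RankOne.Inverted.eq_one_of_sq hOo (w : I).2.1 (by nth_rewrite 2 [h2]; exact mul_inv_cancel _)
    exact Subtype.ext (Subtype.ext ((key y).trans (key y').symm))
  -- the normaliser of the root group
  set N := Subgroup.normalizer (root f : Set G) with hN
  have hNC : (C.subgroupOf N).index = 4 := by
    set ψ := (root f).normalizerMonoidHom
    have hker : ψ.ker = C.subgroupOf N := by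
      rw [Subgroup.normalizerMonoidHom_ker]
      congr 1
      rw [hC, hrootz, Subgroup.zpowers_eq_closure, Subgroup.centralizer_closure]
    rw [← hker, Subgroup.index_ker]
    have hd : Nat.card ψ.range ∣ 4 := by
      refine (Subgroup.card_subgroup_dvd_card _).trans (dvd_of_eq ?_)
      haveI : IsCyclic (root f) := isCyclic_of_prime_card hXc
      rw [IsCyclic.card_mulAut, hXc]; rfl
    have hτN : τ ∈ N := Subgroup.mem_normalizer_fintype fun y hy => by
      obtain ⟨y', rfl⟩ := mem_root.mp hy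
      rw [hτ, ← map_mul, dg_up ε y' (norm_mul_X0 _ y'), map_mul, mul_inv_cancel_right]
      exact mem_root.mpr ⟨_, rfl⟩
    refine Nat.dvd_antisymm hd ?_
    have hsq : ψ ⟨τ ^ 2, pow_mem hτN 2⟩ ≠ 1 := by
      intro e
      have hm : (⟨τ ^ 2, pow_mem hτN 2⟩ : N) ∈ C.subgroupOf N := hker ▸ MonoidHom.mem_ker.mpr e
      have hm' : τ ^ 2 * x = x * τ ^ 2 := (hmemC _).mp hm
      rw [hτ, hx, ← map_pow, ← map_pow] at hm'
      obtain ⟨-, e00⟩ := of_comm_up hb (hf.comm_iff.mp hm')
      have hn : (ε ^ 2) ^ (c.q + 1) = 1 := mem_nrmOne'.mp (mem_nrmOne.mpr (by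
        have e00' : ((ε ^ 2 : Fˣ) : F) = (c.σ ((ε ^ 2 : Fˣ) : F))⁻¹ := e00
        rw [← inv_inv (c.σ ((ε ^ 2 : Fˣ) : F)), ← e00', mul_inv_cancel₀ (Units.ne_zero _)]))
      rw [h5, ← pow_mul] at hn
      have := orderOf_dvd_of_pow_eq_one hn
      rw [hεo] at this
      exact absurd this (by norm_num)
    have ho : orderOf (ψ ⟨τ, hτN⟩) = 2 ^ (1 + 1) := orderOf_eq_prime_pow
      (by rw [← map_pow]; exact hsq)
      (by
        have h := (orderOf_dvd_natCard (⟨_, ⟨⟨τ, hτN⟩, rfl⟩⟩ : ψ.range)).trans hd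
        rw [← Subgroup.orderOf_coe] at h
        exact orderOf_dvd_iff_pow_eq_one.mp h)
    exact (show 4 = 2 ^ (1 + 1) from rfl) ▸ ho ▸ Subgroup.orderOf_dvd_natCard _ ⟨_, rfl⟩
  have hNcard : Nat.card N * z = 120 * r := by
    have hCN : C ≤ N := by
      rw [hN, hrootz]
      refine le_trans (le_of_eq ?_) (Subgroup.centralizer_le_normalizer _)
      rw [hC, Subgroup.zpowers_eq_closure, Subgroup.centralizer_closure]
    rw [← Subgroup.card_mul_index (C.subgroupOf N), hNC,
      Nat.card_congr (Subgroup.subgroupOfEquivOfLe hCN).toEquiv, mul_right_comm, hCcard]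
    ring
  have hn5 : N.index * r = 2142 := by
    have h := N.card_mul_index
    have h' : Nat.card N * z * N.index = 257040 := by rw [mul_right_comm, h, hG]
    rw [hNcard] at h'
    linarith
  -- Sylow five
  have hmod : N.index ≡ 1 [MOD 5] := by
    have hf5 : (Nat.card G).factorization 5 = 1 := by
      have hd : ¬ 5 ^ 2 ∣ Nat.card G := fun h => absurd (h.trans (Dvd.intro z hG)) (by norm_num)
      have h1 : 5 ^ 1 ∣ Nat.card G := by
        rw [pow_one, ← hxo]; exact orderOf_dvd_natCard x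
      rw [Nat.Prime.pow_dvd_iff_le_factorization (by norm_num) Nat.card_pos.ne'] at hd h1
      omega
    let P5 : Sylow 5 G := Sylow.ofCard (root f) (by rw [hXc, hf5, pow_one])
    have : Nat.card (Sylow 5 G) = N.index := Sylow.card_eq_index_normalizer P5
    rw [← this]
    exact card_sylow_modEq_one 5 G
  have hr17 : r = 17 := by
    have hmem : r ∈ Nat.divisors 2142 := Nat.mem_divisors.mpr ⟨Dvd.intro_left _ hn5, by norm_num⟩
    have hN' : N.index = 2142 / r := by
      rw [← hn5, Nat.mul_div_cancel _ (Nat.pos_of_ne_zero fun e => by rw [e, mul_zero] at hn5; norm_num at hn5)]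
    rw [Nat.ModEq, hN'] at hmod
    have key : ∀ s ∈ Nat.divisors 2142, s % 8 = 1 → (2142 / s) % 5 = 1 % 5 → s = 17 := by decide +kernel
    exact key r hmem (by omega) hmod
  -- an element of order seventeen in `C`
  obtain ⟨⟨y, hyC⟩, hy⟩ := exists_prime_orderOf_dvd_card' (G := C) 17 (by
    have h : 17 ∣ Nat.card C * z := by rw [hCcard, hr17]; norm_num
    refine ((Nat.Prime.dvd_mul h17.out).mp h).resolve_right fun hzd => ?_
    exact absurd ((hzd.trans (Dvd.intro_left _ hcent))) (by norm_num))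
  rw [Subgroup.orderOf_mk] at hy
  have hyx : y * x = x * y := (hmemC y).mp hyC
  set P17 := Subgroup.zpowers y with hP17
  have hf17 : (Nat.card G).factorization 17 = 1 := by
    have hd : ¬ 17 ^ 2 ∣ Nat.card G := fun h => absurd (h.trans (Dvd.intro z hG)) (by norm_num)
    have h1 : 17 ^ 1 ∣ Nat.card G := by rw [pow_one, ← hy]; exact orderOf_dvd_natCard y
    rw [Nat.Prime.pow_dvd_iff_le_factorization (by norm_num) Nat.card_pos.ne'] at hd h1
    omega
  let S : Sylow 17 G := Sylow.ofCard P17 (by rw [hf17, pow_one, hP17, Nat.card_zpowers, hy])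
  set n17 := Nat.card (Sylow 17 G) with hn17
  have hxN : x ∈ Subgroup.normalizer (P17 : Set G) := Subgroup.mem_normalizer_fintype fun w hw => by
    obtain ⟨i, rfl⟩ := Subgroup.mem_zpowers_iff.mp hw
    show x * y ^ i * x⁻¹ ∈ P17
    rw [← ((show Commute y x from hyx).zpow_left i).eq, mul_inv_cancel_right]
    exact zpow_mem (Subgroup.mem_zpowers y) i
  have hcases : n17 = 1 ∨ n17 = 18 := by
    have hidx : n17 = (Subgroup.normalizer (P17 : Set G)).index := Sylow.card_eq_index_normalizer S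
    set N17 := Subgroup.normalizer (P17 : Set G)
    have h85 : 85 ∣ Nat.card N17 := by
      refine (Nat.Coprime.mul_dvd_of_dvd_of_dvd (by norm_num : Nat.Coprime 5 17) ?_ ?_)
      · rw [← hxo]; exact Subgroup.orderOf_dvd_natCard _ hxN
      · rw [← hy]; exact Subgroup.orderOf_dvd_natCard _ (Subgroup.le_normalizer (Subgroup.mem_zpowers y))
    have hd : 85 * n17 ∣ 257040 := by
      rw [hidx, ← hG, ← N17.card_mul_index]
      exact (mul_dvd_mul_right h85 _).mul_right z
    have hd' : n17 ∈ Nat.divisors 3024 := Nat.mem_divisors.mpr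
      ⟨Nat.dvd_of_mul_dvd_mul_left (by norm_num : 0 < 85) (by simpa using hd), by norm_num⟩
    have hm : n17 % 17 = 1 := by simpa [Nat.ModEq] using card_sylow_modEq_one 17 G
    have key : ∀ s ∈ Nat.divisors 3024, s % 17 = 1 → s = 1 ∨ s = 18 := by decide +kernel
    exact key n17 hd' hm
  -- `x` acts trivially on the Sylow subgroups
  set φ := MulAction.toPermHom G (Sylow 17 G) with hφ
  have hxfix : ∀ Q : Sylow 17 G, x • Q = Q := by
    have hxS : x • S = S := Sylow.smul_eq_iff_mem_normalizer.mpr hxN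
    have hyS : y • S = S := Sylow.smul_eq_iff_mem_normalizer.mpr (Subgroup.le_normalizer (Subgroup.mem_zpowers y))
    rcases hcases with h1 | h18
    · intro Q
      haveI := (Nat.card_eq_one_iff_unique.mp h1).1
      exact Subsingleton.elim _ _
    -- the other seventeen form one orbit of `y`
    intro Q
    by_cases hQ : Q = S
    · rw [hQ, hxS]
    have horb : Nat.card (MulAction.orbit (Subgroup.zpowers y) Q) = 17 := by
      have hd : Nat.card (MulAction.orbit (Subgroup.zpowers y) Q) ∣ 17 := by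
        rw [Nat.card_congr (MulAction.orbitEquivQuotientStabilizer _ _)]
        exact (Subgroup.card_quotient_dvd_card _).trans (by rw [Nat.card_zpowers, hy])
      refine ((Nat.dvd_prime h17.out).mp hd).resolve_left fun h1 => hQ ?_
      have hyQ : y • Q = Q := by
        haveI := (Nat.card_eq_one_iff_unique.mp h1).1
        exact congrArg Subtype.val (Subsingleton.elim
          (⟨y • Q, ⟨(⟨y, Subgroup.mem_zpowers y⟩ : Subgroup.zpowers y), rfl⟩⟩ : MulAction.orbit (Subgroup.zpowers y) Q)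
          ⟨Q, MulAction.mem_orbit_self Q⟩)
      have hyQ' : y ∈ (Q : Subgroup G) := by
        have hm := Sylow.smul_eq_iff_mem_normalizer.mp hyQ
        have hp : IsPGroup 17 (Subgroup.zpowers y) := IsPGroup.of_card (n := 1) (by rw [Nat.card_zpowers, hy, pow_one])
        have h := hp.inf_normalizer_sylow Q
        rw [inf_eq_left.mpr ((Subgroup.zpowers_le).mpr hm)] at h
        exact (inf_eq_left.mp h.symm) (Subgroup.mem_zpowers y)
      exact Sylow.ext (S.is_maximal' Q.2 ((Subgroup.zpowers_le).mpr hyQ')).symm |>.symm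
    -- `x` maps the orbit to itself
    have hall' : ∀ Q' : Sylow 17 G, Q' ≠ S → Q' ∈ MulAction.orbit (Subgroup.zpowers y) Q := by
      intro Q' hne
      by_contra hnot
      have hsub : MulAction.orbit (Subgroup.zpowers y) Q ⊆ ({S, Q'} : Set (Sylow 17 G))ᶜ := by
        rintro R hR (rfl | rfl)
        · obtain ⟨⟨w, hw⟩, hwR⟩ := hR
          refine hQ ?_
          have hw' : w • S = S := Sylow.smul_eq_iff_mem_normalizer.mpr (Subgroup.le_normalizer hw)
          exact MulAction.injective w (hwR.trans hw'.symm)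
        · exact hnot hR
      have h := Set.ncard_le_ncard hsub (Set.toFinite _)
      rw [← Nat.card_coe_set_eq, horb, Set.ncard_compl, Set.ncard_pair (Ne.symm hne), ← hn17, h18] at h
      norm_num at h
    have hcomm : ∀ w : Subgroup.zpowers y, ∀ R : Sylow 17 G, x • (w • R) = w • (x • R) := fun w R => by
      obtain ⟨i, hi⟩ := Subgroup.mem_zpowers_iff.mp w.2
      show x • ((w : G) • R) = (w : G) • (x • R)
      rw [smul_smul, smul_smul, ← hi, ((show Commute y x from hyx).zpow_left i).eq]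
    have hxQ : x • Q ≠ S := fun e => hQ (MulAction.injective x (e.trans hxS.symm))
    obtain ⟨w, hw⟩ := hall' _ hxQ
    have hn : ∀ n : ℕ, x ^ n • Q = w ^ n • Q := by
      intro n
      induction n with
      | zero => simp
      | succ n ih => rw [pow_succ', mul_smul, ih, hcomm, ← hw, ← mul_smul, ← pow_succ]
    have hw5 : w ^ 5 • Q = Q := by
      rw [← hn, show x ^ 5 = 1 from hxo ▸ pow_orderOf_eq_one x, one_smul]
    have hw17 : w ^ 17 = 1 := by
      refine Subtype.ext ?_
      rw [Subgroup.coe_pow, OneMemClass.coe_one]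
      exact orderOf_dvd_iff_pow_eq_one.mp ((Subgroup.orderOf_dvd_natCard _ w.2).trans (by rw [Nat.card_zpowers, hy]))
    rw [← hw]
    have e : w = (w ^ 5) ^ 7 := by
      rw [← pow_mul, show 5 * 7 = 17 * 2 + 1 from rfl, pow_succ, pow_mul, hw17, one_pow, one_mul]
    rw [e]
    have hst : ∀ n : ℕ, (w ^ 5) ^ n • Q = Q := fun n => by
      induction n with
      | zero => simp
      | succ n ih => rw [pow_succ, mul_smul, hw5, ih]
    exact hst 7
  have hxker : x ∈ φ.ker := MonoidHom.mem_ker.mpr (Equiv.ext hxfix)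
  rcases IsSimpleGroup.eq_bot_or_eq_top_of_normal φ.ker inferInstance with h | h
  · rw [h, Subgroup.mem_bot] at hxker
    rw [hxker, orderOf_one] at hxo
    norm_num at hxo
  · -- `P17` is then normal
    have hnorm17 : Subgroup.normalizer (P17 : Set G) = ⊤ := eq_top_iff.mpr fun g _ => by
      have hg : φ g = 1 := MonoidHom.mem_ker.mp (h ▸ Subgroup.mem_top g)
      exact Sylow.smul_eq_iff_mem_normalizer.mp (congrFun (congrArg DFunLike.coe hg) S)
    haveI : P17.Normal := Subgroup.normalizer_eq_top_iff.mp hnorm17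
    rcases IsSimpleGroup.eq_bot_or_eq_top_of_normal P17 inferInstance with h' | h'
    · rw [hP17, Subgroup.zpowers_eq_bot] at h'
      rw [h', orderOf_one] at hy
      norm_num at hy
    · have h1 := congrArg (fun K : Subgroup G => Nat.card K) h'
      simp only [hP17, Nat.card_zpowers, hy, Subgroup.card_top] at h1
      have := orderOf_dvd_natCard x
      rw [hxo, ← h1] at this
      norm_num at this

end Hyp

end CfsgLib.U3Cent
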