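import Cfsg.Agent.Lib.U3Cent.Module
import Mathlib.GroupTheory.QuotientGroup.Basic

/-!
# Labels of triples

An element `r` of the radical outside the root group has a class, the class of `π r` modulo the image of `χ`, and
a slope `ss f r`. The triple of `r` is determined by them, and `jr` gives the exchange of the base points.
-/

set_option autoImplicit false
set_option linter.unusedSectionVars false
set_option linter.style.haveILetI false

namespace CfsgLib.U3Cent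

open CfsgLib.PSUBorel

universe u v

variable {G : Type u} [Group G] {F : Type v} [Field F] [Fintype F] {c : Conj F}

open Classical in
/-- The class of an element of the field. -/
noncomputable def cl (χ : Fˣ →* Fˣ) (b : F) : Fˣ ⧸ χ.range :=
  if h : b = 0 then 1 else QuotientGroup.mk (Units.mk0 b h)

/-- The slope. -/
noncomputable def ss (f : W c →* G) (r : G) : F := (ac f r - c.σ (ac f r)) / (ac f r + c.σ (ac f r))

open Classical in
/-- The element giving the image of `r • y` under `ww`. -/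
noncomputable def jr (f : W c →* G) (R : Subgroup G) (r : G) : G :=
  Classical.epsilon fun r' => r' ∈ R ∧ r' ≠ 1 ∧ f ww • r • by0 f = r' • by0 f ∧ ac f r' = 1 / ac f r

theorem cl_mk (χ : Fˣ →* Fˣ) (u : Fˣ) : cl χ (u : F) = QuotientGroup.mk u := by
  rw [cl, dif_neg u.ne_zero, Units.mk0_val]

theorem cl_mul (χ : Fˣ →* Fˣ) (a : Fˣ) {b : F} (hb : b ≠ 0) : cl χ ((χ a : F) * b) = cl χ b := by
  rw [show (χ a : F) * b = ((χ a * Units.mk0 b hb : Fˣ) : F) from rfl, cl_mk, cl, dif_neg hb]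
  refine QuotientGroup.eq.mpr ?_
  rw [_root_.mul_inv_rev, mul_right_comm, inv_mul_cancel, one_mul]
  exact inv_mem ⟨a, rfl⟩

theorem exists_of_cl {χ : Fˣ →* Fˣ} {b b' : F} (hb : b ≠ 0) (hb' : b' ≠ 0) (h : cl χ b = cl χ b') :
    ∃ a : Fˣ, b' = (χ a : F) * b := by
  rw [cl, cl, dif_neg hb, dif_neg hb'] at h
  obtain ⟨a, ha⟩ := QuotientGroup.eq.mp h
  refine ⟨a, ?_⟩
  rw [ha, Units.val_mul, Units.val_inv_eq_inv_val, Units.val_mk0, Units.val_mk0, mul_right_comm,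
    inv_mul_cancel₀ hb, one_mul]

variable [Finite G] [IsSimpleGroup G] {p n : ℕ} [hp : Fact p.Prime]

namespace Rad

variable {f : W c →* G} {R : Subgroup G} (hR : Rad p n f R) {π : G → F} {χ : Fˣ →* Fˣ} (hP : Proj f R π χ)
include hR

theorem tr_ne {r : G} (hr : r ∈ R) (hx : r ∉ root f) : ac f r + c.σ (ac f r) ≠ 0 := fun h =>
  hx ((hR.trace_eq_zero hr).mp h)

theorem ss_mem {r : G} : ss f r ∈ X0 c := by
  rw [mem_X0, ss, map_div₀, map_sub, map_add, c.invol, add_comm (c.σ (ac f r)), ← add_div,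
    sub_add_sub_cancel', sub_self, zero_div]

theorem jr_spec {r : G} (hr : r ∈ R) (hr1 : r ≠ 1) :
    jr f R r ∈ R ∧ jr f R r ≠ 1 ∧ f ww • r • by0 f = jr f R r • by0 f ∧ ac f (jr f R r) = 1 / ac f r := by
  obtain ⟨r', h⟩ := hR.exists_ww hr hr1
  exact Classical.epsilon_spec (p := fun r' => r' ∈ R ∧ r' ≠ 1 ∧ f ww • r • by0 f = r' • by0 f ∧
    ac f r' = 1 / ac f r) ⟨r', h⟩

theorem jr_not_root {r : G} (hr : r ∈ R) (hx : r ∉ root f) : jr f R r ∉ root f := by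
  have hr1 : r ≠ 1 := fun e => hx (e ▸ one_mem _)
  obtain ⟨h1, -, -, h4⟩ := hR.jr_spec hr hr1
  intro h
  have h' := (hR.trace_eq_zero h1).mpr h
  have hne := hR.ac_ne_zero hr hr1
  rw [h4, one_div, map_inv₀, inv_add_inv hne ((map_ne_zero c.σ).mpr hne), div_eq_zero_iff] at h'
  exact h'.elim (hR.tr_ne hr hx) (mul_ne_zero hne ((map_ne_zero c.σ).mpr hne))

theorem jr_ss {r : G} (hr : r ∈ R) (hx : r ∉ root f) : ss f (jr f R r) = -ss f r := by
  have hr1 : r ≠ 1 := fun e => hx (e ▸ one_mem _)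
  have hne := hR.ac_ne_zero hr hr1
  have hs := (map_ne_zero c.σ).mpr hne
  rw [ss, ss, (hR.jr_spec hr hr1).2.2.2, one_div, map_inv₀, inv_sub_inv hne hs, inv_add_inv hne hs,
    div_div_div_cancel_right₀ (mul_ne_zero hne hs), ← neg_sub (ac f r), neg_div]

theorem jr_jr {r : G} (hr : r ∈ R) (hr1 : r ≠ 1) : jr f R (jr f R r) = r := by
  obtain ⟨h1, h2, h3, -⟩ := hR.jr_spec hr hr1
  obtain ⟨h1', -, h3', -⟩ := hR.jr_spec h1 h2
  refine hR.smul_inj h1' hr ?_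
  rw [← h3', ← h3, smul_smul, ← _root_.map_mul, ww_sq, map_one, one_smul]

include hP

theorem pi_ne {r : G} (hr : r ∈ R) (hx : r ∉ root f) : π r ≠ 0 := fun h => hx ((hP.eq_zero r hr).mp h)

theorem pi_one : π 1 = 0 := (hP.eq_zero 1 (one_mem R)).mpr (one_mem _)

theorem pi_inv {r : G} (hr : r ∈ R) : π r⁻¹ = -π r := by
  have h := hP.map_mul r⁻¹ (inv_mem hr) r hr
  rw [inv_mul_cancel, hR.pi_one hP] at h
  exact eq_neg_of_add_eq_zero_left h.symm

theorem pi_root_mul {r : G} (hr : r ∈ R) (x : X0 c) : π (f (up x) * r) = π r := by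
  rw [hP.map_mul _ (hR.root_le (mem_root.mpr ⟨x, rfl⟩)) _ hr,
    (hP.eq_zero _ (hR.root_le (mem_root.mpr ⟨x, rfl⟩))).mpr (mem_root.mpr ⟨x, rfl⟩), zero_add]

theorem inv_unique_pi {y w : G} (hy : y ∈ R) (hw : w ∈ R) (hy' : tt f * y * tt f = y⁻¹)
    (hw' : tt f * w * tt f = w⁻¹) (h : π y = π w) : y = w := by
  refine hR.inv_coset hw hy' hw' ((hP.eq_zero _ (mul_mem (inv_mem hw) hy)).mp ?_)
  rw [hP.map_mul _ (inv_mem hw) _ hy, hR.pi_inv hP hw, h, neg_add_cancel]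

/-- The class and the slope determine an element up to the torus. -/
theorem exists_sim {r r' : G} (hr : r ∈ R) (hr' : r' ∈ R) (hx : r ∉ root f) (hx' : r' ∉ root f)
    (hc : cl χ (π r) = cl χ (π r')) (hs : ss f r = ss f r') :
    ∃ a : Fˣ, r' = f (dg a) * r * (f (dg a))⁻¹ := by
  obtain ⟨a, ha⟩ := exists_of_cl (hR.pi_ne hP hr hx) (hR.pi_ne hP hr' hx') hc
  refine ⟨a, ?_⟩
  set w := f (dg a) * r * (f (dg a))⁻¹ with hw
  have hwR : w ∈ R := hR.normal _ (bor_le_nrm f (tor_le_bor f (mem_tor.mpr ⟨a, rfl⟩))) _ hr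
  have hπ : π w = π r' := by rw [ha, hw, hP.equiv a r hr]
  obtain ⟨x, hx0⟩ := mem_root.mp ((hP.eq_zero _ (mul_mem hr' (inv_mem hwR))).mp (by
    rw [hP.map_mul _ hr' _ (inv_mem hwR), hR.pi_inv hP hwR, hπ, add_neg_cancel]))
  have e : r' = f (up x) * w := by rw [hx0, inv_mul_cancel_right]
  have hN : (a : F) * c.σ (a : F) ≠ 0 := mul_ne_zero a.ne_zero ((map_ne_zero c.σ).mpr a.ne_zero)
  have hA : ac f r' = (a : F) * c.σ (a : F) * ac f r + x := by rw [e, hR.ac_up_mul hwR, hw, hR.ac_tor hr]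
  have hσN : c.σ ((a : F) * c.σ (a : F)) = (a : F) * c.σ (a : F) := by rw [map_mul, c.invol, mul_comm]
  rw [ss, ss, hA, map_add, map_mul c.σ ((a : F) * c.σ (a : F)), hσN, sig_X0] at hs
  set N := (a : F) * c.σ (a : F)
  have htr := hR.tr_ne hr hx
  have hden : N * ac f r + ↑x + (N * c.σ (ac f r) + -↑x) = N * (ac f r + c.σ (ac f r)) := by ring
  rw [hden, div_eq_div_iff htr (mul_ne_zero hN htr)] at hs
  have hx2 : (2 : F) * (x : F) = 0 := mul_right_cancel₀ htr (by rw [zero_mul]; linear_combination -hs)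
  rw [e, show x = 0 from Subtype.ext ((mul_eq_zero.mp hx2).resolve_left hR.hyp.two_ne'), up_zero, map_one, one_mul]

/-- The exchange respects the torus. -/
theorem jr_cl_congr {r r' : G} (hr : r ∈ R) (hr' : r' ∈ R) (hx : r ∉ root f) (hx' : r' ∉ root f)
    (hc : cl χ (π r) = cl χ (π r')) (hs : ss f r = ss f r') : cl χ (π (jr f R r)) = cl χ (π (jr f R r')) := by
  obtain ⟨a, ha⟩ := hR.exists_sim hP hr hr' hx hx' hc hs
  obtain ⟨h1, -, h3, -⟩ := hR.jr_spec hr (fun e => hx (e ▸ one_mem _))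
  obtain ⟨h1', -, h3', -⟩ := hR.jr_spec hr' (fun e => hx' (e ▸ one_mem _))
  set b : Fˣ := (Units.map (c.σ : F →* F) a)⁻¹
  have hwR : f (dg b) * jr f R r * (f (dg b))⁻¹ ∈ R :=
    hR.normal _ (bor_le_nrm f (tor_le_bor f (mem_tor.mpr ⟨b, rfl⟩))) _ h1
  have e : jr f R r' = f (dg b) * jr f R r * (f (dg b))⁻¹ := by
    refine hR.smul_inj h1' hwR ?_
    rw [← h3', mul_smul, hR.tor_by0 (inv_mem (mem_tor.mpr ⟨b, rfl⟩)), mul_smul, ← h3, ha, mul_smul,
      hR.tor_by0 (inv_mem (mem_tor.mpr ⟨a, rfl⟩)), mul_smul, smul_smul (f ww), ← _root_.map_mul, ww_dg,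
      _root_.map_mul, mul_smul]
  rw [e, hP.equiv b _ h1, cl_mul χ b (hR.pi_ne hP h1 (hR.jr_not_root hr hx))]

theorem cl_inv {r : G} (hr : r ∈ R) (hx : r ∉ root f) : cl χ (π r⁻¹) = cl χ (π r) := by
  rw [hR.pi_inv hP hr, show -π r = (χ (-1) : F) * π r by rw [hP.neg_one]; simp, cl_mul χ _ (hR.pi_ne hP hr hx)]

theorem exists_rep (b : F) : ∃ y ∈ R, tt f * y * tt f = y⁻¹ ∧ π y = b := by
  obtain ⟨r, hr, rfl⟩ := hP.surj b
  obtain ⟨y, hy, hy', h⟩ := hR.inverted_rep hr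
  obtain ⟨x, hx⟩ := mem_root.mp h
  refine ⟨y, hy, hy', ?_⟩
  rw [show r = f (up x) * y by rw [hR.root_central (mem_root.mpr ⟨x, rfl⟩) hy, hx, mul_inv_cancel_left],
    hR.pi_root_mul hP hy]

theorem exists_split {r : G} (hr : r ∈ R) :
    ∃ y ∈ R, ∃ x : X0 c, tt f * y * tt f = y⁻¹ ∧ r = f (up x) * y ∧ π y = π r := by
  obtain ⟨y, hy, hy', h⟩ := hR.inverted_rep hr
  obtain ⟨x, hx⟩ := mem_root.mp h
  have e : r = f (up x) * y := by rw [hR.root_central (mem_root.mpr ⟨x, rfl⟩) hy, hx, mul_inv_cancel_left]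
  exact ⟨y, hy, x, hy', e, by rw [e, hR.pi_root_mul hP hy]⟩

theorem rep_not_root {y : G} (hy : y ∈ R) (h : π y ≠ 0) : y ∉ root f := fun hx => h ((hP.eq_zero y hy).mpr hx)

theorem ac_inverted_inv {y : G} (hy : y ∈ R) (hy' : tt f * y * tt f = y⁻¹) : ac f y⁻¹ = ac f y := by
  have h := hR.ac_tor hy (-1)
  rw [show f (dg (-1 : Fˣ)) = tt f from rfl, inv_eq_of_mul_eq_one_right hR.hyp.tt_sq, hy'] at h
  rw [h, Units.val_neg, Units.val_one, map_neg, map_one, neg_mul_neg, one_mul, one_mul]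

theorem ac_inv {r y : G} (hy : y ∈ R) (hy' : tt f * y * tt f = y⁻¹) (x : X0 c) (e : r = f (up x) * y) :
    ac f r = ac f y + x ∧ ac f r⁻¹ = ac f y - x := by
  refine ⟨by rw [e, hR.ac_up_mul hy], ?_⟩
  have hi : r⁻¹ = f (up (-x)) * y⁻¹ := by
    have h1 : f (up (-x)) = (f (up x))⁻¹ :=
      eq_inv_of_mul_eq_one_left (by rw [← _root_.map_mul, up_add, neg_add_cancel, up_zero, map_one])
    rw [e, h1, _root_.mul_inv_rev]
    exact (hR.root_central (inv_mem (mem_root.mpr ⟨x, rfl⟩)) (inv_mem hy)).symm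
  rw [hi, hR.ac_up_mul (inv_mem hy), hR.ac_inverted_inv hP hy hy', AddSubgroup.coe_neg, sub_eq_add_neg]

/-- The sum of the slopes of `r` and `r⁻¹` is twice the slope of the inverted element of its coset. -/
theorem ss_add_inv {r y : G} (hy : y ∈ R) (hy' : tt f * y * tt f = y⁻¹) (x : X0 c) (e : r = f (up x) * y) :
    ss f r + ss f r⁻¹ = 2 * ss f y := by
  obtain ⟨h1, h2⟩ := hR.ac_inv hP hy hy' x e
  rw [ss, ss, ss, h1, h2, map_add, map_sub, sig_X0]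
  rw [show ac f y + ↑x + (c.σ (ac f y) + -↑x) = ac f y + c.σ (ac f y) by ring,
    show ac f y - ↑x + (c.σ (ac f y) - -↑x) = ac f y + c.σ (ac f y) by ring, ← add_div, mul_div_assoc']
  congr 1
  ring

theorem ss_inverted_congr {y w : G} (hy : y ∈ R) (hw : w ∈ R) (hy' : tt f * y * tt f = y⁻¹)
    (hw' : tt f * w * tt f = w⁻¹) (hy0 : π y ≠ 0) (hw0 : π w ≠ 0) (h : cl χ (π y) = cl χ (π w)) :
    ss f w = ss f y := by
  obtain ⟨a, ha⟩ := exists_of_cl hy0 hw0 h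
  set z := f (dg a) * y * (f (dg a))⁻¹ with hz
  have hzR : z ∈ R := hR.normal _ (bor_le_nrm f (tor_le_bor f (mem_tor.mpr ⟨a, rfl⟩))) _ hy
  have hc : Commute (tt f) (f (dg a)) := (hR.hyp.tt_comm _).symm
  have hz' : tt f * z * tt f = z⁻¹ := by
    calc tt f * z * tt f = tt f * f (dg a) * y * ((f (dg a))⁻¹ * tt f) := by rw [hz]; group
      _ = f (dg a) * tt f * y * (tt f * (f (dg a))⁻¹) := by rw [hc.eq, hc.inv_right.eq]
      _ = f (dg a) * (tt f * y * tt f) * (f (dg a))⁻¹ := by group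
      _ = _ := by rw [hy', hz]; group
  have e : w = z := hR.inv_unique_pi hP hw hzR hw' hz' (by rw [ha, hz, hP.equiv a y hy])
  rw [e, ss, ss, hR.ac_tor hy, map_mul, map_mul, c.invol, mul_comm (c.σ (a : F)), ← mul_sub, ← mul_add,
    mul_div_mul_left _ _ (mul_ne_zero a.ne_zero ((map_ne_zero c.σ).mpr a.ne_zero))]

omit hP in
/-- One step of the rotation. -/
theorem rot_step {r : G} (hr : r ∈ R) (hr1 : r⁻¹ ≠ 1) :
    (f ww * r⁻¹) • bx f = by0 f ∧ (f ww * r⁻¹) • r • by0 f = bx f ∧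
      (f ww * r⁻¹) • by0 f = jr f R r⁻¹ • by0 f :=
  ⟨by rw [mul_smul, smul_bx.mpr (hR.R_le_nrm (inv_mem hr)), ww_bx], by rw [mul_smul, inv_smul_smul, ww_by0],
    by rw [mul_smul, (hR.jr_spec (inv_mem hr) hr1).2.2.1]⟩

omit hP in
/-- Three rotations give back the triple. -/
theorem rot_three {r : G} (hr : r ∈ R) (hx : r ∉ root f) :
    ∃ a : Fˣ, jr f R (jr f R (jr f R r⁻¹)⁻¹)⁻¹ = f (dg a) * r * (f (dg a))⁻¹ := by
  have hne : ∀ z, z ∉ root f → z⁻¹ ∉ root f ∧ z⁻¹ ≠ 1 := fun z hz =>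
    ⟨fun h => hz (inv_mem_iff.mp h), fun h => hz (inv_eq_one.mp h ▸ one_mem _)⟩
  set r1 := jr f R r⁻¹ with hr1
  have h1 : r1 ∈ R := (hR.jr_spec (inv_mem hr) (hne r hx).2).1
  have hx1 : r1 ∉ root f := hR.jr_not_root (inv_mem hr) (hne r hx).1
  set r2 := jr f R r1⁻¹ with hr2
  have h2 : r2 ∈ R := (hR.jr_spec (inv_mem h1) (hne r1 hx1).2).1
  have hx2 : r2 ∉ root f := hR.jr_not_root (inv_mem h1) (hne r1 hx1).1
  set r3 := jr f R r2⁻¹ with hr3
  have h3 : r3 ∈ R := (hR.jr_spec (inv_mem h2) (hne r2 hx2).2).1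
  obtain ⟨a1, b1, c1⟩ := hR.rot_step hr (hne r hx).2
  obtain ⟨a2, b2, c2⟩ := hR.rot_step h1 (hne r1 hx1).2
  obtain ⟨a3, b3, c3⟩ := hR.rot_step h2 (hne r2 hx2).2
  rw [← hr1] at c1
  rw [← hr2] at c2
  rw [← hr3] at c3
  set g := f ww * r2⁻¹ * (f ww * r1⁻¹) * (f ww * r⁻¹) with hg
  have e0 : g • bx f = bx f := by rw [hg, mul_smul, a1, mul_smul, c2, b3]
  have e1 : g • by0 f = by0 f := by rw [hg, mul_smul, c1, mul_smul, b2, a3]
  obtain ⟨a, ha⟩ := mem_tor.mp (hR.two_point e0 e1)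
  refine ⟨a, hR.smul_inj h3 (hR.normal _ (bor_le_nrm f (tor_le_bor f (mem_tor.mpr ⟨a, rfl⟩))) _ hr) ?_⟩
  rw [mul_smul, hR.tor_by0 (inv_mem (mem_tor.mpr ⟨a, rfl⟩)), mul_smul, ha, hg, mul_smul, b1, mul_smul, a2, c3]

end Rad

end CfsgLib.U3Cent
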