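import Cfsg.Agent.Lib.U3Cent.Pairs
import Cfsg.Agent.Lib.U3Cent.Form

/-!
# The law of the radical and the exchange of the base points

In the normal form `A + σA + N b = 0`, products add `A` up to `σb b'`, and `ww` sends `(A, b)` to `(1 / A, -b / A)`.
-/

set_option autoImplicit false
set_option linter.unusedSectionVars false
set_option linter.style.haveILetI false

namespace CfsgLib.U3Cent

open CfsgLib.PSUBorel

universe u v

variable {G : Type u} [Group G] [Finite G] [IsSimpleGroup G] {F : Type v} [Field F] [Fintype F] {c : Conj F}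
variable {p n : ℕ} [hp : Fact p.Prime]

/-- The coordinates in normal form. -/
structure Normal (f : W c →* G) (R : Subgroup G) (π : G → F) (χ : Fˣ →* Fˣ) : Prop where
  proj : Proj f R π χ
  unitary : ∀ r ∈ R, ac f r + c.σ (ac f r) + π r * c.σ (π r) = 0
  law : ∀ r ∈ R, ∀ r' ∈ R, ac f (r * r') = ac f r + ac f r' - c.σ (π r) * π r'

namespace Rad

variable {f : W c →* G} {R : Subgroup G} (hR : Rad p n f R)
include hR

theorem ker_le {π : G → F} {χ : Fˣ →* Fˣ} (hP : Proj f R π χ) : Nat.card f.ker ≤ 3 := by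
  have hker : f.ker ≤ χ.ker.map (dgHom : Fˣ →* W c) := by
    intro k hk
    obtain ⟨a, -, rfl⟩ := exists_nrmOne (hR.hyp.kers k hk)
    refine ⟨a, ?_, rfl⟩
    obtain ⟨r, hr, hπ⟩ := hP.surj 1
    have h := hP.equiv a r hr
    rw [f.mem_ker.mp hk, inv_one, mul_one, one_mul, hπ, mul_one] at h
    exact MonoidHom.mem_ker.mpr (Units.ext h.symm)
  refine (Subgroup.card_le_of_le hker).trans ?_
  rw [Subgroup.card_map_of_injective dgHom_inj]
  refine le_trans (le_of_eq ?_) (hR.index_le_three hP)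
  have h1 := χ.ker.card_mul_index
  rw [Subgroup.index_ker] at h1
  have h2 := χ.range.card_mul_index
  rw [← h1, mul_comm] at h2
  exact (Nat.eq_of_mul_eq_mul_right Nat.card_pos h2).symm

/-- The coordinates can be normalised. -/
theorem exists_normal : ∃ (π : G → F) (χ : Fˣ →* Fˣ), Normal f R π χ := by
  obtain ⟨π, χ, hP⟩ := hR.exists_proj
  obtain ⟨θ, l, hl, hform⟩ := exists_normal_form c χ (qB f R π) hR.hyp.odd hR.hq (hR.index_le_three hP) (qg f R π)
    (hR.qg_fixed hP) (fun b => hR.qg_ne hP) (hR.qg_tor hP) (hR.qB_add_left hP) (hR.qB_add_right hP) (hR.qB_self hP)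
    (hR.qB_trace hP) (hR.qB_ne hP) (hR.qB_tor hP) (fun b b' => hR.qpair hP)
  refine ⟨fun r => l * θ (π r), (Units.map (θ : F →* F)).comp χ, ⟨⟨fun r hr r' hr' => ?_, fun r hr => ?_,
    fun b => ?_, fun a r hr => ?_, ?_, fun a ha => ?_⟩, fun r hr => ?_, fun r hr r' hr' => ?_⟩⟩
  · simp only [hP.map_mul r hr r' hr', map_add, mul_add]
  · simp [mul_eq_zero, hl, hP.eq_zero r hr]
  · obtain ⟨r, hr, e⟩ := hP.surj (θ.symm (b / l))
    exact ⟨r, hr, by simp only [e, RingEquiv.apply_symm_apply, mul_div_cancel₀ _ hl]⟩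
  · simp only [hP.equiv a r hr, _root_.map_mul, MonoidHom.coe_comp, Function.comp_apply, Units.coe_map,
      MonoidHom.coe_coe]
    ring
  · refine Units.ext ?_
    simp [hP.neg_one]
  · refine hP.ker a (Units.ext (θ.injective ?_))
    have h := congrArg (Units.val : Fˣ → F) ha
    simpa using h
  · obtain ⟨x, hx⟩ := hR.eq_up_qy hP hr
    have hA : ac f r = qg f R π (π r) + x := by
      conv_lhs => rw [hx]
      rw [hR.ac_up_mul (hR.qy_spec hP _).1, qg]
    obtain ⟨hf1, -⟩ := hform (π r) (π r)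
    rw [hA, map_add, hR.qg_fixed hP, sig_X0]
    linear_combination hf1
  · obtain ⟨x, hx⟩ := hR.eq_up_qy hP hr
    obtain ⟨x', hx'⟩ := hR.eq_up_qy hP hr'
    set b := π r
    set b' := π r'
    obtain ⟨y, hy, e⟩ := hR.qy_mul hP b b'
    have hy1 := (hR.qy_spec hP b).1
    have hy2 := (hR.qy_spec hP b').1
    have hA : ac f r = qg f R π b + x := by
      conv_lhs => rw [hx]
      rw [hR.ac_up_mul hy1, qg]
    have hA' : ac f r' = qg f R π b' + x' := by
      conv_lhs => rw [hx']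
      rw [hR.ac_up_mul hy2, qg]
    have hprod : r * r' = f (up (x + x' + y)) * qy f R π (b + b') := by
      rw [← up_add, ← up_add, _root_.map_mul, _root_.map_mul, mul_assoc, ← e]
      conv_lhs => rw [hx, hx']
      have hc : f (up x') * qy f R π b = qy f R π b * f (up x') :=
        hR.root_central (mem_root.mpr ⟨x', rfl⟩) hy1
      calc f (up x) * qy f R π b * (f (up x') * qy f R π b')
          = f (up x) * (qy f R π b * f (up x')) * qy f R π b' := by group
        _ = f (up x) * (f (up x') * qy f R π b) * qy f R π b' := by rw [hc]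
        _ = _ := by group
    obtain ⟨f1, fB⟩ := hform b b'
    obtain ⟨f2, -⟩ := hform b' b'
    obtain ⟨f3, -⟩ := hform (b + b') b'
    rw [hprod, hR.ac_up_mul (hR.qy_spec hP _).1, ← qg, hA, hA', AddSubgroup.coe_add, AddSubgroup.coe_add]
    rw [map_add θ, mul_add, map_add c.σ] at f3
    refine mul_left_cancel₀ hR.hyp.two_ne' ?_
    linear_combination f3 - f1 - f2 + hy + fB

variable {π : G → F} {χ : Fˣ →* Fˣ} (hN : Normal f R π χ)
include hN

theorem norm_chi (a : Fˣ) : (χ a : F) * c.σ (χ a : F) = (a : F) * c.σ (a : F) := by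
  obtain ⟨r, hr, hπ⟩ := hN.proj.surj 1
  have h0 := hN.unitary r hr
  have h1 := hN.unitary _ (hR.normal _ (bor_le_nrm f (tor_le_bor f (mem_tor.mpr ⟨a, rfl⟩))) r hr)
  rw [hR.ac_tor hr, hN.proj.equiv a r hr, hπ, mul_one, _root_.map_mul, _root_.map_mul, c.invol] at h1
  rw [hπ, map_one, mul_one] at h0
  linear_combination h1 - (a : F) * c.σ (a : F) * h0

/-- The image of a reflection line through `y`. -/
theorem chord {m k : G} (hm : m ∈ R) (hk : k ∈ R) (hm' : tt f * m * tt f = m⁻¹) (hm0 : π m ≠ 0) {u : G}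
    (huu : u * u = 1) (hu1 : u ≠ 1) (hu0 : u • by0 f = by0 f) (hum : u • m • by0 f = m • by0 f)
    (huk : u • k • by0 f = k • by0 f) : π k = ac f k * π m / ac f m := by
  have hf := hR.hyp
  have hP := hN.proj
  have h2 := hf.two_ne'
  obtain ⟨h, hh, hh', hhb⟩ := hR.exists_rep hP (π m / 2)
  have hm2 : m = h * h := by
    refine hR.inv_unique_pi hP hm (mul_mem hh hh) hm' ?_ ?_
    · calc tt f * (h * h) * tt f = tt f * h * (tt f * tt f) * h * tt f := by rw [hf.tt_sq]; group
        _ = tt f * h * tt f * (tt f * h * tt f) := by group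
        _ = _ := by rw [hh']; group
    · rw [hP.map_mul _ hh _ hh, hhb]; field_simp; ring
  have hfixh := hR.ac_fixed hP hh hh'
  set a := ac f h with ha
  have hhx : h ∉ root f := hR.rep_not_root hP hh (by rw [hhb]; exact div_ne_zero hm0 h2)
  have hat : a + c.σ a ≠ 0 := hR.tr_ne hh hhx
  have hfix : f (refl a) • h • by0 f = h • by0 f := by
    rcases hR.ac_spec hh with ⟨x, -, e⟩ | ⟨-, e⟩
    · exact absurd (e ▸ mem_root.mpr ⟨x, rfl⟩) hhx
    · exact e
  have hfixi : f (refl a) • h⁻¹ • by0 f = h⁻¹ • by0 f := by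
    have e : h⁻¹ • by0 f = tt f • h • by0 f := by rw [← hh', mul_smul, mul_smul, hR.tt_by0]
    rw [e, smul_smul (f (refl a)), hf.tt_comm, mul_smul, hfix]
  have hne : by0 f ≠ m • by0 f := fun e => hm0 (by
    rw [hR.eq_one_of_fix hm e.symm, hR.pi_one hP])
  have hueq : u = h * f (refl a) * h⁻¹ := by
    refine hR.inv_unique hne huu hu1 ?_ ?_ hu0 hum ?_ ?_
    · rw [show h * f (refl a) * h⁻¹ * (h * f (refl a) * h⁻¹) = h * (f (refl a) * f (refl a)) * h⁻¹ by group,
        hf.refl_sq' hat]; group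
    · exact fun e => hf.refl_ne hat (conj_eq_one_iff.mp e)
    · rw [mul_smul, mul_smul, hfixi, smul_inv_smul]
    · rw [mul_smul, mul_smul, hm2, mul_smul h h, inv_smul_smul, hfix]
  set k1 := h⁻¹ * k with hk1
  have hk1R : k1 ∈ R := mul_mem (inv_mem hh) hk
  have hk1f : f (refl a) • k1 • by0 f = k1 • by0 f := by
    rw [hueq, mul_smul, mul_smul] at huk
    rw [hk1, mul_smul, eq_inv_smul_iff, huk]
  have hk1a : ac f k1 = a := hR.ac_eq (Or.inr ⟨hat, hk1f⟩)
  have hk2 : k = h * k1 := by rw [hk1, mul_inv_cancel_left]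
  have hA : ac f k = a + a - c.σ (π h) * π k1 := by rw [hk2, hN.law h hh k1 hk1R, hk1a]
  have hπk : π k = π h + π k1 := by rw [hk2, hP.map_mul h hh k1 hk1R]
  have hu := hN.unitary h hh
  have hum' := hN.unitary m hm
  rw [← ha, hfixh] at hu
  rw [hR.ac_fixed hP hm hm'] at hum'
  rw [hA, hπk]
  have hacm : ac f m ≠ 0 := hR.ac_ne_zero hm fun e => hm0 (by rw [e, hR.pi_one hP])
  rw [eq_div_iff hacm]
  have hs : π m = π h + π h := by rw [hhb]; field_simp; ring
  rw [hs, map_add] at hum'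
  rw [hs]
  refine mul_left_cancel₀ h2 ?_
  linear_combination (π h + π k1) * hum' - 4 * π h * hu

theorem chi_real {a : Fˣ} (ha : c.σ (a : F) = a) : (χ a : F) = a ∨ (χ a : F) = -a := by
  have hq1 : a ^ (c.q - 1) = 1 := by
    refine Units.ext ?_
    rw [Units.val_pow_eq_pow_val, Units.val_one]
    refine mul_left_cancel₀ a.ne_zero ?_
    rw [← pow_succ', Nat.sub_add_cancel (by have := one_lt_q hR.hyp.odd; omega), mul_one, ← c.hσ, ha]
  have hχ : (χ a : F) ^ (c.q - 1) = 1 := by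
    rw [← Units.val_pow_eq_pow_val, ← map_pow, hq1, map_one, Units.val_one]
  have hσ : c.σ (χ a : F) = χ a := by
    rw [c.hσ, show c.q = c.q - 1 + 1 from (Nat.sub_add_cancel (by have := one_lt_q hR.hyp.odd; omega)).symm,
      pow_succ, hχ, one_mul]
  have h := hR.norm_chi hN a
  rw [hσ, ha] at h
  exact mul_self_eq_mul_self_iff.mp h

/-- The exchange in coordinates, up to the sign given by `χ`. -/
theorem pi_jr_aux {r y : G} (hr : r ∈ R) (hx : r ∉ root f) (hy : y ∈ R) (hy' : tt f * y * tt f = y⁻¹)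
    (x : X0 c) (e : r = f (up x) * y) {d : Fˣ} (hd : (d : F) = -(1 / ac f y)) :
    π (jr f R r) = (χ d : F) * π r * ac f y / ac f r := by
  have hf := hR.hyp
  have hP := hN.proj
  have hπy : π r = π y := by rw [e, hR.pi_root_mul hP hy]
  have hy0 : π y ≠ 0 := hπy ▸ hR.pi_ne hP hr hx
  have hyx : y ∉ root f := hR.rep_not_root hP hy hy0
  have hr1 : r ≠ 1 := fun h => hx (h ▸ one_mem _)
  have hy1 : y ≠ 1 := fun h => hyx (h ▸ one_mem _)
  set g := ac f y with hg
  have hgf : c.σ g = g := hR.ac_fixed hP hy hy'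
  have hgt : g + c.σ g ≠ 0 := hR.tr_ne hy hyx
  have hg0 : g ≠ 0 := hR.ac_ne_zero hy hy1
  obtain ⟨j1, -, j3, j4⟩ := hR.jr_spec hr hr1
  -- the image of the inverted element
  have hdg : ww * refl (c := c) g = dg d := by
    obtain ⟨e0, e1, e2, e3⟩ := refl_ent hgt
    have hdi : c.σ (-(1 / g)) = -(1 / g) := by rw [map_neg, map_div₀, map_one, hgf]
    have h2 := hf.two_ne'
    ext <;> simp only [ent_mul, ww_00, ww_01, ww_10, ww_11, e0, e1, e2, e3, dg_00, dg_01, dg_10, dg_11, hd, hdi,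
      hgf, ← two_mul] <;> field_simp <;> ring
  set m := f (dg d) * y * (f (dg d))⁻¹ with hm
  have hmR : m ∈ R := hR.normal _ (bor_le_nrm f (tor_le_bor f (mem_tor.mpr ⟨d, rfl⟩))) y hy
  have hc : Commute (tt f) (f (dg d)) := (hf.tt_comm _).symm
  have hm' : tt f * m * tt f = m⁻¹ := by
    calc tt f * m * tt f = tt f * f (dg d) * y * ((f (dg d))⁻¹ * tt f) := by rw [hm]; group
      _ = f (dg d) * tt f * y * (tt f * (f (dg d))⁻¹) := by rw [hc.eq, hc.inv_right.eq]
      _ = f (dg d) * (tt f * y * tt f) * (f (dg d))⁻¹ := by group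
      _ = _ := by rw [hy', hm]; group
  have hyfix : f (refl g) • y • by0 f = y • by0 f := by
    rcases hR.ac_spec hy with ⟨w, -, ew⟩ | ⟨-, h⟩
    · exact absurd (ew ▸ mem_root.mpr ⟨w, rfl⟩) hyx
    · exact h
  have hJy : f ww • y • by0 f = m • by0 f := by
    rw [← hyfix, smul_smul (f ww), ← _root_.map_mul, hdg, hm, mul_smul,
      hR.tor_by0 (inv_mem (mem_tor.mpr ⟨d, rfl⟩)), mul_smul]
  -- the involution of the chord
  obtain ⟨u0, hu0⟩ : ∃ u0, u0 = y * tt f * y⁻¹ := ⟨_, rfl⟩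
  have hu0' : ∀ z ∈ root f, u0 • y • z • by0 f = y • z • by0 f := fun z hz => by
    rw [hu0, mul_smul, mul_smul, inv_smul_smul, (hR.mem_root_iff (hR.root_le hz)).mp hz]
  obtain ⟨u, hu⟩ : ∃ u, u = f ww * u0 * f ww := ⟨_, rfl⟩
  have hwsq : f ww * f ww = 1 := by rw [← _root_.map_mul, ww_sq, map_one]
  have hJJ : ∀ ω : Pts f, f ww • f ww • ω = ω := fun ω => by rw [smul_smul, hwsq, one_smul]
  have hu0sq : u0 * u0 = 1 := by
    rw [hu0, show y * tt f * y⁻¹ * (y * tt f * y⁻¹) = y * (tt f * tt f) * y⁻¹ by group, hf.tt_sq]; group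
  have huu : u * u = 1 := by
    rw [hu, show f ww * u0 * f ww * (f ww * u0 * f ww) = f ww * u0 * (f ww * f ww) * u0 * f ww by group, hwsq,
      mul_one, mul_assoc (f ww), hu0sq, mul_one, hwsq]
  have hu1 : u ≠ 1 := fun h => hf.tt_ne (by
    have h' : u0 = 1 := by
      calc u0 = f ww * f ww * u0 * (f ww * f ww) := by rw [hwsq, one_mul, mul_one]
        _ = f ww * u * f ww := by rw [hu]; group
        _ = 1 := by rw [h, mul_one, hwsq]
    exact conj_eq_one_iff.mp (hu0 ▸ h'))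
  have ha : u • by0 f = by0 f := by
    rw [hu, mul_smul, mul_smul, ww_by0, hu0, mul_smul, mul_smul, smul_bx.mpr (hR.R_le_nrm (inv_mem hy)),
      smul_bx.mpr (bor_le_nrm f (tt_mem_bor f)), smul_bx.mpr (hR.R_le_nrm hy), ww_bx]
  have hb : u • m • by0 f = m • by0 f := by
    have h := hu0' 1 (one_mem _)
    rw [one_smul] at h
    rw [← hJy, hu, mul_smul, mul_smul, hJJ, h]
  have hcj : u • jr f R r • by0 f = jr f R r • by0 f := by
    rw [← j3, hu, mul_smul, mul_smul, hJJ]
    congr 1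
    rw [e, hR.root_central (mem_root.mpr ⟨x, rfl⟩) hy, mul_smul]
    exact hu0' _ (mem_root.mpr ⟨x, rfl⟩)
  have hmπ : π m = (χ d : F) * π y := hP.equiv d y hy
  have hm0 : π m ≠ 0 := by rw [hmπ]; exact mul_ne_zero (χ d).ne_zero hy0
  have hma : ac f m = 1 / g := by
    rw [hm, hR.ac_tor hy, ← hg, hd, map_neg, map_div₀, map_one, hgf]
    field_simp
  rw [hR.chord hN hmR j1 hm' hm0 huu hu1 ha hb hcj, j4, hma, hmπ, hπy]
  field_simp

/-- The exchange in coordinates. -/
theorem pi_jr {r : G} (hr : r ∈ R) (hr1 : r ≠ 1) : π (jr f R r) = -(π r / ac f r) := by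
  have hf := hR.hyp
  have hP := hN.proj
  by_cases hx : r ∈ root f
  · obtain ⟨j1, -, -, j4⟩ := hR.jr_spec hr hr1
    have hne := hR.ac_ne_zero hr hr1
    have hj : jr f R r ∈ root f := by
      refine (hR.trace_eq_zero j1).mp ?_
      rw [j4, one_div, map_inv₀, inv_add_inv hne ((map_ne_zero c.σ).mpr hne), (hR.trace_eq_zero hr).mpr hx, zero_div]
    rw [(hP.eq_zero _ j1).mpr hj, (hP.eq_zero r hr).mpr hx, zero_div, neg_zero]
  -- the sign of `χ` on the fixed field
  have hsign : ∀ a : Fˣ, c.σ (a : F) = a → (χ a : F) = a := by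
    intro a ha
    obtain ⟨w0, hw0⟩ := c.exists_norm (d := (a : F)) ha
    have hw00 : w0 ≠ 0 := fun h => a.ne_zero (by rw [← hw0, h, zero_mul])
    obtain ⟨w, hw, hwt⟩ : ∃ w : F, w * c.σ w = (a : F) ∧ w + c.σ w ≠ 0 := by
      by_cases h : w0 + c.σ w0 = 0
      · obtain ⟨e0, he0⟩ := IsCyclic.exists_generator (α := nrmOne c)
        have hne : ((e0 : Fˣ) : F) * ((e0 : Fˣ) : F) ≠ 1 := fun h' => by
          have h2 : e0 ^ 2 = 1 := Subtype.ext (Units.ext (by simpa [pow_two] using h'))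
          have := orderOf_dvd_of_pow_eq_one h2
          rw [orderOf_eq_card_of_forall_mem_zpowers he0, card_nrmOne] at this
          have := Nat.le_of_dvd two_pos this
          have := one_lt_q hf.odd
          omega
        refine ⟨w0 * ((e0 : Fˣ) : F), ?_, fun h' => hne ?_⟩
        · rw [_root_.map_mul]
          linear_combination ((e0 : Fˣ) : F) * c.σ ((e0 : Fˣ) : F) * hw0 + (a : F) * mem_nrmOne.mp e0.2
        · rw [_root_.map_mul, show c.σ w0 = -w0 by linear_combination h] at h'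
          have e1 : ((e0 : Fˣ) : F) = c.σ ((e0 : Fˣ) : F) :=
            mul_left_cancel₀ hw00 (by linear_combination h')
          conv_lhs => arg 2; rw [e1]
          exact e0.2
      · exact ⟨w0, hw0, h⟩
    obtain ⟨b, hb⟩ := c.exists_norm (d := -(w + c.σ w)) (by rw [map_neg, map_add, c.invol, add_comm])
    obtain ⟨y, hy, hy', hπy⟩ := hR.exists_rep hP b
    have hb0 : b ≠ 0 := fun h => hwt (by rw [h, zero_mul] at hb; exact neg_eq_zero.mp hb.symm)
    have hu := hN.unitary y hy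
    rw [hπy, hR.ac_fixed hP hy hy', hb] at hu
    have hx0 : w - ac f y ∈ X0 c := by
      rw [mem_X0, map_sub, hR.ac_fixed hP hy hy']; linear_combination -hu
    set r' := f (up ⟨_, hx0⟩) * y with hr'
    have hr'R : r' ∈ R := mul_mem (hR.root_le (mem_root.mpr ⟨_, rfl⟩)) hy
    have hA : ac f r' = w := by rw [hr', hR.ac_up_mul hy]; ring
    have hπ' : π r' = b := by rw [hr', hR.pi_root_mul hP hy, hπy]
    have hr'x : r' ∉ root f := fun h => hb0 (by rw [← hπ']; exact (hP.eq_zero _ hr'R).mpr h)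
    have hr'1 : r' ≠ 1 := fun h => hr'x (h ▸ one_mem _)
    have hg0 : ac f y ≠ 0 := hR.ac_ne_zero hy fun h => hb0 (by rw [← hπy, h, hR.pi_one hP])
    obtain ⟨d, hd⟩ : ∃ d : Fˣ, (d : F) = -(1 / ac f y) :=
      ⟨Units.mk0 _ (neg_ne_zero.mpr (one_div_ne_zero hg0)), rfl⟩
    have e1 := hR.pi_jr_aux hN hr'R hr'x hy hy' _ hr' hd
    obtain ⟨j1, jne, -, j4⟩ := hR.jr_spec hr'R hr'1
    obtain ⟨y2, hy2, x2, hy2', e2, hπ2⟩ := hR.exists_split hP j1
    have hA2 := (hR.ac_inv hP hy2 hy2' x2 e2).1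
    rw [j4, hA] at hA2
    have hw0' : w ≠ 0 := fun h => hwt (by rw [h, map_zero, add_zero])
    have hg2 : ac f y2 = ac f y / (a : F) := by
      have hσ := congrArg c.σ hA2
      rw [map_add, map_div₀, map_one, hR.ac_fixed hP hy2 hy2', sig_X0] at hσ
      have hsum : 1 / w + 1 / c.σ w = 2 * ac f y2 := by linear_combination hA2 + hσ
      rw [div_add_div _ _ hw0' ((map_ne_zero c.σ).mpr hw0'), hw,
        show 1 * c.σ w + w * 1 = 2 * ac f y by linear_combination -hu, mul_div_assoc] at hsum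
      exact (mul_left_cancel₀ hf.two_ne' hsum).symm
    have hy2x : jr f R r' ∉ root f := hR.jr_not_root hr'R hr'x
    obtain ⟨d2, hd2⟩ : ∃ d2 : Fˣ, (d2 : F) = -(1 / ac f y2) :=
      ⟨Units.mk0 _ (neg_ne_zero.mpr (one_div_ne_zero (by rw [hg2]; exact div_ne_zero hg0 a.ne_zero))), rfl⟩
    have e3 := hR.pi_jr_aux hN j1 hy2x hy2 hy2' x2 e2 hd2
    rw [hR.jr_jr hr'R hr'1, j4, e1, hA, hπ', hg2] at e3
    have hd2' : d2 = d * a := by
      refine Units.ext ?_
      rw [hd2, Units.val_mul, hd, hg2]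
      field_simp
    rw [hd2', _root_.map_mul, Units.val_mul] at e3
    have hdf : c.σ (d : F) = d := by rw [hd, map_neg, map_div₀, map_one, hR.ac_fixed hP hy hy']
    have hdd : (χ d : F) * (χ d : F) * (ac f y * ac f y) = 1 := by
      rcases hR.chi_real hN hdf with h | h <;> rw [h, hd] <;> field_simp
    field_simp at e3
    linear_combination -e3 - (χ a : F) * hdd
  obtain ⟨y, hy, x, hy', e, hπ⟩ := hR.exists_split hP hr
  have hg0 : ac f y ≠ 0 := hR.ac_ne_zero hy fun h => hR.pi_ne hP hr hx (by rw [← hπ, h, hR.pi_one hP])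
  obtain ⟨d, hd⟩ : ∃ d : Fˣ, (d : F) = -(1 / ac f y) :=
    ⟨Units.mk0 _ (neg_ne_zero.mpr (one_div_ne_zero hg0)), rfl⟩
  rw [hR.pi_jr_aux hN hr hx hy hy' x e hd,
    hsign d (by rw [hd, map_neg, map_div₀, map_one, hR.ac_fixed hP hy hy']), hd]
  field_simp

end Rad

end CfsgLib.U3Cent
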