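import Cfsg.Agent.Lib.PSU3Min.Borel
import Cfsg.Agent.Lib.Fusion.PSUSplit
import Cfsg.Agent.S0283

/-!
# From the isotropic points to `PSU₃(q)`

A simple group acting faithfully on the isotropic points of `antidiag(1, 1, 1)`, generated by elements induced by
unitary matrices and of order at least one third of `|SU₃(q)|`, is `PSU₃(q)`.
-/

set_option autoImplicit false
set_option linter.unusedSectionVars false
set_option linter.style.haveILetI false

namespace CfsgLib.U3Cent

open Matrix CfsgLib.PSUBorel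

variable {F : Type*} [Field F] [Fintype F] (c : Conj F)

/-- The isotropic points, `none` the point at infinity. -/
abbrev IPt : Type _ := Option {x : F × F // x.1 + c.σ x.1 + x.2 * c.σ x.2 = 0}

variable {c}

/-- A representing vector. -/
def vec : IPt c → (Fin 3 → F)
  | none => ![1, 0, 0]
  | some x => ![x.1.1, x.1.2, 1]

theorem vec_inj {x y : IPt c} {l : F} (hl : l ≠ 0) (h : vec x = l • vec y) : x = y := by
  have h0 := congrFun h 0
  have h1 := congrFun h 1
  have h2 := congrFun h 2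
  rcases x with _ | ⟨⟨A, b⟩, hx⟩ <;> rcases y with _ | ⟨⟨A', b'⟩, hy⟩ <;> simp [vec] at h0 h1 h2 ⊢
  · exact hl h2.symm
  · rw [← h2, one_mul] at h0 h1
    exact ⟨h0, h1⟩

variable {G : Type*} [Group G] {Ω : Type*} [MulAction G Ω]

/-- The matrix `A` (acting on rows) induces `g`. -/
def Induces (pt : IPt c → Ω) (A : Matrix (Fin 3) (Fin 3) F) (g : G) : Prop :=
  ∀ x, ∃ (l : F) (y : IPt c), l ≠ 0 ∧ g • pt x = pt y ∧ vec x ᵥ* A = l • vec y

variable {pt : IPt c → Ω}

theorem Induces.mul {A B : Matrix (Fin 3) (Fin 3) F} {g h : G} (hA : Induces pt A g) (hB : Induces pt B h) :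
    Induces pt (A * B) (h * g) := fun x => by
  obtain ⟨l, y, hl, e, ev⟩ := hA x
  obtain ⟨m, z, hm, e', ev'⟩ := hB y
  refine ⟨l * m, z, mul_ne_zero hl hm, by rw [mul_smul, e, e'], ?_⟩
  rw [← Matrix.vecMul_vecMul, ev, Matrix.smul_vecMul, ev', smul_smul]

theorem induces_one : Induces pt (1 : Matrix (Fin 3) (Fin 3) F) (1 : G) := fun x =>
  ⟨1, x, one_ne_zero, one_smul _ _, by rw [Matrix.vecMul_one, one_smul]⟩

theorem Induces.unique [FaithfulSMul G Ω] (hpt : Function.Surjective pt) {A : Matrix (Fin 3) (Fin 3) F} {g h : G}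
    (hg : Induces pt A g) (hh : Induces pt A h) : g = h := by
  refine FaithfulSMul.eq_of_smul_eq_smul fun w : Ω => ?_
  obtain ⟨x, rfl⟩ := hpt w
  obtain ⟨l, y, hl, e, ev⟩ := hg x
  obtain ⟨m, z, hm, e', ev'⟩ := hh x
  rw [e, e', vec_inj (x := y) (y := z) (mul_ne_zero (inv_ne_zero hl) hm) (by
    rw [← smul_smul, ← ev', ev, smul_smul, inv_mul_cancel₀ hl, one_smul])]

theorem Induces.scalar (hq : Odd c.q) (hpt : Function.Injective pt) {A : Matrix (Fin 3) (Fin 3) F}
    (hA : Induces pt A (1 : G)) : ∃ a : F, A = a • (1 : Matrix (Fin 3) (Fin 3) F) := by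
  have h2 : (2 : F) ≠ 0 := by
    intro h
    haveI : CharP F 2 := CharTwo.of_one_ne_zero_of_two_eq_zero one_ne_zero h
    have he : Even (Fintype.card F) := by
      obtain ⟨n, -, hn⟩ := FiniteField.card F 2
      rw [hn]; exact (Nat.even_pow' n.ne_zero).mpr even_two
    rw [c.card] at he
    exact Nat.not_even_iff_odd.mpr hq.pow he
  have key : ∀ x, ∃ l : F, vec x ᵥ* A = l • vec x := fun x => by
    obtain ⟨l, y, -, e, ev⟩ := hA x
    rw [one_smul] at e
    exact ⟨l, by rw [ev, hpt e]⟩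
  obtain ⟨l, hl⟩ := key none
  have a1 := congrFun hl 0
  have a2 := congrFun hl 1
  have a3 := congrFun hl 2
  simp [vec, Matrix.vecMul, dotProduct, Fin.sum_univ_three] at a1 a2 a3
  obtain ⟨m, hm⟩ := key (some ⟨(0, 0), by simp⟩)
  have b1 := congrFun hm 0
  have b2 := congrFun hm 1
  have b3 := congrFun hm 2
  simp [vec, Matrix.vecMul, dotProduct, Fin.sum_univ_three] at b1 b2 b3
  obtain ⟨e, he⟩ := c.exists_trace_one
  have hne : -e ≠ 0 := fun h => by rw [neg_eq_zero] at h; rw [h, map_zero, add_zero] at he; exact zero_ne_one he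
  have h1 : ∀ b : F, b * c.σ b = 1 → -e + c.σ (-e) + b * c.σ b = 0 := fun b hb => by
    rw [hb, map_neg]; linear_combination -he
  obtain ⟨n, hn⟩ := key (some ⟨(-e, 1), h1 1 (by simp)⟩)
  obtain ⟨n', hn'⟩ := key (some ⟨(-e, -1), h1 (-1) (by simp)⟩)
  have c1 := congrFun hn 0
  have c2 := congrFun hn 1
  have c3 := congrFun hn 2
  have d1 := congrFun hn' 0
  have d2 := congrFun hn' 1
  have d3 := congrFun hn' 2
  simp [vec, Matrix.vecMul, dotProduct, Fin.sum_univ_three, a1, a2, a3, b1, b2, b3] at c1 c2 c3 d1 d2 d3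
  have hn1 : A 1 1 = n := c2
  have hn2 : n' = n := by linear_combination hn1 - d2
  subst hn2
  have h12 : A 1 2 = 0 := mul_left_cancel₀ h2 (by linear_combination c3 - d3)
  have h10 : A 1 0 = 0 := mul_left_cancel₀ h2 (by linear_combination c1 - d1)
  have hlm : l = A 1 1 := mul_left_cancel₀ hne (by linear_combination c1 - h10 + e * hn1)
  refine ⟨A 1 1, ?_⟩
  ext i j
  fin_cases i <;> fin_cases j <;>
    simp [a1, a2, a3, b1, b2, b3, h12, h10, hlm, show m = A 1 1 by linear_combination c3 - h12 - hn1]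

/-- The recognition of `PSU₃(q)` on its isotropic points. -/
theorem nonempty_iso_psu [Finite G] [IsSimpleGroup G] [FaithfulSMul G Ω] (hG : ¬ IsMulCommutative G)
    (hq : Odd c.q) (pt : IPt c → Ω) (hpt : Function.Bijective pt) (S : Set G) (hS : Subgroup.closure S = ⊤)
    (hmat : ∀ s ∈ S, ∃ A : Matrix (Fin 3) (Fin 3) F, Cond c A ∧ Induces pt A s)
    (hcard : c.q ^ 3 * ((c.q ^ 2 - 1) * (c.q ^ 3 + 1)) ≤ 3 * Nat.card G) :
    Nonempty (G ≃* Cfsg.PSU 3 F c.q) := by
  classical
  have hq3 : 3 ≤ c.q := by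
    have := c.one_lt
    rcases hq with ⟨k, hk⟩
    omega
  obtain ⟨p, hp⟩ := CharP.exists F
  obtain ⟨-, hpp, -⟩ := FiniteField.card F p
  haveI : Fact p.Prime := ⟨hpp⟩
  let N : Subgroup (GL (Fin 3) F) :=
    PSpBorel.ofClosed {A | Cond c A.1 ∧ ∃ g : G, Induces pt A.1 g}
      ⟨by show (1 : Matrix (Fin 3) (Fin 3) F) * aJ F 3 * ((1 : Matrix (Fin 3) (Fin 3) F).map c.σ)ᵀ = aJ F 3; simp,
        1, induces_one⟩
      (by
        rintro A ⟨hA, g, hg⟩ B ⟨hB, h, hh⟩
        refine ⟨?_, h * g, hg.mul hh⟩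
        show (A.1 * B.1) * aJ F 3 * ((A.1 * B.1).map c.σ)ᵀ = aJ F 3
        rw [Matrix.map_mul, Matrix.transpose_mul, ← Matrix.mul_assoc, Matrix.mul_assoc A.1, Matrix.mul_assoc A.1,
          show B.1 * aJ F 3 * (B.1.map c.σ)ᵀ = aJ F 3 from hB]
        exact hA)
  have hN : ∀ A : N, ∃ g : G, Induces pt A.1.1 g := fun A => A.2.2
  choose γ hγ using hN
  let ψ : N →* G := MonoidHom.mk' (fun A => (γ A)⁻¹) fun A B => by
    rw [← _root_.mul_inv_rev, _root_.inv_inj]
    exact (hγ (A * B)).unique hpt.2 ((hγ A).mul (hγ B))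
  have hψ : Function.Surjective ψ := by
    rw [← MonoidHom.range_eq_top, eq_top_iff, ← hS, Subgroup.closure_le]
    intro s hs
    obtain ⟨A, hA, hAs⟩ := hmat s hs
    have hdet : IsUnit A.det := by
      refine IsUnit.of_mul_eq_one ((aJ F 3).det * (A.map c.σ)ᵀ.det * (aJ F 3).det) ?_
      rw [← mul_assoc, ← mul_assoc, ← Matrix.det_mul, ← Matrix.det_mul, show A * aJ F 3 * (A.map c.σ)ᵀ = aJ F 3 from hA,
        ← Matrix.det_mul, aJ_sq, Matrix.det_one]
    let u : GL (Fin 3) F := Matrix.GeneralLinearGroup.mk'' A hdet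
    have hu : u ∈ N := ⟨hA, s, hAs⟩
    have hs' : s⁻¹ ∈ ψ.range := ⟨⟨u, hu⟩, congrArg Inv.inv ((hγ ⟨u, hu⟩).unique hpt.2 hAs)⟩
    exact inv_inv s ▸ inv_mem hs'
  have hperf : commutator G = ⊤ :=
    (IsSimpleGroup.eq_bot_or_eq_top_of_normal (commutator G) inferInstance).resolve_left fun h =>
      hG ⟨⟨fun a b => by
        have hm := Subgroup.commutator_mem_commutator (Subgroup.mem_top a) (Subgroup.mem_top b)
        rw [← commutator_def, h, Subgroup.mem_bot] at hm
        exact commutatorElement_eq_one_iff_mul_comm.mp hm⟩⟩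
  let M : Subgroup (SUs c 3) :=
    PSpBorel.ofClosed {A | ∃ g : G, Induces pt A.1.1 g} ⟨1, induces_one⟩
      (by rintro A ⟨g, hg⟩ B ⟨h, hh⟩; exact ⟨h * g, hg.mul hh⟩)
  have hM : ∀ A : M, ∃ g : G, Induces pt A.1.1.1 g := fun A => A.2
  choose δ hδ using hM
  let φ : M →* G := MonoidHom.mk' (fun A => (δ A)⁻¹) fun A B => by
    rw [← _root_.mul_inv_rev, _root_.inv_inj]
    exact (hδ (A * B)).unique hpt.2 ((hδ A).mul (hδ B))
  have hφ : Function.Surjective φ := by
    intro g
    have hg : g ∈ (commutator N).map ψ := by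
      rw [commutator_def, Subgroup.map_commutator, Subgroup.map_top_of_surjective ψ hψ, ← commutator_def, hperf]
      exact Subgroup.mem_top g
    obtain ⟨A, hA, rfl⟩ := hg
    have hd : Matrix.GeneralLinearGroup.det A.1 = 1 :=
      MonoidHom.mem_ker.mp (Abelianization.commutator_subset_ker (Matrix.GeneralLinearGroup.det.comp N.subtype) hA)
    let B : SUs c 3 := ⟨⟨A.1.1, congrArg Units.val hd⟩, A.2.1⟩
    have hB : B ∈ M := ⟨γ A, hγ A⟩
    exact ⟨⟨B, hB⟩, congrArg Inv.inv ((hδ ⟨B, hB⟩).unique hpt.2 (hγ A))⟩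
  have hker : φ.ker = (Subgroup.center (SUs c 3)).subgroupOf M := by
    ext A
    constructor
    · intro h
      have h1 : δ A = 1 := inv_eq_one.mp h
      obtain ⟨a, ha⟩ := Induces.scalar hq hpt.1 (h1 ▸ hδ A)
      refine Subgroup.mem_center_iff.mpr fun z => SUs_ext c ?_
      show z.1.1 * A.1.1.1 = A.1.1.1 * z.1.1
      rw [show A.1.1.1 = a • (1 : Matrix (Fin 3) (Fin 3) F) from ha, mul_smul_comm, smul_mul_assoc, one_mul, mul_one]
    · intro h
      have hc : φ A ∈ Subgroup.center G := Subgroup.mem_center_iff.mpr fun g => by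
        obtain ⟨B, rfl⟩ := hφ g
        rw [← map_mul, ← map_mul, show B * A = A * B from Subtype.ext (Subgroup.mem_center_iff.mp h B.1)]
      rcases IsSimpleGroup.eq_bot_or_eq_top_of_normal (Subgroup.center G) inferInstance with e | e
      · rw [e, Subgroup.mem_bot] at hc; exact hc
      · exact absurd ⟨⟨fun a b => (Subgroup.mem_center_iff.mp (e ▸ Subgroup.mem_top b) a)⟩⟩ hG
  let π : SUs c 3 →* SUs c 3 ⧸ Subgroup.center (SUs c 3) := QuotientGroup.mk' _
  let e0 : G ≃* (π.comp M.subtype).range :=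
    ((QuotientGroup.quotientKerEquivOfSurjective φ hφ).symm.trans
      (QuotientGroup.quotientMulEquivOfEq (by
        rw [hker, ← MonoidHom.comap_ker, QuotientGroup.ker_mk']; rfl))).trans
      (QuotientGroup.quotientKerEquivRange (π.comp M.subtype))
  obtain ⟨E⟩ := exists_iso c (n := 3)
  haveI hsimple : IsSimpleGroup (Cfsg.PSU 3 F c.q) := Cfsg.Agent.S0283.result c.card 3 le_rfl (by omega)
  let eP : (SUs c 3 ⧸ Subgroup.center (SUs c 3)) ≃* Cfsg.PSU 3 F c.q :=
    QuotientGroup.congr _ _ E (by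
      ext x
      constructor
      · rintro ⟨y, hy, rfl⟩
        exact Subgroup.mem_center_iff.mpr fun z => by
          obtain ⟨z', rfl⟩ := E.surjective z
          show E z' * E y = E y * E z'
          rw [← map_mul, ← map_mul, Subgroup.mem_center_iff.mp hy z']
      · intro hx
        refine ⟨E.symm x, Subgroup.mem_center_iff.mpr fun z => E.injective ?_, by simp⟩
        simp [Subgroup.mem_center_iff.mp hx (E z)])
  haveI : IsSimpleGroup (SUs c 3 ⧸ Subgroup.center (SUs c 3)) := eP.isSimpleGroup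
  set H := (π.comp M.subtype).range with hH
  suffices h : H = ⊤ by
    exact ⟨e0.trans ((MulEquiv.subgroupCongr h).trans (Subgroup.topEquiv.trans eP))⟩
  by_contra hne
  have hSU := PSU3Min.card_G c
  have hidx : H.index ≤ 3 := by
    have h1 : Nat.card (SUs c 3 ⧸ Subgroup.center (SUs c 3)) ≤ Nat.card (SUs c 3) :=
      Nat.card_le_card_of_surjective π (QuotientGroup.mk'_surjective _)
    have h2 : Nat.card H = Nat.card G := (Nat.card_congr e0.toEquiv).symm
    rw [← H.card_mul_index, h2, hSU, mul_comm] at h1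
    have h3 := h1.trans hcard
    exact Nat.le_of_mul_le_mul_right h3 Nat.card_pos
  -- a simple group of this order has no subgroup of index at most three
  have hinj : Function.Injective (MulAction.toPermHom (SUs c 3 ⧸ Subgroup.center (SUs c 3))
      ((SUs c 3 ⧸ Subgroup.center (SUs c 3)) ⧸ H)) := by
    rw [← MonoidHom.ker_eq_bot_iff, ← Subgroup.normalCore_eq_ker]
    exact (IsSimpleGroup.eq_bot_or_eq_top_of_normal H.normalCore inferInstance).resolve_right fun h =>
      hne (top_le_iff.mp (h ▸ H.normalCore_le))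
  have hle := Nat.card_le_card_of_injective _ hinj
  rw [Nat.card_perm] at hle
  have h6 : (Nat.card ((SUs c 3 ⧸ Subgroup.center (SUs c 3)) ⧸ H)).factorial ≤ 6 :=
    (Nat.factorial_le hidx).trans (le_of_eq rfl)
  have hbig : Nat.card G ≤ Nat.card (SUs c 3 ⧸ Subgroup.center (SUs c 3)) :=
    Nat.card_le_card_of_injective (fun g => ((e0 g : H) : SUs c 3 ⧸ Subgroup.center (SUs c 3)))
      (Subtype.val_injective.comp e0.injective)
  have h27 : 27 * (8 * 28) ≤ c.q ^ 3 * ((c.q ^ 2 - 1) * (c.q ^ 3 + 1)) := by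
    have := Nat.pow_le_pow_left hq3 2
    have := Nat.pow_le_pow_left hq3 3
    exact Nat.mul_le_mul (by omega) (Nat.mul_le_mul (by omega) (by omega))
  omega

end CfsgLib.U3Cent
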