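import Cfsg.Agent.Lib.U3Cent.Root
import Mathlib.GroupTheory.Transfer

/-!
# Centralisers of torus elements

The centraliser of a nonscalar torus element has order prime to `p`.
-/

set_option autoImplicit false
set_option linter.unusedSectionVars false
set_option linter.style.haveILetI false

namespace CfsgLib.U3Cent

open CfsgLib.PSUBorel

universe u v

/-- If `t` is the only involution of `D` commuting with it, a Sylow `2`-subgroup of `D` commutes with `t`. -/
theorem exists_sylow_comm {G : Type u} [Group G] [Finite G] {D : Subgroup G} {t : G} (htD : t ∈ D) (ht : t * t = 1)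
    (ht1 : t ≠ 1) (huniq : ∀ z ∈ D, z * z = 1 → z ≠ 1 → z * t = t * z → z = t) :
    ∃ S : Sylow 2 D, (⟨t, htD⟩ : D) ∈ (S : Subgroup D) ∧
      ∀ s ∈ (S : Subgroup D), (s : G) * t = t * s := by
  haveI : Fact (Nat.Prime 2) := ⟨Nat.prime_two⟩
  set t' : D := ⟨t, htD⟩ with ht'
  have hord : orderOf t' = 2 :=
    orderOf_eq_prime (by rw [pow_two]; exact Subtype.ext ht) fun e => ht1 (congrArg Subtype.val e)
  obtain ⟨S, hS⟩ := (IsPGroup.of_card (n := 1) (by rw [Nat.card_zpowers, hord, pow_one]) :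
    IsPGroup 2 (Subgroup.zpowers t')).exists_le_sylow
  have htS : t' ∈ (S : Subgroup D) := hS (Subgroup.mem_zpowers _)
  haveI : Nontrivial (S : Subgroup D) := ⟨⟨⟨_, htS⟩, 1, fun e => ht1 (congrArg Subtype.val (congrArg Subtype.val e))⟩⟩
  haveI := S.2.center_nontrivial
  obtain ⟨z, hz⟩ := exists_prime_orderOf_dvd_card' (G := Subgroup.center (S : Subgroup D)) 2 (by
    obtain ⟨e, he⟩ := IsPGroup.iff_card.mp (S.2.to_subgroup (Subgroup.center (S : Subgroup D)))
    rw [he]
    refine dvd_pow_self 2 fun e0 => ?_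
    rw [e0, pow_zero] at he
    exact not_subsingleton _ ((Nat.card_eq_one_iff_unique.mp he).1))
  have hzc : ∀ s ∈ (S : Subgroup D), (s : G) * ((z : (S : Subgroup D)) : D) = ((z : (S : Subgroup D)) : D) * s :=
    fun s hs => congrArg (fun x : (S : Subgroup D) => ((x : D) : G)) (Subgroup.mem_center_iff.mp z.2 ⟨s, hs⟩)
  have hzz : (((z : (S : Subgroup D)) : D) : G) * ((z : (S : Subgroup D)) : D) = 1 := by
    have h := pow_orderOf_eq_one z
    rw [hz, pow_two] at h
    exact congrArg (fun x : Subgroup.center (S : Subgroup D) => (((x : (S : Subgroup D)) : D) : G)) h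
  have hz1 : (((z : (S : Subgroup D)) : D) : G) ≠ 1 := fun e => by
    rw [show z = 1 from Subtype.ext (Subtype.ext (Subtype.ext e)), orderOf_one] at hz
    omega
  have hzt := huniq _ ((z : (S : Subgroup D)) : D).2 hzz hz1 (hzc t' htS).symm
  exact ⟨S, htS, fun s hs => by rw [← hzt]; exact hzc s hs⟩

/-- Then all involutions of `D` are conjugate to `t`. -/
theorem exists_conj_inv {G : Type u} [Group G] [Finite G] {D : Subgroup G} {t : G} (htD : t ∈ D) (ht : t * t = 1)
    (ht1 : t ≠ 1) (huniq : ∀ z ∈ D, z * z = 1 → z ≠ 1 → z * t = t * z → z = t) {x : G} (hx : x ∈ D)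
    (hxx : x * x = 1) (hx1 : x ≠ 1) : ∃ d ∈ D, d * x * d⁻¹ = t := by
  haveI : Fact (Nat.Prime 2) := ⟨Nat.prime_two⟩
  obtain ⟨S, -, hS⟩ := exists_sylow_comm htD ht ht1 huniq
  set x' : D := ⟨x, hx⟩ with hx'
  have hord : orderOf x' = 2 :=
    orderOf_eq_prime (by rw [pow_two]; exact Subtype.ext hxx) fun e => hx1 (congrArg Subtype.val e)
  obtain ⟨R, hR⟩ := (IsPGroup.of_card (n := 1) (by rw [Nat.card_zpowers, hord, pow_one]) :
    IsPGroup 2 (Subgroup.zpowers x')).exists_le_sylow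
  obtain ⟨d, hd⟩ := MulAction.exists_smul_eq D R S
  have hm : d * x' * d⁻¹ ∈ (S : Subgroup D) := by rw [← hd]; exact ⟨_, hR (Subgroup.mem_zpowers _), rfl⟩
  refine ⟨d, d.2, huniq _ (d * x' * d⁻¹).2 ?_ ?_ (hS _ hm)⟩
  · show (d : G) * x * (d : G)⁻¹ * ((d : G) * x * (d : G)⁻¹) = 1
    rw [show (d : G) * x * (d : G)⁻¹ * ((d : G) * x * (d : G)⁻¹) = d * (x * x) * (d : G)⁻¹ by group, hxx]; group
  · exact fun e => hx1 (conj_eq_one_iff.mp e)

variable {G : Type u} [Group G] [Finite G] [IsSimpleGroup G] {F : Type v} [Field F] [Fintype F] {c : Conj F}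

namespace Hyp

variable {f : W c →* G} (hf : Hyp c f)
include hf

omit [Finite G] [IsSimpleGroup G] hf in
theorem tt_mem_tor : tt f ∈ tor f := mem_tor.mpr ⟨-1, rfl⟩

omit [Finite G] [IsSimpleGroup G] in
/-- The only involution of the torus. -/
theorem inv_tor {x : G} (hx : x ∈ tor f) (h : x * x = 1) : x = 1 ∨ x = tt f := by
  obtain ⟨a, rfl⟩ := mem_tor.mp hx
  rcases hf.inv_cases (hf.tt_comm _) h with e | e | ⟨b, hb, e⟩
  · exact Or.inl e
  · exact Or.inr e
  · have hk : (dg a)⁻¹ * refl b ∈ f.ker := f.mem_ker.mpr (by rw [map_mul, map_inv, e, inv_mul_cancel])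
    have h10 := (hf.kers _ hk).2.1
    rw [ent_mul, (inv_ent (dg a)).2.2.1, (inv_ent (dg a)).2.2.2, dg_10, dg_00, map_zero, zero_mul, zero_add,
      (refl_ent hb).2.2.1] at h10
    rcases mul_eq_zero.mp h10 with e' | e'
    · exact absurd ((map_eq_zero c.σ).mp e') a.ne_zero
    · rw [div_eq_zero_iff] at e'
      exact absurd (e'.resolve_right hb) (neg_ne_zero.mpr hf.two_ne')

omit [Finite G] [IsSimpleGroup G] in
theorem scal_iff {a : Fˣ} : f (dg a) ∈ scal f ↔ a ∈ nrmOne c := by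
  refine ⟨fun h => ?_, fun h => mem_scal.mpr ⟨a, h, rfl⟩⟩
  obtain ⟨b, hb, e⟩ := mem_scal.mp h
  have hk : dg (c := c) (b⁻¹ * a) ∈ f.ker := f.mem_ker.mpr (by simp [dg, e])
  have h' : b⁻¹ * a ∈ nrmOne c := isScal_dg.mp (hf.kers _ hk)
  simpa using mul_mem hb h'

omit [Finite G] [IsSimpleGroup G] in
/-- In the centraliser of `tt`, a nonscalar element of the torus commutes only with the torus. -/
theorem cent_tor {a : Fˣ} (ha : a ∉ nrmOne c) {x : G} (hx : x * f (dg a) = f (dg a) * x)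
    (hxt : x * tt f = tt f * x) : x ∈ tor f := by
  obtain ⟨g, rfl⟩ := hf.mem_cent.mp hxt
  obtain ⟨h01, h10⟩ := of_comm_dg (fun h => ha (isScal_dg.mp h)) (hf.comm_iff.mp hx)
  obtain ⟨b, y, rfl⟩ := tri h10
  simp [ent_mul] at h01
  subst h01
  exact mem_tor.mpr ⟨b, by rw [up_zero, mul_one]⟩

theorem tor_cyclic : IsCyclic (tor f) :=
  isCyclic_of_surjective (f.comp dgHom).rangeRestrict (f.comp dgHom).rangeRestrict_surjective

variable {p n : ℕ} [hp : Fact p.Prime] (hq : c.q = p ^ n) (hn : n ≠ 0)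
include hq hn

/-- The centraliser of a nonscalar element of the torus has order prime to `p`. -/
theorem not_dvd_cent {a : Fˣ} (ha : a ∉ nrmOne c) :
    ¬ p ∣ Nat.card (Subgroup.centralizer ({f (dg a)} : Set G)) := by
  intro hdvd
  haveI : Fact (Nat.Prime 2) := ⟨Nat.prime_two⟩
  set C := Subgroup.centralizer ({f (dg a)} : Set G) with hC
  have htC : tt f ∈ C := Subgroup.mem_centralizer_singleton_iff.mpr (hf.tt_comm _).symm
  obtain ⟨S, -, hS⟩ := exists_sylow_comm htC hf.tt_sq hf.tt_ne fun z hz hzz hz1 hzt =>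
    (hf.inv_tor (hf.cent_tor ha (Subgroup.mem_centralizer_singleton_iff.mp hz) hzt) hzz).resolve_left hz1
  let φ : (S : Subgroup C) →* tor f := (C.subtype.comp (S : Subgroup C).subtype).codRestrict (tor f) fun s =>
    hf.cent_tor ha (Subgroup.mem_centralizer_singleton_iff.mp (s : C).2) (hS _ s.2)
  haveI := hf.tor_cyclic
  have hcyc : IsCyclic (S : Subgroup C) := isCyclic_of_injective φ fun x y h =>
    Subtype.ext (Subtype.ext (congrArg (fun z : tor f => (z : G)) h))
  have h2C : 2 ∣ Nat.card C := by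
    have h := Subgroup.orderOf_dvd_natCard C htC
    rwa [orderOf_eq_prime (by rw [pow_two, hf.tt_sq]) hf.tt_ne] at h
  have hmin : (Nat.card C).minFac = 2 := (Nat.minFac_eq_two_iff _).mpr h2C
  have hle := IsCyclic.normalizer_le_centralizer hmin hcyc
  have hcompl := IsCyclic.isComplement' hmin hcyc
  set O := (MonoidHom.transferSylow S hle).ker with hO
  have hOodd : Odd (Nat.card O) :=
    Nat.odd_iff.mpr (Nat.two_dvd_ne_zero.mp (MonoidHom.not_dvd_card_ker_transferSylow S hle))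
  have hmem : ∀ x : C, x ∈ O ↔ Odd (orderOf (x : G)) := by
    intro x
    rw [Subgroup.orderOf_coe]
    refine ⟨fun hx => hOodd.of_dvd_nat (Subgroup.orderOf_dvd_natCard _ hx), fun hx => ?_⟩
    rw [hO, MonoidHom.mem_ker, ← orderOf_eq_one_iff]
    obtain ⟨k, hk⟩ := IsPGroup.iff_orderOf.mp S.2 (MonoidHom.transferSylow S hle x)
    have h1 := orderOf_map_dvd (MonoidHom.transferSylow S hle) x
    rw [hk] at h1 ⊢
    exact Nat.eq_one_of_dvd_coprimes ((Nat.coprime_two_left.mpr hx).pow_left k) dvd_rfl h1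
  have hnorm : ∀ w : G, (∀ x ∈ C, w * x * w⁻¹ ∈ C) → ∀ x ∈ O.map C.subtype, w * x * w⁻¹ ∈ O.map C.subtype := by
    intro w hw x hx
    obtain ⟨y, hy, rfl⟩ := hx
    refine ⟨⟨w * y * w⁻¹, hw y y.2⟩, (hmem _).mpr ?_, rfl⟩
    show Odd (orderOf (w * (y : G) * w⁻¹))
    rw [← MulAut.conj_apply, MulEquiv.orderOf_eq]
    exact (hmem y).mp hy
  have htn : ∀ x ∈ C, tt f * x * (tt f)⁻¹ ∈ C := fun x hx => mul_mem (mul_mem htC hx) (inv_mem htC)
  have hwn : ∀ x ∈ C, f ww * x * (f ww)⁻¹ ∈ C := by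
    intro x hx
    set b : Fˣ := (Units.map (c.σ : F →* F) a)⁻¹ with hb
    have hb' : (b ^ c.q)⁻¹ = a := by
      refine inv_eq_of_mul_eq_one_left ?_
      ext
      rw [Units.val_mul, Units.val_pow_eq_pow_val, ← c.hσ, hb, Units.val_inv_eq_inv_val, map_inv₀]
      simp [c.invol]
    have hwd : f ww * f (dg a) * (f ww)⁻¹ = f (dg b) := by
      rw [← map_inv, ← map_mul, ← map_mul, ww_dg, mul_inv_cancel_right]
    have hc : Commute (f ww * x * (f ww)⁻¹) (f (dg b)) := by
      rw [← hwd]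
      exact (show Commute x (f (dg a)) from Subgroup.mem_centralizer_singleton_iff.mp hx).map (MulAut.conj (f ww))
    refine Subgroup.mem_centralizer_singleton_iff.mpr ?_
    rw [← hb', show f (dg (b ^ c.q)⁻¹) = (f (dg b) ^ c.q)⁻¹ by simp [dg]]
    exact (hc.pow_right c.q).inv_right
  have htr : (-1 : F) + c.σ (-1) ≠ 0 := by
    rw [map_neg, map_one, ← neg_add, one_add_one_eq_two]; exact neg_ne_zero.mpr hf.two_ne'
  have hww : f ww = f (refl (-1)) := by rw [refl_neg_one hf.odd]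
  refine hf.odd_four_not_dvd hq hn hf.tt_sq (by rw [hww, hf.refl_sq' htr] : f ww * f ww = 1) hf.tt_ne
    (hww ▸ hf.refl_ne htr) (fun e => hf.refl_ne_tt htr (hww ▸ e.symm)) (hf.tt_comm ww).symm
    (O := O.map C.subtype) (by rw [Subgroup.card_map_of_injective C.subtype_injective]; exact hOodd)
    (hnorm _ htn) (hnorm _ hwn) ?_
  rw [Subgroup.card_map_of_injective C.subtype_injective]
  rw [← hcompl.card_mul] at hdvd
  refine (hp.out.dvd_mul.mp hdvd).resolve_right fun h => ?_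
  obtain ⟨k, hk⟩ := IsPGroup.iff_card.mp S.2
  rw [hk] at h
  exact hf.p_ne_two hq hn ((Nat.prime_dvd_prime_iff_eq hp.out Nat.prime_two).mp (hp.out.dvd_of_dvd_pow h))

end Hyp

end CfsgLib.U3Cent
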