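import Cfsg.Agent.Lib.U3Cent.Coord
import Mathlib.Algebra.Ring.Subring.Basic
import Mathlib.FieldTheory.Finite.GaloisField

/-!
# The second coordinate

The radical modulo the root group is the field, the torus acting by multiplication.
-/

set_option autoImplicit false
set_option linter.unusedSectionVars false
set_option linter.style.haveILetI false

namespace CfsgLib.U3Cent

open CfsgLib.PSUBorel

universe u v

variable {G : Type u} [Group G] {F : Type v} [Field F] [Fintype F] {c : Conj F}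

/-- The second coordinate `π`, with the character `χ` of the torus. -/
structure Proj (f : W c →* G) (R : Subgroup G) (π : G → F) (χ : Fˣ →* Fˣ) : Prop where
  map_mul : ∀ r ∈ R, ∀ r' ∈ R, π (r * r') = π r + π r'
  eq_zero : ∀ r ∈ R, π r = 0 ↔ r ∈ root f
  surj : ∀ b : F, ∃ r ∈ R, π r = b
  equiv : ∀ (a : Fˣ), ∀ r ∈ R, π (f (dg a) * r * (f (dg a))⁻¹) = (χ a : F) * π r
  neg_one : χ (-1) = -1
  ker : ∀ a : Fˣ, χ a = 1 → f (dg a) = 1

variable [Finite G] [IsSimpleGroup G] {p n : ℕ} [hp : Fact p.Prime]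

namespace Rad

variable {f : W c →* G} {R : Subgroup G} (hR : Rad p n f R)
include hR

theorem faithful {g : G} (h : ∀ ω : Pts f, g • ω = ω) : g = 1 := by
  set K := (MulAction.toPermHom G (Pts f)).ker
  have hg : g ∈ K := MonoidHom.mem_ker.mpr (Equiv.Perm.ext h)
  rcases IsSimpleGroup.eq_bot_or_eq_top_of_normal K inferInstance with e | e
  · rwa [e, Subgroup.mem_bot] at hg
  · exfalso
    have hw : f ww ∈ K := e ▸ Subgroup.mem_top _
    have h' := congrArg (fun σ : Equiv.Perm (Pts f) => σ (bx f)) (MonoidHom.mem_ker.mp hw)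
    exact hR.by0_ne h'

theorem root_central {x r : G} (hx : x ∈ root f) (hr : r ∈ R) : x * r = r * x :=
  Subgroup.mem_centralizer_iff.mp (hR.le_cx hr) x hx

theorem card_inv_R : Nat.card {y : G // y ∈ R ∧ tt f * y * tt f = y⁻¹} = c.q ^ 2 := by
  have h := CfsgLib.InvTimesAlt.card_fixed_mul_inverted R hR.odd_R hR.hyp.tt_sq fun r hr => hR.tt_conj_mem hr
  rw [hR.cent, hR.hyp.card_root, hR.card_R, pow_succ'] at h
  exact Nat.eq_of_mul_eq_mul_left (by have := one_lt_q hR.hyp.odd; omega) h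

/-- Inverted elements of one coset of the root group are equal. -/
theorem inv_coset {y w : G} (hw : w ∈ R) (hy' : tt f * y * tt f = y⁻¹) (hw' : tt f * w * tt f = w⁻¹)
    (h : w⁻¹ * y ∈ root f) : y = w := by
  have hf := hR.hyp
  obtain ⟨b, hb⟩ := mem_root.mp h
  have hyb : y = w * f (up b) := by rw [hb, mul_inv_cancel_left]
  have hbt : tt f * f (up b) * tt f = f (up b) := by rw [← hf.tt_comm, mul_assoc, hf.tt_sq, mul_one]
  have e3 : f (up b) = (f (up b))⁻¹ := by
    have h3 := hy'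
    rw [hyb, show tt f * (w * f (up b)) * tt f = (tt f * w * tt f) * (tt f * f (up b) * tt f) by
      rw [show tt f * w * tt f * (tt f * f (up b) * tt f) = tt f * w * (tt f * tt f) * f (up b) * tt f by group,
        hf.tt_sq]; group, hw', hbt, _root_.mul_inv_rev,
      ← hR.root_central (mem_root.mpr ⟨b, rfl⟩) (inv_mem hw)] at h3
    exact mul_right_cancel h3
  have e2 : f (up (b + b)) = 1 := by
    rw [← up_add, _root_.map_mul]
    calc f (up b) * f (up b) = (f (up b))⁻¹ * f (up b) := by rw [← e3]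
      _ = 1 := inv_mul_cancel _
  have hb0 : b = 0 := Subtype.ext ((mul_eq_zero.mp (show (2 : F) * (b : F) = 0 by
    rw [two_mul, ← AddSubgroup.coe_add, hf.root_inj e2, AddSubgroup.coe_zero])).resolve_left hf.two_ne')
  rw [hyb, hb0, up_zero, map_one, mul_one]

/-- Every coset of the root group contains exactly one inverted element. -/
theorem inverted_rep {r : G} (hr : r ∈ R) :
    ∃ y ∈ R, tt f * y * tt f = y⁻¹ ∧ y⁻¹ * r ∈ root f := by
  classical
  set X := (root f).subgroupOf R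
  haveI := Fintype.ofFinite {y : G // y ∈ R ∧ tt f * y * tt f = y⁻¹}
  haveI := Fintype.ofFinite (R ⧸ X)
  let φ : {y : G // y ∈ R ∧ tt f * y * tt f = y⁻¹} → R ⧸ X := fun y => QuotientGroup.mk ⟨y.1, y.2.1⟩
  have hbij : Function.Bijective φ := by
    refine (Fintype.bijective_iff_injective_and_card φ).mpr ⟨fun y z h => ?_, ?_⟩
    · have h' : (QuotientGroup.mk (⟨y.1, y.2.1⟩ : R) : R ⧸ X) = QuotientGroup.mk ⟨z.1, z.2.1⟩ := h
      exact Subtype.ext (hR.inv_coset y.2.1 z.2.2 y.2.2 (Subgroup.mem_subgroupOf.mp (QuotientGroup.eq.mp h'))).symm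
    · rw [← Nat.card_eq_fintype_card, ← Nat.card_eq_fintype_card, hR.card_inv_R]
      have h := X.card_mul_index
      rw [Nat.card_congr (Subgroup.subgroupOfEquivOfLe hR.root_le).toEquiv, hR.hyp.card_root, hR.card_R,
        pow_succ' c.q] at h
      exact (Nat.eq_of_mul_eq_mul_left (by have := one_lt_q hR.hyp.odd; omega) h).symm
  obtain ⟨y, hy⟩ := hbij.2 (QuotientGroup.mk ⟨r, hr⟩)
  have hy' : (QuotientGroup.mk (⟨y.1, y.2.1⟩ : R) : R ⧸ X) = QuotientGroup.mk ⟨r, hr⟩ := hy
  exact ⟨y.1, y.2.1, y.2.2, Subgroup.mem_subgroupOf.mp (QuotientGroup.eq.mp hy')⟩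

theorem tt_mul_self {r : G} (hr : r ∈ R) : tt f * r * tt f * r ∈ root f := by
  obtain ⟨y, hy, hy', hx⟩ := hR.inverted_rep hr
  set x := y⁻¹ * r
  have hrx : r = y * x := by rw [mul_inv_cancel_left]
  have hxt : tt f * x * tt f = x := by
    obtain ⟨b, hb⟩ := mem_root.mp hx
    rw [← hb, ← hR.hyp.tt_comm, mul_assoc, hR.hyp.tt_sq, mul_one]
  rw [hrx, show tt f * (y * x) * tt f = tt f * y * (tt f * tt f) * x * tt f by rw [hR.hyp.tt_sq]; group,
    show tt f * y * (tt f * tt f) * x * tt f = (tt f * y * tt f) * (tt f * x * tt f) by group, hy', hxt,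
    show y⁻¹ * x * (y * x) = y⁻¹ * (x * y) * x by group, hR.root_central hx hy]
  rw [show y⁻¹ * (y * x) * x = x * x by group]
  exact mul_mem hx hx

theorem comm_mem_root {r s : G} (hr : r ∈ R) (hs : s ∈ R) : r⁻¹ * s⁻¹ * r * s ∈ root f := by
  -- inversion is multiplicative modulo the root group
  have hn : (root f).subgroupOf R |>.Normal := ⟨fun x hx g => by
    rw [Subgroup.mem_subgroupOf] at hx ⊢
    rw [Subgroup.coe_mul, Subgroup.coe_mul, Subgroup.coe_inv, ← hR.root_central hx g.2, mul_inv_cancel_right]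
    exact hx⟩
  set X := (root f).subgroupOf R
  have h : ∀ g : R, (QuotientGroup.mk ⟨_, hR.tt_conj_mem g.2⟩ : R ⧸ X) = (QuotientGroup.mk g)⁻¹ := fun g => by
    refine eq_inv_of_mul_eq_one_left ?_
    rw [← QuotientGroup.mk_mul, QuotientGroup.eq_one_iff]
    exact hR.tt_mul_self g.2
  have hm : ∀ g k : R, (QuotientGroup.mk (g * k) : R ⧸ X) = QuotientGroup.mk (k * g) := fun g k => by
    have h1 := h (g * k)
    have e : (⟨_, hR.tt_conj_mem (g * k).2⟩ : R) = ⟨_, hR.tt_conj_mem g.2⟩ * ⟨_, hR.tt_conj_mem k.2⟩ := by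
      refine Subtype.ext ?_
      show tt f * ((g : G) * k) * tt f = tt f * g * tt f * (tt f * k * tt f)
      rw [show tt f * (g : G) * tt f * (tt f * k * tt f) = tt f * g * (tt f * tt f) * k * tt f by group,
        hR.hyp.tt_sq]
      group
    rw [e, QuotientGroup.mk_mul, h, h, ← _root_.mul_inv_rev, _root_.inv_inj, ← QuotientGroup.mk_mul] at h1
    exact h1.symm
  have h2 := QuotientGroup.eq.mp (hm ⟨s, hs⟩ ⟨r, hr⟩)
  rw [Subgroup.mem_subgroupOf] at h2
  simp only [Subgroup.coe_mul, Subgroup.coe_inv, _root_.mul_inv_rev] at h2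
  rwa [← mul_assoc] at h2

/-- The second coordinate exists. -/
theorem exists_proj : ∃ (π : G → F) (χ : Fˣ →* Fˣ), Proj f R π χ := by
  classical
  have hf := hR.hyp
  set X := (root f).subgroupOf R with hX
  haveI hXn : X.Normal := ⟨fun x hx g => by
    rw [Subgroup.mem_subgroupOf] at hx ⊢
    rw [Subgroup.coe_mul, Subgroup.coe_mul, Subgroup.coe_inv, ← hR.root_central hx g.2, mul_inv_cancel_right]
    exact hx⟩
  letI : CommGroup (R ⧸ X) :=
    { (inferInstance : Group (R ⧸ X)) with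
      mul_comm := fun a b => by
        induction a using QuotientGroup.induction_on with
        | H g =>
          induction b using QuotientGroup.induction_on with
          | H k =>
            rw [← QuotientGroup.mk_mul, ← QuotientGroup.mk_mul, QuotientGroup.eq]
            rw [Subgroup.mem_subgroupOf]
            simp only [Subgroup.coe_mul, Subgroup.coe_inv, _root_.mul_inv_rev, ← mul_assoc]
            exact hR.comm_mem_root k.2 g.2 }
  let Vt := Additive (R ⧸ X)
  let toV : R → Vt := fun g => Additive.ofMul (QuotientGroup.mk g)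
  have htoV : ∀ g k, toV (g * k) = toV g + toV k := fun g k => rfl
  have hsurj : Function.Surjective toV := fun v => by
    obtain ⟨g, hg⟩ := QuotientGroup.mk_surjective (Additive.toMul v)
    exact ⟨g, by show Additive.ofMul (QuotientGroup.mk g) = v; rw [hg]; rfl⟩
  haveI : Finite Vt := Finite.of_surjective toV hsurj
  have hzero : ∀ g : R, toV g = 0 ↔ (g : G) ∈ root f := fun g => by
    show (QuotientGroup.mk g : R ⧸ X) = 1 ↔ _
    rw [QuotientGroup.eq_one_iff, Subgroup.mem_subgroupOf]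
  let cj : Fˣ → (R →* R) := fun a => ((MulAut.conj (f (dg a))).toMonoidHom.comp R.subtype).codRestrict R fun g =>
    hR.normal _ (bor_le_nrm f (tor_le_bor f (mem_tor.mpr ⟨a, rfl⟩))) _ g.2
  have hcj : ∀ a, X ≤ X.comap (cj a) := fun a g hg => by
    rw [Subgroup.mem_comap, Subgroup.mem_subgroupOf]
    obtain ⟨b, hb⟩ := mem_root.mp (Subgroup.mem_subgroupOf.mp hg)
    show f (dg a) * (g : G) * (f (dg a))⁻¹ ∈ root f
    rw [← hb, ← map_inv, ← _root_.map_mul, ← _root_.map_mul, dg_conj]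
    exact mem_root.mpr ⟨_, rfl⟩
  let act : Fˣ → AddMonoid.End Vt := fun a => MonoidHom.toAdditive (QuotientGroup.map X X (cj a) (hcj a))
  have hact : ∀ a g, act a (toV g) = toV (cj a g) := fun a g => rfl
  have hact_mul : ∀ a b, act (a * b) = act a * act b := fun a b => by
    refine AddMonoidHom.ext fun v => ?_
    obtain ⟨g, rfl⟩ := hsurj v
    refine (hact _ g).trans ?_
    show toV _ = act a (act b (toV g))
    refine Eq.trans ?_ (Eq.symm ((congrArg (act a) (hact b g)).trans (hact a (cj b g))))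
    refine congrArg toV (Subtype.ext ?_)
    show f (dg (a * b)) * (g : G) * (f (dg (a * b)))⁻¹ = f (dg a) * (f (dg b) * g * (f (dg b))⁻¹) * (f (dg a))⁻¹
    rw [show f (dg (a * b)) = f (dg a) * f (dg b) by simp [dg]]; group
  have hact_one : act 1 = 1 := by
    refine AddMonoidHom.ext fun v => ?_
    obtain ⟨g, rfl⟩ := hsurj v
    refine (hact _ g).trans ?_
    refine congrArg toV (Subtype.ext ?_)
    show f (dg 1) * (g : G) * (f (dg 1))⁻¹ = g
    simp [dg]
  -- invariant subgroups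
  obtain ⟨a0, ha0⟩ := IsCyclic.exists_generator (α := Fˣ)
  have hgen : ∀ m, a0 ^ (m * (c.q + 1)) = 1 → c.q - 1 ∣ m := fun m hm => by
    have h := orderOf_dvd_of_pow_eq_one hm
    rw [orderOf_eq_card_of_forall_mem_zpowers ha0, card_units_q (c := c), ← one_pow 2, Nat.sq_sub_sq, mul_comm,
      mul_comm m] at h
    exact Nat.dvd_of_mul_dvd_mul_right (Nat.succ_pos _) (by rwa [mul_comm m])
  have hcardV : Nat.card Vt = p ^ (2 * n) := by
    have h := X.card_mul_index
    rw [Nat.card_congr (Subgroup.subgroupOfEquivOfLe hR.root_le).toEquiv, hf.card_root, hR.card_R, pow_succ' c.q] at h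
    rw [Nat.card_congr Additive.toMul, ← Subgroup.index,
      Nat.eq_of_mul_eq_mul_left (by have := one_lt_q hf.odd; omega) h, hR.hq, ← pow_mul, mul_comm n]
  have hinvariant : ∀ S : AddSubgroup Vt, (∀ v ∈ S, act a0 v ∈ S) → S ≠ ⊥ → S = ⊤ := by
    intro S hS hS0
    obtain ⟨j, hj2, hj⟩ := (Nat.dvd_prime_pow hp.out).mp (hcardV ▸ AddSubgroup.card_addSubgroup_dvd_card S)
    have hj0 : j ≠ 0 := fun e => hS0 (AddSubgroup.eq_bot_of_card_eq _ (by rw [hj, e, pow_zero]))
    have hinj : ∀ v, act a0 v = 0 → v = 0 := fun v hv => by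
      have h := congrArg (act a0⁻¹) hv
      rwa [map_zero, show act a0⁻¹ (act a0 v) = (act a0⁻¹ * act a0) v from rfl, ← hact_mul, inv_mul_cancel,
        hact_one] at h
    let φ : {v : Vt // v ∈ S ∧ v ≠ 0} → {v : Vt // v ∈ S ∧ v ≠ 0} := fun v =>
      ⟨act a0 v.1, hS _ v.2.1, fun e => v.2.2 (hinj _ e)⟩
    let e : Equiv.Perm {v : Vt // v ∈ S ∧ v ≠ 0} := Equiv.ofBijective φ
      (Finite.injective_iff_bijective.mp fun v w h => Subtype.ext (sub_eq_zero.mp (hinj _ (by
        rw [map_sub, sub_eq_zero]; exact congrArg Subtype.val h))))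
    have hpow : ∀ (m : ℕ) v, ((e ^ m) v).1 = act (a0 ^ m) v.1 := fun m v => by
      induction m with
      | zero => rw [pow_zero, pow_zero, hact_one]; rfl
      | succ m ih =>
        rw [pow_succ', pow_succ', hact_mul, Equiv.Perm.mul_apply]
        show act a0 ((e ^ m) v).1 = _
        rw [ih]; rfl
    obtain ⟨t, ht⟩ := dvd_card_of_period e (d := 2 * (c.q - 1)) fun v m hm => by
      have h := congrArg Subtype.val hm
      rw [hpow] at h
      obtain ⟨g, hg⟩ := hsurj v.1
      obtain ⟨y, hy, hy', hyg⟩ := hR.inverted_rep g.2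
      have hgy : toV g = toV ⟨y, hy⟩ := by
        show Additive.ofMul _ = Additive.ofMul _
        rw [Additive.ofMul.injective.eq_iff]
        exact (QuotientGroup.eq.mpr (by rw [Subgroup.mem_subgroupOf]; exact hyg)).symm
      have hy1 : y ≠ 1 := fun e => v.2.2 (by
        rw [← hg, hgy, show (⟨y, hy⟩ : R) = 1 from Subtype.ext e]; rfl)
      obtain ⟨k, hk⟩ := IsPGroup.iff_orderOf.mp hR.isPGroup ⟨y, hy⟩
      rw [← Subgroup.orderOf_coe] at hk
      refine hf.period hR.hq hR.hn hgen hy1 ⟨k, hk⟩ hy' ?_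
      rw [← hg, hgy, hact] at h
      have h' : (⟨f (dg (a0 ^ m)) * y * (f (dg (a0 ^ m)))⁻¹,
          hR.normal _ (bor_le_nrm f (tor_le_bor f (mem_tor.mpr ⟨_, rfl⟩))) _ hy⟩ : R)⁻¹ * ⟨y, hy⟩ ∈ X :=
        QuotientGroup.eq.mp (Additive.ofMul.injective h)
      rw [Subgroup.mem_subgroupOf] at h'
      have hpd : f (dg a0) ^ m = f (dg (a0 ^ m)) := by simp [dg]
      rw [hpd]
      set w := f (dg (a0 ^ m)) * y * (f (dg (a0 ^ m)))⁻¹ with hw
      have hwt : tt f * w * tt f = w⁻¹ := by
        have hc : Commute (tt f) (f (dg (a0 ^ m))) := (hf.tt_comm _).symm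
        calc tt f * w * tt f = tt f * f (dg (a0 ^ m)) * y * ((f (dg (a0 ^ m)))⁻¹ * tt f) := by rw [hw]; group
          _ = f (dg (a0 ^ m)) * tt f * y * (tt f * (f (dg (a0 ^ m)))⁻¹) := by rw [hc.eq, hc.inv_right.eq]
          _ = f (dg (a0 ^ m)) * (tt f * y * tt f) * (f (dg (a0 ^ m)))⁻¹ := by group
          _ = _ := by rw [hy', hw]; group
      exact (hR.inv_coset (hR.normal _ (bor_le_nrm f (tor_le_bor f (mem_tor.mpr ⟨_, rfl⟩))) _ hy) hy' hwt h').symm
    have hcardS : Nat.card {v : Vt // v ∈ S ∧ v ≠ 0} + 1 = Nat.card S := by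
      haveI := Fintype.ofFinite S
      have h : Nat.card {v : Vt // v ∈ S ∧ v ≠ 0} = Nat.card {v : S // v ≠ 0} := Nat.card_congr
        { toFun := fun v => ⟨⟨v.1, v.2.1⟩, fun e => v.2.2 (congrArg Subtype.val e)⟩
          invFun := fun v => ⟨v.1.1, v.1.2, fun e => v.2 (Subtype.ext e)⟩
          left_inv := fun _ => rfl
          right_inv := fun _ => rfl }
      rw [h, Nat.card_eq_fintype_card, Nat.card_eq_fintype_card, Fintype.card_subtype_compl, Fintype.card_subtype_eq]
      have := Fintype.card_pos_iff.mpr ⟨(0 : S)⟩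
      omega
    rw [ht, hj] at hcardS
    rw [hR.hq] at hcardS
    have hle := two_n_le hp.out hj0 hcardS.symm
    refine AddSubgroup.eq_top_of_card_eq _ ?_
    rw [hj, hcardV, le_antisymm hj2 hle]
  -- the field
  set E := Subring.closure (Set.range act)
  letI : CommRing E := Subring.closureCommRingOfComm (by
    rintro _ ⟨a, rfl⟩ _ ⟨b, rfl⟩; rw [← hact_mul, mul_comm, hact_mul])
  have hcomm0 : ∀ e : E, ∀ v, act a0 (e.1 v) = e.1 (act a0 v) := fun e v => by
    have h := congrArg (fun x : E => x.1 v) (mul_comm (⟨act a0, Subring.subset_closure ⟨a0, rfl⟩⟩ : E) e)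
    exact h
  have hnz : ∀ e : E, e ≠ 0 → ∀ v, e.1 v = 0 → v = 0 := fun e he v hv => by
    by_contra hv0
    have hK := hinvariant (AddMonoidHom.ker (e.1 : Vt →+ Vt)) (fun w hw => by
      show e.1 (act a0 w) = 0
      rw [← hcomm0, show e.1 w = 0 from hw, map_zero]) fun h => hv0 (by
        have : v ∈ AddMonoidHom.ker (e.1 : Vt →+ Vt) := hv
        rwa [h, AddSubgroup.mem_bot] at this)
    exact he (Subtype.ext (AddMonoidHom.ext fun w => by
      have : w ∈ AddMonoidHom.ker (e.1 : Vt →+ Vt) := hK ▸ AddSubgroup.mem_top w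
      exact this))
  haveI : Nontrivial Vt := Finite.one_lt_card_iff_nontrivial.mp (by
    rw [hcardV]; exact Nat.one_lt_pow (by have := hR.hn; omega) hp.out.one_lt)
  obtain ⟨v0, hv0⟩ := exists_ne (0 : Vt)
  haveI : Nontrivial E := ⟨⟨0, 1, fun h => hv0 (congrArg (fun x : E => x.1 v0) h).symm⟩⟩
  haveI : NoZeroDivisors E := ⟨fun {x y} h => by
    by_contra hne
    push Not at hne
    exact hv0 (hnz y hne.2 v0 (hnz x hne.1 _ (congrArg (fun z : E => z.1 v0) h)))⟩
  haveI : IsDomain E := NoZeroDivisors.to_isDomain E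
  haveI : Finite E := Finite.of_injective (fun e : E => fun v => e.1 v)
    fun x y h => Subtype.ext (AddMonoidHom.ext (congrFun h))
  haveI := Fintype.ofFinite E
  letI : Field E := Fintype.fieldOfDomain E
  let ev : E →+ Vt := AddMonoidHom.mk' (fun e => e.1 v0) fun x y => rfl
  have hev : Function.Bijective ev := by
    refine ⟨(injective_iff_map_eq_zero ev).mpr fun e he => by_contra fun hne => hv0 (hnz e hne v0 he), ?_⟩
    rw [← AddMonoidHom.range_eq_top]
    refine hinvariant _ ?_ fun h => hv0 ?_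
    · rintro _ ⟨e, rfl⟩
      exact ⟨⟨act a0, Subring.subset_closure ⟨a0, rfl⟩⟩ * e, rfl⟩
    · have : v0 ∈ ev.range := ⟨1, rfl⟩
      rwa [h, AddSubgroup.mem_bot] at this
  let evE : E ≃+ Vt := AddEquiv.ofBijective ev hev
  let ι : E ≃+* F := FiniteField.ringEquivOfCardEq (by
    rw [c.card, ← Nat.card_eq_fintype_card, Nat.card_congr evE.toEquiv, hcardV, hR.hq, ← pow_mul, mul_comm n])
  let χ0 : Fˣ →* F :=
    { toFun := fun a => ι ⟨act a, Subring.subset_closure ⟨a, rfl⟩⟩
      map_one' := by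
        rw [show (⟨act 1, Subring.subset_closure ⟨1, rfl⟩⟩ : E) = 1 from Subtype.ext hact_one, map_one]
      map_mul' := fun a b => by
        rw [show (⟨act (a * b), Subring.subset_closure ⟨a * b, rfl⟩⟩ : E) =
          ⟨act a, Subring.subset_closure ⟨a, rfl⟩⟩ * ⟨act b, Subring.subset_closure ⟨b, rfl⟩⟩ from
          Subtype.ext (hact_mul a b), _root_.map_mul] }
  let π : G → F := fun r => if h : r ∈ R then ι (evE.symm (toV ⟨r, h⟩)) else 0
  have hπ : ∀ (r) (h : r ∈ R), π r = ι (evE.symm (toV ⟨r, h⟩)) := fun r h => dif_pos h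
  refine ⟨π, χ0.toHomUnits, ⟨fun r hr r' hr' => ?_, fun r hr => ?_, fun b => ?_, fun a r hr => ?_, ?_, fun a ha => ?_⟩⟩
  · rw [hπ _ (mul_mem hr hr'), hπ _ hr, hπ _ hr', ← map_add, ← map_add, ← htoV]; rfl
  · rw [hπ _ hr, map_eq_zero_iff _ ι.injective, map_eq_zero_iff _ evE.symm.injective, hzero]
  · obtain ⟨g, hg⟩ := hsurj (evE (ι.symm b))
    exact ⟨g, g.2, by rw [hπ _ g.2, Subtype.coe_eta, hg, AddEquiv.symm_apply_apply, RingEquiv.apply_symm_apply]⟩
  · have hmem : f (dg a) * r * (f (dg a))⁻¹ ∈ R :=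
      hR.normal _ (bor_le_nrm f (tor_le_bor f (mem_tor.mpr ⟨a, rfl⟩))) _ hr
    rw [hπ _ hr, hπ _ hmem, MonoidHom.coe_toHomUnits]
    show ι _ = ι _ * ι _
    rw [← _root_.map_mul]
    congr 1
    refine evE.injective ?_
    rw [AddEquiv.apply_symm_apply]
    show toV _ = act a ((evE.symm (toV ⟨r, hr⟩)).1 v0)
    rw [show (evE.symm (toV ⟨r, hr⟩)).1 v0 = toV ⟨r, hr⟩ from evE.apply_symm_apply _]
    exact (hact a ⟨r, hr⟩).symm
  · refine Units.ext ?_
    rw [MonoidHom.coe_toHomUnits, Units.val_neg, Units.val_one]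
    show ι _ = -1
    rw [show (⟨act (-1), Subring.subset_closure ⟨-1, rfl⟩⟩ : E) = -1 from Subtype.ext (AddMonoidHom.ext fun v => by
      obtain ⟨g, rfl⟩ := hsurj v
      show toV _ = -toV g
      refine eq_neg_of_add_eq_zero_left ?_
      rw [← htoV, hzero]
      show f (dg (-1)) * (g : G) * (f (dg (-1)))⁻¹ * g ∈ root f
      have e : (f (dg (-1)))⁻¹ = tt f := inv_eq_of_mul_eq_one_right hf.tt_sq
      rw [e]
      exact hR.tt_mul_self g.2), map_neg, map_one]
  · -- an element acting trivially fixes every point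
    have hid : act a = 1 := by
      have h := congrArg (Units.val : Fˣ → F) ha
      rw [MonoidHom.coe_toHomUnits, Units.val_one] at h
      exact congrArg Subtype.val (ι.injective (h.trans (map_one ι).symm) : (⟨act a, _⟩ : E) = 1)
    have hcent : ∀ y ∈ R, tt f * y * tt f = y⁻¹ → f (dg a) * y * (f (dg a))⁻¹ = y := by
      intro y hy hy'
      set w := f (dg a) * y * (f (dg a))⁻¹ with hw
      have hwR : w ∈ R := hR.normal _ (bor_le_nrm f (tor_le_bor f (mem_tor.mpr ⟨a, rfl⟩))) _ hy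
      have h : toV ⟨w, hwR⟩ = toV ⟨y, hy⟩ := (congrArg (fun e : AddMonoid.End Vt => e (toV ⟨y, hy⟩)) hid :)
      have h' := QuotientGroup.eq.mp (Additive.ofMul.injective h)
      rw [Subgroup.mem_subgroupOf] at h'
      have hwt : tt f * w * tt f = w⁻¹ := by
        have hc : Commute (tt f) (f (dg a)) := (hf.tt_comm _).symm
        calc tt f * w * tt f = tt f * f (dg a) * y * ((f (dg a))⁻¹ * tt f) := by rw [hw]; group
          _ = f (dg a) * tt f * y * (tt f * (f (dg a))⁻¹) := by rw [hc.eq, hc.inv_right.eq]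
          _ = f (dg a) * (tt f * y * tt f) * (f (dg a))⁻¹ := by group
          _ = _ := by rw [hy', hw]; group
      exact (hR.inv_coset hwR hy' hwt h').symm
    have hnrm : a ∈ nrmOne c := by
      by_contra hna
      haveI : Nontrivial {y : G // y ∈ R ∧ tt f * y * tt f = y⁻¹} := Finite.one_lt_card_iff_nontrivial.mp (by
        rw [hR.card_inv_R]; exact Nat.one_lt_pow two_ne_zero (by have := one_lt_q hf.odd; omega))
      obtain ⟨⟨y, hy, hy'⟩, hy1⟩ := exists_ne (⟨1, one_mem R, by rw [mul_one, hf.tt_sq, inv_one]⟩ :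
        {y : G // y ∈ R ∧ tt f * y * tt f = y⁻¹})
      obtain ⟨k, hk⟩ := IsPGroup.iff_orderOf.mp hR.isPGroup ⟨y, hy⟩
      rw [← Subgroup.orderOf_coe] at hk
      have hk0 : k ≠ 0 := fun e => hy1 (Subtype.ext (orderOf_eq_one_iff.mp (hk.trans (by rw [e, pow_zero]))))
      refine hf.not_dvd_cent hR.hq hR.hn hna (((dvd_pow_self p hk0).trans (dvd_of_eq hk.symm)).trans
        (Subgroup.orderOf_dvd_natCard _ (Subgroup.mem_centralizer_singleton_iff.mpr ?_)))
      exact (mul_inv_eq_iff_eq_mul.mp (hcent y hy hy')).symm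
    have hscal := (isScal_dg.mpr hnrm : IsScal (dg (c := c) a))
    refine hR.faithful fun ω => ?_
    by_cases hω : ω = bx f
    · rw [hω, smul_bx]; exact bor_le_nrm f (tor_le_bor f (mem_tor.mpr ⟨a, rfl⟩))
    obtain ⟨r, hr, rfl⟩ := hR.exists_smul hω
    obtain ⟨y, hy, hy', hx⟩ := hR.inverted_rep hr
    obtain ⟨b, hb⟩ := mem_root.mp hx
    have hcr : f (dg a) * r = r * f (dg a) := by
      rw [← mul_inv_cancel_left y r, ← hb]
      calc f (dg a) * (y * f (up b)) = f (dg a) * y * (f (dg a))⁻¹ * (f (dg a) * f (up b)) := by group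
        _ = y * (f (up b) * f (dg a)) := by rw [hcent y hy hy', ← _root_.map_mul, ← _root_.map_mul, hscal.comm]
        _ = _ := by rw [mul_assoc]
    rw [smul_smul, hcr, mul_smul, hR.tor_by0 (mem_tor.mpr ⟨a, rfl⟩)]

end Rad

end CfsgLib.U3Cent
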