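import Cfsg.Agent.Lib.U3Cent.PointCount
import Cfsg.Agent.Lib.CentrallyLarge

/-!
# The unipotent radical of the stabiliser

With the index known, the stabiliser has a normal `p`-subgroup of order `q ^ 3`.
-/

set_option autoImplicit false
set_option linter.unusedSectionVars false
set_option linter.style.haveILetI false

namespace CfsgLib.U3Cent

open CfsgLib.PSUBorel

universe u v

variable {G : Type u} [Group G] [Finite G] [IsSimpleGroup G] {F : Type v} [Field F] [Fintype F] {c : Conj F}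

/-- The unipotent radical `R` and the numbers. -/
structure Rad (p n : ℕ) (f : W c →* G) (R : Subgroup G) : Prop where
  hyp : Hyp c f
  hq : c.q = p ^ n
  hn : n ≠ 0
  index_nrm : (nrm f).index = c.q ^ 3 + 1
  card_R : Nat.card R = c.q ^ 3
  le_cx : R ≤ cx f
  root_le : root f ≤ R
  cent : R ⊓ Subgroup.centralizer ({tt f} : Set G) = root f
  normal : ∀ g ∈ nrm f, ∀ x ∈ R, g * x * g⁻¹ ∈ R
  decomp : ∀ g ∈ nrm f, ∃ x ∈ R, ∃ b ∈ bor f, g = x * b
  invol : ∀ u ∈ nrm f, u * u = 1 → u ≠ 1 → u * tt f ∈ R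

namespace Hyp

variable {f : W c →* G} (hf : Hyp c f) {p n : ℕ} [hp : Fact p.Prime] (hq : c.q = p ^ n) (hn : n ≠ 0)
include hf hq hn

/-- The radical exists. -/
theorem exists_rad (hM : (Subgroup.centralizer ({tt f} : Set G)).index = c.q ^ 2 * (c.q ^ 2 - c.q + 1)) :
    ∃ R : Subgroup G, Rad p n f R := by
  classical
  obtain ⟨P, i, hP, hcard, htP, hI, hIr, hbound⟩ := hf.exists_p_part hq hn
  have hq3 := one_lt_q hf.odd
  have hi := hf.exp_ne_zero hq hn (hM ▸ (dvd_mul_of_dvd_left ((hq ▸ dvd_pow_self p hn : p ∣ c.q).trans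
    (dvd_pow_self _ two_ne_zero)) _)) hP hcard
  have hq2i : c.q ^ 2 ≤ p ^ i := by
    rw [hq, ← pow_mul, mul_comm n]; exact Nat.pow_le_pow_right hp.out.pos (hbound hi)
  have hN := hf.points_bound hq hn
  set r := (bor f).relIndex (nrm f) with hr
  set N := (nrm f).index with hNdef
  have hprod : N * r = c.q ^ 2 * (c.q ^ 3 + 1) := by
    rw [hr, hNdef, hf.index_mul hq hn, hM]
    obtain ⟨k, hk⟩ : ∃ k, c.q ^ 2 = c.q + k := ⟨c.q ^ 2 - c.q, by
      have := Nat.le_self_pow two_ne_zero c.q; omega⟩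
    rw [hk, Nat.add_sub_cancel_left, mul_left_comm]
    congr 1
    have : c.q ^ 3 = c.q * (c.q + k) := by rw [← hk]; ring
    rw [this]
    have h2 : c.q * c.q = c.q + k := by rw [← pow_two, hk]
    ring_nf
    nlinarith [h2]
  have hr2 : r = c.q ^ 2 := by
    refine le_antisymm ?_ (hq2i.trans hIr)
    refine Nat.le_of_mul_le_mul_left (?_ : (c.q ^ 3 + 1) * r ≤ (c.q ^ 3 + 1) * c.q ^ 2) (Nat.succ_pos _)
    rw [mul_comm (c.q ^ 3 + 1) (c.q ^ 2), ← hprod]
    exact Nat.mul_le_mul_right r hN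
  have hpi : p ^ i = c.q ^ 2 := le_antisymm (hr2 ▸ hIr) hq2i
  have hN' : N = c.q ^ 3 + 1 := Nat.eq_of_mul_eq_mul_right (Nat.pow_pos (by omega : 0 < c.q) : 0 < c.q ^ 2)
    (by rw [mul_comm (c.q ^ 3 + 1), ← hprod, hr2])
  have hcard3 : Nat.card P = c.q ^ 3 := by rw [hcard, hpi]; ring
  have hroot := hf.isPC_root_le hq hn hP
  have hodd : Odd (Nat.card P) := hcard3 ▸ hf.odd.pow
  have htn : tt f ∈ nrm f := bor_le_nrm f (tt_mem_bor f)
  -- the inverted elements and the involutions
  let ι : {y : G // y ∈ P ∧ tt f * y * tt f = y⁻¹} → {x : G // x ∈ nrm f ∧ x * x = 1 ∧ x ≠ 1} :=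
    fun y => ⟨y.1 * tt f, mul_mem (cx_le_nrm f (hP.le y.2.1)) htn,
      by rw [show y.1 * tt f * (y.1 * tt f) = y.1 * (tt f * y.1 * tt f) by group, y.2.2, mul_inv_cancel], fun e => by
        have h := Subgroup.orderOf_dvd_natCard P y.2.1
        rw [eq_inv_of_mul_eq_one_left e, inv_eq_of_mul_eq_one_right hf.tt_sq,
          orderOf_eq_prime (by rw [pow_two, hf.tt_sq]) hf.tt_ne] at h
        exact Nat.not_even_iff_odd.mpr hodd (even_iff_two_dvd.mpr h)⟩
  haveI := Fintype.ofFinite {y : G // y ∈ P ∧ tt f * y * tt f = y⁻¹}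
  haveI := Fintype.ofFinite {x : G // x ∈ nrm f ∧ x * x = 1 ∧ x ≠ 1}
  have hι : Function.Bijective ι := (Fintype.bijective_iff_injective_and_card ι).mpr
    ⟨fun y z h => Subtype.ext (mul_right_cancel (congrArg Subtype.val h :)), by
      rw [← Nat.card_eq_fintype_card, ← Nat.card_eq_fintype_card, hI, hf.card_inv_nrm hq hn, hpi, ← hr, hr2]⟩
  have hinv : ∀ u ∈ nrm f, u * u = 1 → u ≠ 1 → u * tt f ∈ P ∧ tt f * (u * tt f) * tt f = (u * tt f)⁻¹ := by
    intro u hu huu hu1
    obtain ⟨⟨y, hy, hy'⟩, h⟩ := hι.2 ⟨u, hu, huu, hu1⟩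
    have e : y * tt f = u := congrArg Subtype.val h
    rw [← e, mul_assoc, hf.tt_sq, mul_one]
    exact ⟨hy, hy'⟩
  have hfix : P ⊓ Subgroup.centralizer ({tt f} : Set G) = root f := by
    have hle : root f ≤ P ⊓ Subgroup.centralizer ({tt f} : Set G) := le_inf hroot fun x hx =>
      Subgroup.mem_centralizer_singleton_iff.mpr (bor_comm (root_le_bor f hx) hf)
    refine (Subgroup.eq_of_le_of_card_ge hle (le_of_eq ?_)).symm
    have h := CfsgLib.InvTimesAlt.card_fixed_mul_inverted P hodd hf.tt_sq htP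
    rw [hI, hcard] at h
    rw [hf.card_root]
    exact Nat.eq_of_mul_eq_mul_right (pow_pos hp.out.pos i) h
  -- a conjugate normalised by `tt` is `P`
  have huniq : ∀ g : G, g ∈ nrm f → g * tt f = tt f * g → ∀ x ∈ P, g * x * g⁻¹ ∈ P := by
    intro g hg hgt
    set Q := P.map (MulAut.conj g).toMonoidHom with hQ
    have hQle : Q ≤ nrm f := (isPC_conj hP hg).le.trans (cx_le_nrm f)
    have hQt : ∀ x ∈ Q, tt f * x * tt f ∈ Q := by
      rintro _ ⟨x, hx, rfl⟩
      refine ⟨tt f * x * tt f, htP x hx, ?_⟩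
      simp only [MulEquiv.toMonoidHom_eq_coe, MonoidHom.coe_coe, MulAut.conj_apply]
      have hc : Commute (tt f) g := hgt.symm
      calc g * (tt f * x * tt f) * g⁻¹ = g * tt f * x * (tt f * g⁻¹) := by group
        _ = tt f * g * x * (g⁻¹ * tt f) := by rw [hc.inv_right.eq, hgt]
        _ = _ := by group
    have hrootQ := hf.isPC_root_le hq hn (isPC_conj hP hg)
    have hQodd : Odd (Nat.card Q) := by
      rw [hQ, Subgroup.card_map_of_injective (MulEquiv.injective _)]; exact hodd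
    -- `Q` consists of products of fixed and inverted elements, all in `P`
    have hinvQ : ∀ y ∈ Q, tt f * y * tt f = y⁻¹ → y ∈ P := fun y hy hy' => by
      have hyu : y * tt f * (y * tt f) = 1 := by
        rw [show y * tt f * (y * tt f) = y * (tt f * y * tt f) by group, hy', mul_inv_cancel]
      by_cases hy1 : y * tt f = 1
      · have h := Subgroup.orderOf_dvd_natCard Q hy
        rw [eq_inv_of_mul_eq_one_left hy1, inv_eq_of_mul_eq_one_right hf.tt_sq,
          orderOf_eq_prime (by rw [pow_two, hf.tt_sq]) hf.tt_ne] at h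
        exact absurd (even_iff_two_dvd.mpr h) (Nat.not_even_iff_odd.mpr hQodd)
      · have h := (hinv _ (mul_mem (hQle hy) htn) hyu hy1).1
        rwa [mul_assoc, hf.tt_sq, mul_one] at h
    have hle : Q ≤ P := by
      intro x hx
      obtain ⟨k, hk⟩ := hQodd
      set u := x * (tt f * x⁻¹ * tt f) with hu
      have hti : (tt f)⁻¹ = tt f := inv_eq_of_mul_eq_one_right hf.tt_sq
      have hu' : u ∈ Q := mul_mem hx (hQt _ (inv_mem hx))
      have hθ : ∀ a b : G, tt f * (a * b) * tt f = tt f * a * tt f * (tt f * b * tt f) := fun a b => by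
        calc tt f * (a * b) * tt f = tt f * a * (tt f * tt f) * b * tt f := by rw [hf.tt_sq]; group
          _ = _ := by group
      have hui : tt f * u * tt f = u⁻¹ := by
        rw [hu, _root_.mul_inv_rev, _root_.mul_inv_rev, _root_.mul_inv_rev, inv_inv, hti, hθ,
          show tt f * (tt f * x⁻¹ * tt f) * tt f = (tt f * tt f) * x⁻¹ * (tt f * tt f) by group, hf.tt_sq]
        group
      set y := u ^ (k + 1) with hy
      have hy2 : y * y = u := by
        have h1 : u ^ Nat.card Q = 1 := congrArg Subtype.val (pow_card_eq_one' (x := (⟨u, hu'⟩ : Q)))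
        rw [hy, ← pow_add, show k + 1 + (k + 1) = Nat.card Q + 1 by omega, pow_succ, h1, one_mul]
      have hyi : tt f * y * tt f = y⁻¹ := by
        rw [hy, ← inv_pow, ← hui]
        have e := conj_pow (a := tt f) (b := u) (i := k + 1)
        rw [hti] at e
        exact e.symm
      have hfixed : y⁻¹ * x ∈ root f := by
        rw [← hfix]
        have hyx : y⁻¹ * x ∈ P.map (MulAut.conj g).toMonoidHom := mul_mem (inv_mem (pow_mem hu' _)) hx
        have hxt : tt f * (y⁻¹ * x) * tt f = y⁻¹ * x := by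
          have hxu : tt f * x * tt f = u⁻¹ * x := by
            rw [hu, _root_.mul_inv_rev, _root_.mul_inv_rev, _root_.mul_inv_rev, inv_inv, hti]; group
          rw [hθ, hxu, ← hy2, _root_.mul_inv_rev, show tt f * y⁻¹ * tt f = (tt f * y * tt f)⁻¹ by
            rw [_root_.mul_inv_rev, _root_.mul_inv_rev, hti]; group, hyi]
          group
        have hct : y⁻¹ * x * tt f = tt f * (y⁻¹ * x) :=
          calc y⁻¹ * x * tt f = tt f * tt f * (y⁻¹ * x) * tt f := by rw [hf.tt_sq, one_mul]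
            _ = tt f * (tt f * (y⁻¹ * x) * tt f) := by group
            _ = _ := by rw [hxt]
        obtain ⟨m, hm, em⟩ := (hf.mem_bor_iff hq hn).mpr ⟨hQle hyx, hct⟩
        obtain ⟨a, b, rfl⟩ := tri hm
        refine ⟨?_, Subgroup.mem_centralizer_singleton_iff.mpr hct⟩
        have ha : f (dg a) ∈ Q := by
          have := mul_mem hyx (inv_mem (hrootQ (mem_root.mpr ⟨b, rfl⟩)))
          rwa [← em, map_mul, mul_inv_cancel_right] at this
        obtain ⟨j, hj⟩ := IsPGroup.iff_orderOf.mp (hP.isp.map (MulAut.conj g).toMonoidHom) ⟨_, ha⟩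
        rw [← Subgroup.orderOf_coe] at hj
        have h1 : orderOf (f (dg a)) = 1 := Nat.eq_one_of_dvd_coprimes
          (((hp.out.coprime_iff_not_dvd).mpr fun h => hf.not_dvd_sq_sub hq hn (hf.card_tor ▸ h.mul_right _)).pow_left j)
          (dvd_of_eq hj) (Subgroup.orderOf_dvd_natCard _ (⟨a, rfl⟩ : f (dg a) ∈ tor f))
        rw [← em, map_mul, orderOf_eq_one_iff.mp h1, one_mul]
        exact hroot (mem_root.mpr ⟨b, rfl⟩)
      rw [show x = y * (y⁻¹ * x) by rw [mul_inv_cancel_left]]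
      exact mul_mem (hinvQ y (pow_mem hu' _) hyi) (hroot hfixed)
    exact fun x hx => hle ⟨x, hx, rfl⟩
  have hbn : bor f ≤ Subgroup.normalizer (P : Set G) := fun b hb =>
    CfsgLib.A8ThreeLocal.Loc.normalises_of (huniq b (bor_le_nrm f hb) (bor_comm hb hf))
  have hcn : Nat.card (nrm f) = c.q ^ 2 * Nat.card (bor f) := by rw [hf.card_nrm, ← hr, hr2]
  have hsup : P ⊔ bor f = nrm f := by
    refine Subgroup.eq_of_le_of_card_ge (sup_le (hP.le.trans (cx_le_nrm f)) (bor_le_nrm f)) ?_
    have hPB : P ⊓ bor f = root f := le_antisymm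
      (fun x hx => hfix ▸ ⟨hx.1, Subgroup.mem_centralizer_singleton_iff.mpr (bor_comm hx.2 hf)⟩)
      (le_inf hroot (root_le_bor f))
    have h := CfsgLib.CentrallyLarge.card_sup_mul_card_inf (H := P) (K := bor f) hbn
    rw [hPB, hf.card_root, hcard3] at h
    rw [hcn]
    exact Nat.le_of_mul_le_mul_right (le_of_eq (h.trans (by ring)).symm) (by omega : 0 < c.q)
  refine ⟨P, ⟨hf, hq, hn, hN', hcard3, hP.le, hroot, hfix, ?_, ?_, fun u hu huu hu1 => (hinv u hu huu hu1).1⟩⟩
  · intro g hg x hx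
    have : g ∈ Subgroup.normalizer (P : Set G) := by
      rw [← hsup] at hg
      exact sup_le Subgroup.le_normalizer hbn hg
    exact (Subgroup.mem_normalizer_iff.mp this x).mp hx
  · intro g hg
    rw [← hsup] at hg
    obtain ⟨x, hx, b, hb, e⟩ := CfsgLib.mem_sup_of_le_normalizer hbn hg
    exact ⟨x, hx, b, hb, e.symm⟩

end Hyp

end CfsgLib.U3Cent
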