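import Cfsg.Agent.Lib.U3Cent.Count

/-!
The Sylow 2-subgroup of the involution centraliser is one of the group, and there is one class of involutions.
-/

set_option autoImplicit false
set_option linter.unusedSectionVars false

namespace CfsgLib.U3Cent

open CfsgLib.PSUBorel

variable {G : Type*} [Group G] {F : Type*} [Field F] [Fintype F] {c : Conj F}

namespace Hyp

variable {f : W c →* G} (hf : Hyp c f)
include hf

theorem two_inj {P : Subgroup (W c)} (hP : IsPGroup 2 P) : Function.Injective (f.subgroupMap P) := by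
  refine (injective_iff_map_eq_one _).mpr fun x hx => ?_
  have hx' : (x : W c) ∈ f.ker := f.mem_ker.mpr (congrArg Subtype.val hx)
  obtain ⟨k, hk⟩ := IsPGroup.iff_orderOf.mp hP x
  have h1 : orderOf (x : W c) ∣ Nat.card f.ker := Subgroup.orderOf_dvd_natCard _ hx'
  rw [Subgroup.orderOf_coe, hk] at h1
  refine orderOf_eq_one_iff.mp (hk.trans ?_)
  exact Nat.eq_one_of_dvd_coprimes ((Nat.coprime_two_left.mpr hf.kero).pow_left k) dvd_rfl h1

variable [Finite G] [IsSimpleGroup G]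

/-- A Sylow subgroup of `W c` gives one of the group. -/
theorem sylow_two (P : Sylow 2 (W c)) : ∃ S : Sylow 2 G, (S : Subgroup G) = (P : Subgroup (W c)).map f := by
  haveI : Fact (Nat.Prime 2) := ⟨Nat.prime_two⟩
  obtain ⟨Q, hQ⟩ := (P.2.map f : IsPGroup 2 ((P : Subgroup (W c)).map f)).exists_le_sylow
  refine ⟨Q, (Subgroup.eq_of_le_of_card_ge hQ ?_).symm⟩
  have htt : tt f ∈ (Q : Subgroup G) := by
    refine hQ ⟨neg, ?_, rfl⟩
    obtain ⟨R, hR⟩ := (IsPGroup.of_card (n := 1) (by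
      rw [Nat.card_zpowers, pow_one, orderOf_eq_prime (by rw [pow_two]; exact neg_sq) (neg_ne hf.odd)]) :
      IsPGroup 2 (Subgroup.zpowers (neg : W c))).exists_le_sylow
    obtain ⟨g, rfl⟩ := MulAction.exists_smul_eq (W c) R P
    refine ⟨neg, hR (Subgroup.mem_zpowers _), ?_⟩
    show g * neg * g⁻¹ = _
    rw [← (neg_scal (c := c)).comm g, mul_inv_cancel_right]
  haveI : Nontrivial (Q : Subgroup G) := ⟨⟨⟨_, htt⟩, 1, fun e => hf.tt_ne (congrArg Subtype.val e)⟩⟩
  haveI := Q.2.center_nontrivial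
  obtain ⟨z, hz⟩ := exists_prime_orderOf_dvd_card' (G := Subgroup.center (Q : Subgroup G)) 2 (by
    obtain ⟨e, he⟩ := IsPGroup.iff_card.mp (Q.2.to_subgroup (Subgroup.center (Q : Subgroup G)))
    rw [he]
    refine dvd_pow_self 2 fun e0 => ?_
    rw [e0, pow_zero] at he
    exact not_subsingleton _ ((Nat.card_eq_one_iff_unique.mp he).1))
  set z' : G := ((z : (Q : Subgroup G)) : G)
  have hzc : ∀ s ∈ (Q : Subgroup G), s * z' = z' * s := fun s hs =>
    congrArg Subtype.val (Subgroup.mem_center_iff.mp z.2 ⟨s, hs⟩)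
  have hzz : z' * z' = 1 := by
    have := pow_orderOf_eq_one z
    rw [hz, pow_two] at this
    exact congrArg (fun y : Subgroup.center (Q : Subgroup G) => ((y : (Q : Subgroup G)) : G)) this
  have hz1 : z' ≠ 1 := fun e => by
    rw [show z = 1 from Subtype.ext (Subtype.ext e), orderOf_one] at hz
    omega
  obtain ⟨g, hg⟩ : ∃ g, g * z' * g⁻¹ = tt f := by
    rcases hf.inv_cases (hzc _ htt).symm hzz with h | h | ⟨a, ha, h⟩
    · exact absurd h hz1
    · exact ⟨1, by rw [h]; group⟩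
    · obtain ⟨m, hm⟩ := hf.refl_conj_uu ha
      obtain ⟨k, hk⟩ := hf.conj_uu
      exact ⟨k * f m, by rw [h, ← hk, ← hm]; group⟩
  have hle : (Q : Subgroup G).map (MulAut.conj g).toMonoidHom ≤ f.range := by
    rintro _ ⟨s, hs, rfl⟩
    rw [hf.range, Subgroup.mem_centralizer_singleton_iff, ← hg]
    simp only [MulEquiv.toMonoidHom_eq_coe, MonoidHom.coe_coe, MulAut.conj_apply]
    calc g * s * g⁻¹ * (g * z' * g⁻¹) = g * (s * z') * g⁻¹ := by group
      _ = g * (z' * s) * g⁻¹ := by rw [hzc s hs]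
      _ = _ := by group
  have hd := Subgroup.card_dvd_of_le hle
  rw [Subgroup.card_map_of_injective (MulEquiv.injective _)] at hd
  have hd2 : Nat.card (Q : Subgroup G) ∣ Nat.card (W c) := by
    rw [← f.ker.card_mul_index, Subgroup.index_ker]
    exact hd.mul_left _
  obtain ⟨k, hk⟩ := IsPGroup.iff_card.mp Q.2
  rw [hk, ← Nat.card_congr (Equiv.ofBijective _ ⟨hf.two_inj P.2, f.subgroupMap_surjective _⟩),
    P.card_eq_multiplicity]
  rw [hk] at hd2
  exact Nat.pow_le_pow_right two_pos ((Nat.prime_two.pow_dvd_iff_le_factorization Nat.card_pos.ne').mp hd2)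

/-- All involutions are conjugate. -/
theorem conj_tt {x : G} (hx : x * x = 1) (hx1 : x ≠ 1) : ∃ g, g * x * g⁻¹ = tt f := by
  haveI : Fact (Nat.Prime 2) := ⟨Nat.prime_two⟩
  obtain ⟨P⟩ : Nonempty (Sylow 2 (W c)) := inferInstance
  obtain ⟨S, hS⟩ := hf.sylow_two P
  obtain ⟨R, hR⟩ := (IsPGroup.of_card (n := 1) (by
    rw [Nat.card_zpowers, pow_one, orderOf_eq_prime (by rw [pow_two, hx]) hx1]) :
    IsPGroup 2 (Subgroup.zpowers x)).exists_le_sylow
  obtain ⟨g, hg⟩ := MulAction.exists_smul_eq G R S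
  have hm : g * x * g⁻¹ ∈ (S : Subgroup G) := by
    rw [← hg]; exact ⟨x, hR (Subgroup.mem_zpowers x), rfl⟩
  rw [hS] at hm
  obtain ⟨m, -, hm'⟩ := hm
  have hxx : g * x * g⁻¹ * (g * x * g⁻¹) = 1 := by
    rw [show g * x * g⁻¹ * (g * x * g⁻¹) = g * (x * x) * g⁻¹ by group, hx]; group
  rcases hf.inv_cases (hf.mem_cent.mpr ⟨m, hm'⟩) hxx with h | h | ⟨a, ha, h⟩
  · exact absurd (conj_eq_one_iff.mp h) hx1
  · exact ⟨g, h⟩
  · obtain ⟨m', hm''⟩ := hf.refl_conj_uu ha
    obtain ⟨k, hk⟩ := hf.conj_uu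
    exact ⟨k * f m' * g, by rw [← hk, ← hm'', ← h]; group⟩

end Hyp

end CfsgLib.U3Cent
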