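import Cfsg.Agent.Lib.U3Cent.Products

/-!
# Two points on the fixed line of one involution

The slopes of the two triples formed with the base point are inverse, and their classes agree.
-/

set_option autoImplicit false
set_option linter.unusedSectionVars false
set_option linter.style.haveILetI false

namespace CfsgLib.U3Cent

open CfsgLib.PSUBorel

universe u v

variable {G : Type u} [Group G] [Finite G] [IsSimpleGroup G] {F : Type v} [Field F] [Fintype F] {c : Conj F}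
variable {p n : ℕ} [hp : Fact p.Prime]

namespace Rad

variable {f : W c →* G} {R : Subgroup G} (hR : Rad p n f R) {π : G → F} {χ : Fˣ →* Fˣ} (hP : Proj f R π χ)
include hR

/-- The image of `y` under a reflection whose centre is not fixed by `σ`. -/
theorem refl_by0 {a : F} (ha : a + c.σ a ≠ 0) (hd : a - c.σ a ≠ 0) :
    ∃ η : X0 c, (η : F) = -2 * (a * c.σ a) / (a - c.σ a) ∧ f (refl a) • by0 f = f (up η) • by0 f := by
  obtain ⟨e0, e1, e2, e3⟩ := refl_ent ha
  have h10 : ent (refl (c := c) a * ww) 1 0 ≠ 0 := by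
    rw [ent_mul, ww_00, ww_10, mul_zero, zero_add, mul_one, e3]
    exact div_ne_zero hd ha
  obtain ⟨η, b, z, hη, hg⟩ := bruhat h10
  refine ⟨η, ?_, ?_⟩
  · rw [hη, ent_mul, ent_mul, ww_00, ww_10, mul_zero, zero_add, mul_one, mul_zero, zero_add, mul_one, e1, e3,
      div_div_div_cancel_right₀ ha]
  · have h := congrArg (fun m => f m • bx f) hg
    simp only [_root_.map_mul, mul_smul, ww_bx, smul_bx.mpr (bor_le_nrm f (up_mem_bor f z)),
      hR.tor_by0 (mem_tor.mpr ⟨b, rfl⟩)] at h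
    exact h

include hP

theorem ss_split {r : G} (hr : r ∈ R) {x : X0 c} {b : F} (hb : b ≠ 0) (e : r = f (up x) * qy f R π b) :
    ss f r = (x : F) / qg f R π b ∧ π r = b ∧ r ∉ root f := by
  have h1 := (hR.qy_spec hP b).1
  have hπ : π r = b := by rw [e, hR.pi_root_mul hP h1, (hR.qy_spec hP b).2.2]
  refine ⟨?_, hπ, fun hx => hb (by rw [← hπ]; exact (hP.eq_zero r hr).mpr hx)⟩
  rw [ss, e, hR.ac_up_mul h1, map_add, sig_X0, ← qg, hR.qg_fixed hP,
    show qg f R π b + ↑x - (qg f R π b + -↑x) = 2 * (x : F) by ring,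
    show qg f R π b + ↑x + (qg f R π b + -↑x) = 2 * qg f R π b by ring,
    mul_div_mul_left _ _ hR.hyp.two_ne']

theorem ss_inv {r : G} (hr : r ∈ R) : ss f r⁻¹ = -ss f r := by
  obtain ⟨y, hy, x, hy', e, -⟩ := hR.exists_split hP hr
  have h := hR.ss_add_inv hP hy hy' x e
  have hsy : ss f y = 0 := by rw [ss, hR.ac_fixed hP hy hy', sub_self, zero_div]
  rw [hsy] at h
  linear_combination h

/-- Inverting the slope by moving `y` along the fixed line of `tt`. -/
theorem one_over {r : G} (hr : r ∈ R) (hx : r ∉ root f) (hs : ss f r ≠ 0) :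
    ∃ η : X0 c, f (refl (ac f r)) • by0 f = f (up η) • by0 f ∧ f (up (-η)) * r ∈ R ∧ f (up (-η)) * r ∉ root f ∧
      cl χ (π (f (up (-η)) * r)) = cl χ (π r) ∧ ss f (f (up (-η)) * r) = 1 / ss f r ∧
      cl χ (π (jr f R (f (up (-η)) * r))) = cl χ (π (jr f R r)) := by
  have hf := hR.hyp
  have ha := hR.tr_ne hr hx
  have hfix : f (refl (ac f r)) • r • by0 f = r • by0 f := by
    rcases hR.ac_spec hr with ⟨x, -, e⟩ | ⟨-, h⟩
    · exact absurd (e ▸ mem_root.mpr ⟨x, rfl⟩) hx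
    · exact h
  have hd : ac f r - c.σ (ac f r) ≠ 0 := fun e => hs (by rw [ss, e, zero_div])
  obtain ⟨η, hη, hv⟩ := hR.refl_by0 ha hd
  have hxR : f (up (-η)) ∈ root f := mem_root.mpr ⟨-η, rfl⟩
  have hw : f (up (-η)) * r ∈ R := mul_mem (hR.root_le hxR) hr
  have hwx : f (up (-η)) * r ∉ root f := fun h => hx (by
    have := mul_mem (inv_mem hxR) h; rwa [inv_mul_cancel_left] at this)
  refine ⟨η, hv, hw, hwx, by rw [hR.pi_root_mul hP hr], ?_, ?_⟩
  · have hσ : c.σ (ac f r) ≠ 0 := (map_ne_zero c.σ).mpr (hR.ac_ne_zero hr fun e => hx (e ▸ one_mem _))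
    rw [ss, ss, hR.ac_up_mul hr, map_add, sig_X0, AddSubgroup.coe_neg, hη, one_div_div]
    set a := ac f r
    set b := c.σ a
    rw [show a + -(-2 * (a * b) / (a - b)) = a * (a + b) / (a - b) by field_simp; ring,
      show b + - -(-2 * (a * b) / (a - b)) = -(b * (a + b) / (a - b)) by field_simp; ring,
      sub_neg_eq_add, ← sub_eq_add_neg, ← add_div, ← sub_div, div_div_div_cancel_right₀ hd, ← add_mul, ← sub_mul,
      mul_div_mul_right _ _ ha]
  · set w := f (up (-η)) * r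
    have hw1 : w ≠ 1 := fun e => hwx (e ▸ one_mem _)
    have hr1 : r ≠ 1 := fun e => hx (e ▸ one_mem _)
    obtain ⟨j1, -, j3, -⟩ := hR.jr_spec hw hw1
    obtain ⟨k1, -, k3, -⟩ := hR.jr_spec hr hr1
    have hb : f ww * f (up (-η)) * f (refl (ac f r)) * f ww ∈ bor f := by
      refine (hf.mem_bor_iff hR.hq hR.hn).mpr ⟨?_, ?_⟩
      · rw [← smul_bx, mul_smul, mul_smul, mul_smul, ww_bx, hv, smul_smul (f (up (-η))), ← _root_.map_mul,
          up_add, neg_add_cancel, up_zero, map_one, one_smul, ww_by0]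
      · rw [← _root_.map_mul, ← _root_.map_mul, ← _root_.map_mul]
        exact hf.tt_comm _
    have e : (f ww * f (up (-η)) * f (refl (ac f r)) * f ww) • jr f R r • by0 f = jr f R w • by0 f := by
      have hwwsq : f ww * f ww = 1 := by rw [← _root_.map_mul, ww_sq, map_one]
      rw [← k3, ← j3, mul_smul, smul_smul (f ww) (f ww), hwwsq, one_smul, mul_smul,
        hfix, mul_smul, mul_smul]
    rw [← hR.idx_smul j1, ← e, hR.cls_bor hP hb k1 (hR.jr_not_root hr hx)]

/-- The relation for two points on the fixed line of one involution. -/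
theorem qpair {b b' : F} (hb : b ≠ 0) (hg : qg f R π b = qg f R π b') (h1 : b' ≠ b) (h2 : b' ≠ -b) :
    qB f R π b b' ^ 2 = -(4 * qg f R π (b' - b) * qg f R π (b' + b)) ∧
      ∃ a : Fˣ, b' + b = (χ a : F) * (b' - b) := by
  have hf := hR.hyp
  have hsub : b' - b ≠ 0 := sub_ne_zero.mpr h1
  have hadd : b' + b ≠ 0 := fun e => h2 (eq_neg_of_add_eq_zero_left e)
  obtain ⟨hr, hr', hrb⟩ := hR.qy_spec hP b
  obtain ⟨hm, -, hmb⟩ := hR.qy_spec hP b'
  obtain ⟨hm', -, -⟩ := hR.qy_spec hP (-b')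
  set r := qy f R π b with hrd
  set z := r⁻¹ * qy f R π b' with hz
  set z' := r⁻¹ * qy f R π (-b') with hz'
  have hzR : z ∈ R := mul_mem (inv_mem hr) hm
  have hzR' : z' ∈ R := mul_mem (inv_mem hr) hm'
  obtain ⟨x, hx, ex⟩ := hR.qy_mul hP (-b) b'
  obtain ⟨x', hx', ex'⟩ := hR.qy_mul hP (-b) (-b')
  rw [hR.qy_neg hP b, ← hrd, ← hz, neg_add_eq_sub] at ex
  rw [hR.qy_neg hP b, ← hrd, ← hz'] at ex'
  obtain ⟨hs, hπ, hzx⟩ := hR.ss_split hP hzR hsub ex
  have hadd' : -b + -b' ≠ 0 := fun e => hadd (by linear_combination -e)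
  obtain ⟨hs', hπ', hzx'⟩ := hR.ss_split hP hzR' hadd' ex'
  have hz1 : z ≠ 1 := fun e => hzx (e ▸ one_mem _)
  have hz1' : z' ≠ 1 := fun e => hzx' (e ▸ one_mem _)
  obtain ⟨j1, -, j3, -⟩ := hR.jr_spec hzR hz1
  obtain ⟨j1', -, j3', -⟩ := hR.jr_spec hzR' hz1'
  have hjx := hR.jr_not_root hzR hzx
  have hjx' := hR.jr_not_root hzR' hzx'
  set r2 := (jr f R z)⁻¹ with hr2
  set r2' := (jr f R z')⁻¹ with hr2'
  have hr2R : r2 ∈ R := inv_mem j1
  have hr2R' : r2' ∈ R := inv_mem j1'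
  have hr2x : r2 ∉ root f := fun h => hjx (inv_mem_iff.mp h)
  have hr2x' : r2' ∉ root f := fun h => hjx' (inv_mem_iff.mp h)
  have hs2 : ss f r2 = ss f z := by rw [hr2, hR.ss_inv hP j1, hR.jr_ss hzR hzx, neg_neg]
  have hs2' : ss f r2' = ss f z' := by rw [hr2', hR.ss_inv hP j1', hR.jr_ss hzR' hzx', neg_neg]
  -- the two normalisations
  set M := r2 * f ww * r⁻¹ with hM
  set M' := r2' * f ww * r⁻¹ with hM'
  have hRN : ∀ {w}, w ∈ R → w • bx f = bx f := fun h => smul_bx.mpr (hR.R_le_nrm h)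
  have mA : M • r • by0 f = bx f := by rw [hM, mul_smul, inv_smul_smul, mul_smul, ww_by0, hRN hr2R]
  have mA' : M' • r • by0 f = bx f := by rw [hM', mul_smul, inv_smul_smul, mul_smul, ww_by0, hRN hr2R']
  have mX : M • bx f = r2 • by0 f := by rw [hM, mul_smul, hRN (inv_mem hr), mul_smul, ww_bx]
  have mX' : M' • bx f = r2' • by0 f := by rw [hM', mul_smul, hRN (inv_mem hr), mul_smul, ww_bx]
  have mB : M • qy f R π b' • by0 f = by0 f := by
    rw [hM, mul_smul, mul_smul, smul_smul r⁻¹, ← hz, j3, hr2, inv_smul_smul]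
  have mB' : M' • qy f R π (-b') • by0 f = by0 f := by
    rw [hM', mul_smul, mul_smul, smul_smul r⁻¹, ← hz', j3', hr2', inv_smul_smul]
  -- the common involution
  set g0 := qg f R π b with hg0
  have hgne : g0 ≠ 0 := hR.qg_ne hP hb
  have htr : g0 + c.σ g0 ≠ 0 := by
    rw [hR.qg_fixed hP, ← two_mul]; exact mul_ne_zero hf.two_ne' hgne
  have hvfix : ∀ d : F, d ≠ 0 → qg f R π d = g0 →
      f (refl g0) • qy f R π d • by0 f = qy f R π d • by0 f := by
    intro d hd hgd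
    obtain ⟨hd1, -, hd3⟩ := hR.qy_spec hP d
    rcases hR.ac_spec hd1 with ⟨y, -, e⟩ | ⟨-, h⟩
    · exact absurd (hd3.symm.trans ((hP.eq_zero _ hd1).mpr (e ▸ mem_root.mpr ⟨y, rfl⟩))) hd
    · rwa [← qg, hgd] at h
  have hb' : b' ≠ 0 := fun e => hgne (by rw [hg, e, hR.qg_zero hP])
  have hvA := hvfix b hb rfl
  have hvB := hvfix b' hb' hg.symm
  have hne : r • by0 f ≠ qy f R π b' • by0 f := fun e => h1 (by
    rw [← hrb, hR.smul_inj hr hm e, hmb])
  have hconj : M * f (refl g0) * M⁻¹ = tt f := by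
    refine hR.inv_unique (a := bx f) (b := by0 f) hR.by0_ne.symm ?_ ?_ hf.tt_sq hf.tt_ne ?_ ?_
      (smul_bx.mpr (bor_le_nrm f (tt_mem_bor f))) hR.tt_by0
    · rw [show M * f (refl g0) * M⁻¹ * (M * f (refl g0) * M⁻¹) = M * (f (refl g0) * f (refl g0)) * M⁻¹ by group,
        hf.refl_sq' htr]; group
    · exact fun e => hf.refl_ne htr (conj_eq_one_iff.mp e)
    · rw [mul_smul, mul_smul, inv_smul_eq_iff.mpr mA.symm, hvA, mA]
    · rw [mul_smul, mul_smul, inv_smul_eq_iff.mpr mB.symm, hvB, mB]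
  set u := M * tt f * M⁻¹ with hu
  have huu : u * u = 1 := by
    rw [hu, show M * tt f * M⁻¹ * (M * tt f * M⁻¹) = M * (tt f * tt f) * M⁻¹ by group, hf.tt_sq]; group
  have huc : u * tt f = tt f * u := by
    have h := ((show Commute (tt f) (f (refl g0)) from (hf.tt_comm _).symm).map (MulAut.conj M)).eq
    simp only [MulAut.conj_apply, hconj] at h
    exact h
  obtain ⟨a, ha, hua⟩ := ((hf.inv_cases huc huu).resolve_left
    fun e => hf.tt_ne (conj_eq_one_iff.mp (hu ▸ e))).resolve_left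
    fun e => hf.refl_ne_tt htr (conj_injective (hconj.trans e.symm))
  have huw : u • r2 • by0 f = r2 • by0 f := by
    rw [hu, mul_smul, mul_smul, ← mX, inv_smul_smul, smul_bx.mpr (bor_le_nrm f (tt_mem_bor f))]
  have hac : ac f r2 = a := hR.ac_eq (Or.inr ⟨ha, by rw [← hua]; exact huw⟩)
  have hcB : M • qy f R π (-b') • by0 f = f (refl a) • by0 f := by
    have e : tt f * qy f R π b' * tt f = qy f R π (-b') := by rw [hR.qy_neg hP, (hR.qy_spec hP b').2.1]
    have e2 : tt f • qy f R π b' • by0 f = qy f R π (-b') • by0 f := by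
      rw [← e, mul_smul, mul_smul, hR.tt_by0]
    have hMi : M⁻¹ • by0 f = qy f R π b' • by0 f := inv_smul_eq_iff.mpr mB.symm
    rw [← hua, hu, mul_smul (M * tt f), hMi, mul_smul M, e2]
  have hneB : r • by0 f ≠ qy f R π (-b') • by0 f := fun e => h2 (by
    have h' := congrArg π (hR.smul_inj hr hm' e)
    rw [hrb, (hR.qy_spec hP (-b')).2.2] at h'
    rw [h', neg_neg])
  have hd : a - c.σ a ≠ 0 := by
    intro e
    have h10 : ent (refl (c := c) a * ww) 1 0 = 0 := by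
      rw [ent_mul, ww_00, ww_10, mul_zero, zero_add, mul_one, (refl_ent ha).2.2.2, e, zero_div]
    have hbase : f (refl a * ww) • bx f = bx f :=
      smul_bx.mpr (bor_le_nrm f ⟨refl a * ww, h10, rfl⟩)
    rw [_root_.map_mul, mul_smul, ww_bx, ← hcB, ← mA] at hbase
    exact hneB (smul_left_cancel M hbase).symm
  have hssne : ss f r2 ≠ 0 := by rw [ss, hac]; exact div_ne_zero hd ha
  obtain ⟨η, hη, hw, hwx, hwc, hws, -⟩ := hR.one_over hP hr2R hr2x hssne
  rw [hac] at hη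
  set w := f (up (-η)) * r2 with hwdef
  set τ := f (up (-η)) * M * M'⁻¹ with hτ
  have hb0 : f (up (-η)) • bx f = bx f := smul_bx.mpr (bor_le_nrm f (up_mem_bor f _))
  have t1 : τ • bx f = bx f := by rw [hτ, mul_smul, inv_smul_eq_iff.mpr mA'.symm, mul_smul, mA, hb0]
  have t2 : τ • by0 f = by0 f := by
    rw [hτ, mul_smul, inv_smul_eq_iff.mpr mB'.symm, mul_smul, hcB, hη, smul_smul, ← _root_.map_mul, up_add,
      neg_add_cancel, up_zero, map_one, one_smul]
  have t3 : τ • r2' • by0 f = w • by0 f := by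
    rw [hτ, mul_smul, inv_smul_eq_iff.mpr mX'.symm, mul_smul, mX, smul_smul]
  obtain ⟨e, he⟩ := mem_tor.mp (hR.two_point t1 t2)
  have hwe : w = f (dg e) * r2' * (f (dg e))⁻¹ := by
    refine hR.smul_inj hw (hR.normal _ (bor_le_nrm f (tor_le_bor f (mem_tor.mpr ⟨e, rfl⟩))) _ hr2R') ?_
    rw [← t3, ← he, mul_smul, hR.tor_by0 (inv_mem (mem_tor.mpr ⟨e, rfl⟩)), mul_smul]
  have hN : (e : F) * c.σ (e : F) ≠ 0 := mul_ne_zero e.ne_zero ((map_ne_zero c.σ).mpr e.ne_zero)
  have hwss : ss f w = ss f r2' := by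
    rw [hwe, ss, ss, hR.ac_tor hr2R', map_mul, map_mul, c.invol, mul_comm (c.σ (e : F)), ← mul_sub, ← mul_add,
      mul_div_mul_left _ _ hN]
  have hwcl : cl χ (π w) = cl χ (π r2') := by
    rw [hwe, hP.equiv e _ hr2R', cl_mul χ e (hR.pi_ne hP hr2R' hr2x')]
  have hinv : ss f z' = 1 / ss f z := by rw [← hs2', ← hwss, hws, hs2]
  have hzne : ss f z ≠ 0 := hs2 ▸ hssne
  refine ⟨?_, ?_⟩
  · have hprod : ss f z * ss f z' = 1 := by rw [hinv, mul_one_div_cancel hzne]
    have hgneg : qg f R π (-b + -b') = qg f R π (b' + b) := by rw [← neg_add, hR.qg_neg hP, add_comm]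
    rw [hs, hs', hgneg] at hprod
    have hg1 := hR.qg_ne hP hsub
    have hg2 := hR.qg_ne hP hadd
    have hB1 : qB f R π b b' = -(2 * (x : F)) := by rw [hx, hR.qB_neg_left hP, neg_neg]
    have hB2 : qB f R π b b' = 2 * (x' : F) := by
      rw [hx', hR.qB_neg_left hP, hR.qB_swap hP (-b') b, hR.qB_neg_left hP, hR.qB_swap hP b b']; ring
    rw [pow_two]
    nth_rw 1 [hB1]
    rw [hB2]
    field_simp at hprod
    linear_combination -4 * hprod
  · have hvv : f (up (-η)) * r2 = w := hwdef.symm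
    have hiz : jr f R r2⁻¹ = z := by rw [hr2, inv_inv, hR.jr_jr hzR hz1]
    have hiz' : jr f R r2'⁻¹ = z' := by rw [hr2', inv_inv, hR.jr_jr hzR' hz1']
    have hri : r2⁻¹ ∉ root f := fun h => hr2x (inv_mem_iff.mp h)
    have hri' : r2'⁻¹ ∉ root f := fun h => hr2x' (inv_mem_iff.mp h)
    have hsi : ss f r2⁻¹ ≠ 0 := by rw [hR.ss_inv hP hr2R]; exact neg_ne_zero.mpr hssne
    obtain ⟨η', -, hv1, hv2, hv3, hv4, hv5⟩ := hR.one_over hP (inv_mem hr2R) hri hsi
    have hclass : cl χ (π z') = cl χ (π z) := by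
      rw [← hiz, ← hiz', ← hv5]
      refine hR.jr_cl_congr hP (inv_mem hr2R') hv1 hri' hv2 ?_ ?_
      · rw [hv3, hR.cl_inv hP hr2R' hr2x', hR.cl_inv hP hr2R hr2x, ← hwcl, hwc]
      · rw [hv4, hR.ss_inv hP hr2R', hR.ss_inv hP hr2R, hs2', hs2, hinv, one_div_neg_eq_neg_one_div]
    rw [hπ, hπ'] at hclass
    have hc : cl χ (b' + b) = cl χ (b' - b) := by
      rw [← hclass, show -b + -b' = (χ (-1) : F) * (b' + b) by rw [hP.neg_one]; push_cast; ring, cl_mul χ _ hadd]
    exact exists_of_cl hsub hadd hc.symm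

end Rad

end CfsgLib.U3Cent
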