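import Cfsg.Agent.Lib.U3Cent.Inverted

/-!
# The fixed points of the involutions commuting with `tt`

They are disjoint, so there are at least `q ^ 3 + 1` points.
-/

set_option autoImplicit false
set_option linter.unusedSectionVars false
set_option linter.style.haveILetI false

namespace CfsgLib.U3Cent

open CfsgLib.PSUBorel

universe u v

variable {G : Type u} [Group G] [Finite G] [IsSimpleGroup G] {F : Type v} [Field F] [Fintype F] {c : Conj F}

theorem card_trace_ne (c : Conj F) : Nat.card {a : F // a + c.σ a ≠ 0} = c.q ^ 2 - c.q := by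
  classical
  have h : Fintype.card {a : F // a + c.σ a = 0} = c.q := by
    rw [← card_X0 (c := c), Nat.card_eq_fintype_card]
    exact Fintype.card_congr (Equiv.subtypeEquivRight fun a => mem_X0.symm)
  rw [Nat.card_eq_fintype_card, Fintype.card_subtype_compl, c.card, h]

namespace Hyp

variable {f : W c →* G} (hf : Hyp c f) {p n : ℕ} [hp : Fact p.Prime] (hq : c.q = p ^ n) (hn : n ≠ 0)
include hf hq hn

/-- An involution centralising the root group and commuting with a reflection is central. -/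
theorem eq_tt_of_cx {x : G} (hx : x ∈ cx f) (hxx : x * x = 1) (hx1 : x ≠ 1) {a : F} (ha : a + c.σ a ≠ 0)
    (hc : x * f (refl a) = f (refl a) * x) : x = tt f := by
  have hK : neg ∈ (Subgroup.centralizer ({x} : Set G)).comap f := by
    refine neg_mem_of_two hf.odd
      (fun b => Subgroup.mem_centralizer_singleton_iff.mpr (mem_cx.mp hx b).symm) (g := refl a) ?_ fun b => ?_
    · rw [(refl_ent ha).2.2.1]; exact div_ne_zero (neg_ne_zero.mpr hf.two_ne') ha
    · refine Subgroup.mem_centralizer_singleton_iff.mpr ?_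
      rw [map_mul, map_mul, map_inv]
      have hr : Commute x (f (refl a)) := hc
      exact (((show Commute x (f (refl a)) from hc).mul_right (mem_cx.mp hx b)).mul_right hr.inv_right).symm
  have hct : x * tt f = tt f * x := (Subgroup.mem_centralizer_singleton_iff.mp hK).symm
  rcases hf.inv_cases hct hxx with e | e | ⟨b, hb, e⟩
  · exact absurd e hx1
  · exact e
  · obtain ⟨b0, hb0, hσ⟩ := c.exists_antifixed
    set y : X0 c := ⟨b0, by rw [mem_X0, hσ, add_neg_cancel]⟩
    refine absurd ?_ (hf.refl_not_root hq hn hb (x := y) (y := y) fun h => hb0 (congrArg Subtype.val h))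
    rw [← e, mem_cx.mp hx y, mul_inv_cancel_right]

/-- Two involutions fixing the base point and commuting with a third one are equal. -/
theorem fix_unique {u v w : G} (hu : u ∈ nrm f) (hv : v ∈ nrm f) (huu : u * u = 1) (hvv : v * v = 1)
    (hu1 : u ≠ 1) (hv1 : v ≠ 1) (hww : w * w = 1) (hw1 : w ≠ 1) (hwu : w ≠ u) (huw : u * w = w * u)
    (hvw : v * w = w * v) : u = v := by
  obtain ⟨k, hk, e⟩ := hf.nrm_conj hq hn le_rfl (bor_le_nrm f (tt_mem_bor f)) hu huu hu1
  have hconj : ∀ z : G, z * z = 1 → k * z * k⁻¹ * (k * z * k⁻¹) = 1 := fun z hz => by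
    rw [show k * z * k⁻¹ * (k * z * k⁻¹) = k * (z * z) * k⁻¹ by group, hz]; group
  have hcomm : ∀ z z' : G, z * z' = z' * z → k * z * k⁻¹ * (k * z' * k⁻¹) = k * z' * k⁻¹ * (k * z * k⁻¹) :=
    fun z z' h => (Commute.map (show Commute z z' from h) (MulAut.conj k)).eq
  have hwt := hcomm w u huw.symm
  rw [e] at hwt
  rcases hf.inv_cases hwt (hconj w hww) with h | h | ⟨a, ha, h⟩
  · exact absurd (conj_eq_one_iff.mp h) hw1
  · exact absurd (conj_injective (h.trans e.symm)) hwu
  · have hvN : k * v * k⁻¹ ∈ nrm f := mul_mem (mul_mem hk hv) (inv_mem hk)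
    have := hf.eq_tt_of_cx hq hn (hf.inv_mem_cx hq hn hvN (hconj v hvv)) (hconj v hvv)
      (fun h' => hv1 (conj_eq_one_iff.mp h')) ha (h ▸ hcomm v w hvw)
    exact conj_injective (e.trans this.symm)

/-- There are at least `q ^ 3 + 1` points. -/
theorem points_bound : c.q ^ 3 + 1 ≤ (nrm f).index := by
  classical
  let T := Option {a : F // a + c.σ a ≠ 0}
  let inv : T → G := fun i => i.elim (tt f) fun a => f (refl a.1)
  have hinv : ∀ i, inv i * inv i = 1 ∧ inv i ≠ 1 ∧ inv i * tt f = tt f * inv i := by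
    rintro (_ | ⟨a, ha⟩)
    · exact ⟨hf.tt_sq, hf.tt_ne, rfl⟩
    · exact ⟨hf.refl_sq' ha, hf.refl_ne ha, hf.tt_comm _⟩
  have hinj : ∀ i j, inv i = inv j → i = j := by
    rintro (_ | ⟨a, ha⟩) (_ | ⟨b, hb⟩) h
    · rfl
    · exact absurd h.symm (hf.refl_ne_tt hb)
    · exact absurd h (hf.refl_ne_tt ha)
    · exact congrArg some (Subtype.ext (hf.refl_inj' ha hb h))
  choose g hg using fun i => hf.conj_tt (hinv i).1 (hinv i).2.1
  set C := Subgroup.centralizer ({tt f} : Set G)
  let φ : T × (C ⧸ (bor f).subgroupOf C) → G ⧸ nrm f := fun z =>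
    QuotientGroup.mk ((g z.1)⁻¹ * (z.2.out : C))
  have hφ : Function.Injective φ := by
    rintro ⟨i, x⟩ ⟨j, y⟩ h
    set k := (g i)⁻¹ * (x.out : C) with hk
    set m := k⁻¹ * ((g j)⁻¹ * (y.out : C)) with hm
    have hmN : m ∈ nrm f := QuotientGroup.eq.mp h
    have hcC : ∀ z : C, (z : G) * tt f * (z : G)⁻¹ = tt f := fun z =>
      mul_inv_eq_iff_eq_mul.mpr (Subgroup.mem_centralizer_singleton_iff.mp z.2)
    have hi : inv i = k * tt f * k⁻¹ := by
      rw [show k * tt f * k⁻¹ = (g i)⁻¹ * ((x.out : C) * tt f * ((x.out : C) : G)⁻¹) * g i by rw [hk]; group, hcC,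
        ← hg i]
      group
    have hj : inv j = k * (m * tt f * m⁻¹) * k⁻¹ := by
      rw [show k * (m * tt f * m⁻¹) * k⁻¹ = (g j)⁻¹ * ((y.out : C) * tt f * ((y.out : C) : G)⁻¹) * g j by
        rw [hm]; group, hcC, ← hg j]
      group
    have htN : tt f ∈ nrm f := bor_le_nrm f (tt_mem_bor f)
    have hvN : m * tt f * m⁻¹ ∈ nrm f := mul_mem (mul_mem hmN htN) (inv_mem hmN)
    have hv2 : m * tt f * m⁻¹ * (m * tt f * m⁻¹) = 1 := by
      rw [show m * tt f * m⁻¹ * (m * tt f * m⁻¹) = m * (tt f * tt f) * m⁻¹ by group, hf.tt_sq]; group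
    have hv1 : m * tt f * m⁻¹ ≠ 1 := fun e => hf.tt_ne (conj_eq_one_iff.mp e)
    have hback : ∀ z z' : G, k * z * k⁻¹ * (k * z' * k⁻¹) = k * z' * k⁻¹ * (k * z * k⁻¹) → z * z' = z' * z := by
      intro z z' h'
      have := congrArg (fun a => k⁻¹ * a * k) h'
      calc z * z' = k⁻¹ * (k * z * k⁻¹ * (k * z' * k⁻¹)) * k := by group
        _ = k⁻¹ * (k * z' * k⁻¹ * (k * z * k⁻¹)) * k := this
        _ = z' * z := by group
    have hw : tt f = k * (k⁻¹ * tt f * k) * k⁻¹ := by group
    have hm1 : m * tt f * m⁻¹ = tt f := by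
      by_cases hij : inv i = tt f ∨ inv j = tt f
      · have hc : k * (m * tt f * m⁻¹) * k⁻¹ * (k * tt f * k⁻¹) = k * tt f * k⁻¹ * (k * (m * tt f * m⁻¹) * k⁻¹) := by
          rw [← hi, ← hj]
          rcases hij with e | e
          · rw [e]; exact (hinv j).2.2
          · rw [e]; exact (hinv i).2.2.symm
        exact hf.inv_nrm hq hn hvN hv2 hv1 (hback _ _ hc)
      · push Not at hij
        refine (hf.fix_unique hq hn htN hvN hf.tt_sq hv2 hf.tt_ne hv1 (w := k⁻¹ * tt f * k) ?_ ?_ ?_ ?_ ?_).symm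
        · rw [show k⁻¹ * tt f * k * (k⁻¹ * tt f * k) = k⁻¹ * (tt f * tt f) * k by group, hf.tt_sq]; group
        · intro e
          exact hf.tt_ne (by rw [hw, e]; group)
        · intro e
          exact hij.1 (hi.trans (by
            calc k * tt f * k⁻¹ = k * (k⁻¹ * tt f * k) * k⁻¹ := by rw [e]
              _ = tt f := by group))
        · refine hback _ _ ?_
          rw [← hi, ← hw]
          exact (hinv i).2.2
        · refine hback _ _ ?_
          rw [← hj, ← hw]
          exact (hinv j).2.2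
    have hij : i = j := hinj i j (by rw [hi, hj, hm1])
    subst hij
    rw [show m = ((x.out : C) : G)⁻¹ * (y.out : C) by rw [hm, hk]; group] at hmN hm1
    have hb : ((x.out : C) : G)⁻¹ * (y.out : C) ∈ bor f :=
      (hf.mem_bor_iff hq hn).mpr ⟨hmN, mul_inv_eq_iff_eq_mul.mp hm1⟩
    refine Prod.ext rfl ?_
    have h2 : (QuotientGroup.mk (x.out : C) : C ⧸ (bor f).subgroupOf C) = QuotientGroup.mk (y.out : C) :=
      QuotientGroup.eq.mpr hb
    simpa using h2
  have hle : bor f ≤ C := fun x hx => Subgroup.mem_centralizer_singleton_iff.mpr (bor_comm hx hf)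
  have hcard : Nat.card (C ⧸ (bor f).subgroupOf C) = c.q + 1 := by
    have h := ((bor f).subgroupOf C).card_mul_index
    rw [Nat.card_congr (Subgroup.subgroupOfEquivOfLe hle).toEquiv, hf.card_cent_bor, mul_comm (c.q + 1)] at h
    exact Nat.eq_of_mul_eq_mul_left Nat.card_pos h
  have h := Nat.card_le_card_of_injective φ hφ
  rw [Nat.card_prod, Finite.card_option, card_trace_ne c, hcard] at h
  refine le_trans (le_of_eq ?_) h
  obtain ⟨k, hk⟩ : ∃ k, c.q ^ 2 = c.q + k := ⟨c.q ^ 2 - c.q, by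
    have := Nat.le_self_pow two_ne_zero c.q; omega⟩
  rw [hk, Nat.add_sub_cancel_left, pow_succ, hk]
  have h3 : k * c.q + k = c.q * c.q * c.q - c.q := by
    rw [show c.q * c.q * c.q = (c.q + k) * c.q by rw [← hk, pow_two], add_mul,
      show c.q * c.q = c.q + k by rw [← pow_two, hk]]
    omega
  have h4 : (c.q + k) * c.q = c.q * c.q * c.q := by rw [← hk, pow_two]
  have h5 : c.q ≤ c.q * c.q * c.q := Nat.le_mul_of_pos_left _ (by
    have := one_lt_q hf.odd; positivity)
  rw [h4, add_mul, mul_add, one_mul, mul_one]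
  omega

end Hyp

end CfsgLib.U3Cent
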