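import Cfsg.Agent.Lib.U3Cent.Classes
import Mathlib.Data.Set.Card

/-!
# The product of the radical in coordinates

`qy f R π b` is the inverted element over `b`, `qg` its first coordinate and `qB` the commutator form.
-/

set_option autoImplicit false
set_option linter.unusedSectionVars false
set_option linter.style.haveILetI false

namespace CfsgLib.U3Cent

open CfsgLib.PSUBorel
open scoped Pointwise

universe u v

variable {G : Type u} [Group G] {F : Type v} [Field F] [Fintype F] {c : Conj F}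

open Classical in
/-- The inverted element over `b`. -/
noncomputable def qy (f : W c →* G) (R : Subgroup G) (π : G → F) (b : F) : G :=
  Classical.epsilon fun y => y ∈ R ∧ tt f * y * tt f = y⁻¹ ∧ π y = b

/-- The first coordinate of the inverted element. -/
noncomputable def qg (f : W c →* G) (R : Subgroup G) (π : G → F) (b : F) : F := ac f (qy f R π b)

/-- Twice the root part of a product of inverted elements. -/
noncomputable def qB (f : W c →* G) (R : Subgroup G) (π : G → F) (b b' : F) : F :=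
  2 * (ac f (qy f R π b * qy f R π b') - qg f R π (b + b'))

variable [Finite G] [IsSimpleGroup G] {p n : ℕ} [hp : Fact p.Prime]

namespace Rad

variable {f : W c →* G} {R : Subgroup G} (hR : Rad p n f R) {π : G → F} {χ : Fˣ →* Fˣ} (hP : Proj f R π χ)
include hR hP

theorem qy_spec (b : F) :
    qy f R π b ∈ R ∧ tt f * qy f R π b * tt f = (qy f R π b)⁻¹ ∧ π (qy f R π b) = b := by
  obtain ⟨y, hy⟩ := hR.exists_rep hP b
  exact Classical.epsilon_spec (p := fun y => y ∈ R ∧ tt f * y * tt f = y⁻¹ ∧ π y = b) ⟨y, hy⟩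

theorem qy_eq {y : G} (hy : y ∈ R) (hy' : tt f * y * tt f = y⁻¹) : qy f R π (π y) = y :=
  hR.inv_unique_pi hP (hR.qy_spec hP _).1 hy (hR.qy_spec hP _).2.1 hy' (hR.qy_spec hP _).2.2

theorem qy_zero : qy f R π 0 = 1 := by
  have h := hR.qy_eq hP (one_mem R) (by rw [mul_one, hR.hyp.tt_sq, inv_one])
  rwa [hR.pi_one hP] at h

theorem qy_neg (b : F) : qy f R π (-b) = (qy f R π b)⁻¹ := by
  obtain ⟨h1, h2, h3⟩ := hR.qy_spec hP b
  have h := hR.qy_eq hP (inv_mem h1) (by
    calc tt f * (qy f R π b)⁻¹ * tt f = (tt f * qy f R π b * tt f)⁻¹ := by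
          rw [_root_.mul_inv_rev, _root_.mul_inv_rev, inv_eq_of_mul_eq_one_right hR.hyp.tt_sq, mul_assoc]
      _ = _ := by rw [h2])
  rwa [hR.pi_inv hP h1, h3] at h

theorem qy_tor (a : Fˣ) (b : F) :
    qy f R π ((χ a : F) * b) = f (dg a) * qy f R π b * (f (dg a))⁻¹ := by
  obtain ⟨h1, h2, h3⟩ := hR.qy_spec hP b
  have hc : Commute (tt f) (f (dg a)) := (hR.hyp.tt_comm _).symm
  have h := hR.qy_eq hP (hR.normal _ (bor_le_nrm f (tor_le_bor f (mem_tor.mpr ⟨a, rfl⟩))) _ h1) (by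
    calc tt f * (f (dg a) * qy f R π b * (f (dg a))⁻¹) * tt f
        = tt f * f (dg a) * qy f R π b * ((f (dg a))⁻¹ * tt f) := by group
      _ = f (dg a) * tt f * qy f R π b * (tt f * (f (dg a))⁻¹) := by rw [hc.eq, hc.inv_right.eq]
      _ = f (dg a) * (tt f * qy f R π b * tt f) * (f (dg a))⁻¹ := by group
      _ = _ := by rw [h2]; group)
  rwa [hP.equiv a _ h1, h3] at h

theorem qg_fixed (b : F) : c.σ (qg f R π b) = qg f R π b :=
  hR.ac_fixed hP (hR.qy_spec hP b).1 (hR.qy_spec hP b).2.1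

theorem qg_zero : qg f R π 0 = 0 := by rw [qg, hR.qy_zero hP, hR.ac_one]

theorem qg_ne {b : F} (hb : b ≠ 0) : qg f R π b ≠ 0 :=
  hR.ac_ne_zero (hR.qy_spec hP b).1 fun e => hb (by rw [← (hR.qy_spec hP b).2.2, e, hR.pi_one hP])

theorem qg_tor (a : Fˣ) (b : F) : qg f R π ((χ a : F) * b) = (a : F) * c.σ (a : F) * qg f R π b := by
  rw [qg, hR.qy_tor hP, hR.ac_tor (hR.qy_spec hP b).1, qg]

theorem qg_neg (b : F) : qg f R π (-b) = qg f R π b := by
  rw [qg, hR.qy_neg hP, hR.ac_inverted_inv hP (hR.qy_spec hP b).1 (hR.qy_spec hP b).2.1, qg]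

/-- Every element is a root element times an inverted one. -/
theorem eq_up_qy {r : G} (hr : r ∈ R) : ∃ x : X0 c, r = f (up x) * qy f R π (π r) := by
  obtain ⟨y, hy, x, hy', e, hπ⟩ := hR.exists_split hP hr
  exact ⟨x, by rw [← hπ, hR.qy_eq hP hy hy', e]⟩

/-- The root part of a product of inverted elements. -/
theorem qy_mul (b b' : F) : ∃ x : X0 c, 2 * (x : F) = qB f R π b b' ∧
    qy f R π b * qy f R π b' = f (up x) * qy f R π (b + b') := by
  obtain ⟨h1, -, h3⟩ := hR.qy_spec hP b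
  obtain ⟨h1', -, h3'⟩ := hR.qy_spec hP b'
  obtain ⟨x, hx⟩ := hR.eq_up_qy hP (mul_mem h1 h1')
  rw [hP.map_mul _ h1 _ h1', h3, h3'] at hx
  refine ⟨x, ?_, hx⟩
  rw [qB, hx, hR.ac_up_mul (hR.qy_spec hP _).1, qg, add_sub_cancel_left]

theorem qy_comm (b b' : F) : ∃ x : X0 c, (x : F) = qB f R π b b' ∧
    qy f R π b * qy f R π b' * (qy f R π b' * qy f R π b)⁻¹ = f (up x) := by
  obtain ⟨x, hx, e⟩ := hR.qy_mul hP b b'
  obtain ⟨h1, h2, -⟩ := hR.qy_spec hP b
  obtain ⟨h1', h2', -⟩ := hR.qy_spec hP b'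
  obtain ⟨h1s, h2s, -⟩ := hR.qy_spec hP (b + b')
  have ht : ∀ w : G, w ∈ root f → tt f * w * tt f = w := fun w hw => by
    rw [← bor_comm (root_le_bor f hw) hR.hyp, mul_assoc, hR.hyp.tt_sq, mul_one]
  have hθ : ∀ a d : G, tt f * (a * d) * tt f = tt f * a * tt f * (tt f * d * tt f) := fun a d => by
    calc tt f * (a * d) * tt f = tt f * a * (tt f * tt f) * d * tt f := by rw [hR.hyp.tt_sq]; group
      _ = _ := by group
  have e' := congrArg (fun w => tt f * w * tt f) e
  simp only [hθ, h2, h2', h2s, ht _ (mem_root.mpr ⟨x, rfl⟩)] at e'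
  have hrev : qy f R π b' * qy f R π b = f (up (-x)) * qy f R π (b + b') := by
    have h := congrArg (·⁻¹) e'
    simp only [_root_.mul_inv_rev, inv_inv] at h
    rw [h, show f (up (-x)) = (f (up x))⁻¹ from eq_inv_of_mul_eq_one_left (by
      rw [← _root_.map_mul, up_add, neg_add_cancel, up_zero, map_one])]
    exact (hR.root_central (inv_mem (mem_root.mpr ⟨x, rfl⟩)) h1s).symm
  refine ⟨x + x, by rw [AddSubgroup.coe_add, ← two_mul, hx], ?_⟩
  rw [hrev, e, _root_.mul_inv_rev, ← mul_assoc, mul_inv_cancel_right, show (f (up (-x)))⁻¹ = f (up x) from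
    inv_eq_of_mul_eq_one_left (by rw [← _root_.map_mul, up_add, add_neg_cancel, up_zero, map_one]),
    ← _root_.map_mul, up_add]

theorem qB_self (b : F) : qB f R π b b = 0 := by
  obtain ⟨x, hx, e⟩ := hR.qy_comm hP b b
  rw [mul_inv_cancel] at e
  rw [← hx, hR.hyp.root_inj e.symm, AddSubgroup.coe_zero]

theorem qB_trace (b b' : F) : qB f R π b b' + c.σ (qB f R π b b') = 0 := by
  obtain ⟨x, hx, -⟩ := hR.qy_comm hP b b'
  rw [← hx]; exact mem_X0.mp x.2

theorem qB_swap (b b' : F) : qB f R π b' b = -qB f R π b b' := by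
  obtain ⟨x, hx, e⟩ := hR.qy_comm hP b b'
  obtain ⟨x', hx', e'⟩ := hR.qy_comm hP b' b
  have h : f (up (x + x')) = 1 := by rw [← up_add, _root_.map_mul, ← e, ← e']; group
  have := congrArg Subtype.val (hR.hyp.root_inj h)
  rw [AddSubgroup.coe_add, AddSubgroup.coe_zero, hx, hx'] at this
  exact eq_neg_of_add_eq_zero_right this

/-- The commutator depends only on the second coordinates. -/
theorem comm_qB {r s : G} (hr : r ∈ R) (hs : s ∈ R) :
    ∃ x : X0 c, (x : F) = qB f R π (π r) (π s) ∧ r * s * (s * r)⁻¹ = f (up x) := by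
  obtain ⟨u, hu⟩ := hR.eq_up_qy hP hr
  obtain ⟨w, hw⟩ := hR.eq_up_qy hP hs
  obtain ⟨x, hx, e⟩ := hR.qy_comm hP (π r) (π s)
  refine ⟨x, hx, ?_⟩
  rw [← e]
  conv_lhs => rw [hu, hw]
  set a := qy f R π (π r)
  set d := qy f R π (π s)
  set U := f (up u)
  set V := f (up w)
  have hUd : U * d = d * U := hR.root_central (mem_root.mpr ⟨u, rfl⟩) (hR.qy_spec hP _).1
  have hVa : V * a = a * V := hR.root_central (mem_root.mpr ⟨w, rfl⟩) (hR.qy_spec hP _).1
  have hUV : U * V = V * U := root_comm (mem_root.mpr ⟨u, rfl⟩) (mem_root.mpr ⟨w, rfl⟩)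
  have hn : a * d * (d * a)⁻¹ ∈ root f := e ▸ mem_root.mpr ⟨x, rfl⟩
  have e1 : U * a * (V * d) = U * V * (a * d) := by
    calc U * a * (V * d) = U * (a * V) * d := by group
      _ = U * (V * a) * d := by rw [hVa]
      _ = _ := by group
  have e2 : V * d * (U * a) = U * V * (d * a) := by
    calc V * d * (U * a) = V * (d * U) * a := by group
      _ = V * (U * d) * a := by rw [hUd]
      _ = V * U * (d * a) := by group
      _ = _ := by rw [hUV]
  rw [e1, e2]
  calc U * V * (a * d) * (U * V * (d * a))⁻¹ = (U * V) * (a * d * (d * a)⁻¹) * (U * V)⁻¹ := by group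
    _ = (a * d * (d * a)⁻¹) * (U * V) * (U * V)⁻¹ := by
        rw [root_comm (mul_mem (mem_root.mpr ⟨u, rfl⟩) (mem_root.mpr ⟨w, rfl⟩)) hn]
    _ = _ := mul_inv_cancel_right _ _

theorem qB_add_left (b1 b2 b' : F) : qB f R π (b1 + b2) b' = qB f R π b1 b' + qB f R π b2 b' := by
  obtain ⟨h1, -, p1⟩ := hR.qy_spec hP b1
  obtain ⟨h2, -, p2⟩ := hR.qy_spec hP b2
  obtain ⟨h3, -, p3⟩ := hR.qy_spec hP b'
  obtain ⟨x, hx, e⟩ := hR.comm_qB hP (mul_mem h1 h2) h3
  obtain ⟨x1, hx1, e1⟩ := hR.comm_qB hP h1 h3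
  obtain ⟨x2, hx2, e2⟩ := hR.comm_qB hP h2 h3
  rw [hP.map_mul _ h1 _ h2, p1, p2, p3] at hx
  rw [p1, p3] at hx1
  rw [p2, p3] at hx2
  set a := qy f R π b1
  set d := qy f R π b2
  set s := qy f R π b'
  have h : f (up x) = f (up (x1 + x2)) := by
    rw [← e, ← up_add, _root_.map_mul, ← e1]
    have hc : f (up x2) * a = a * f (up x2) := hR.root_central (mem_root.mpr ⟨x2, rfl⟩) h1
    calc a * d * s * (s * (a * d))⁻¹ = a * (d * s * (s * d)⁻¹) * s * a⁻¹ * s⁻¹ := by group
      _ = f (up x2) * (a * s * (s * a)⁻¹) := by rw [e2, ← hc]; group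
      _ = a * s * (s * a)⁻¹ * f (up x2) := root_comm (mem_root.mpr ⟨x2, rfl⟩) (e1 ▸ mem_root.mpr ⟨x1, rfl⟩)
  have h' : f (up (x - (x1 + x2))) = 1 := by
    rw [sub_eq_add_neg, ← up_add, _root_.map_mul, h, ← _root_.map_mul, up_add, add_neg_cancel, up_zero, map_one]
  have := congrArg Subtype.val (sub_eq_zero.mp (hR.hyp.root_inj h'))
  rw [AddSubgroup.coe_add, hx, hx1, hx2] at this
  exact this

theorem qB_add_right (b b1 b2 : F) : qB f R π b (b1 + b2) = qB f R π b b1 + qB f R π b b2 := by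
  rw [hR.qB_swap hP (b1 + b2) b, hR.qB_add_left hP, hR.qB_swap hP b1 b, hR.qB_swap hP b2 b]; ring

theorem qB_neg_left (b b' : F) : qB f R π (-b) b' = -qB f R π b b' := by
  have h := hR.qB_add_left hP (-b) b b'
  have h0 := hR.qB_add_left hP 0 0 b'
  rw [add_zero] at h0
  rw [neg_add_cancel, show qB f R π 0 b' = 0 by linear_combination -h0] at h
  linear_combination -h

theorem qB_tor (a : Fˣ) (b b' : F) :
    qB f R π ((χ a : F) * b) ((χ a : F) * b') = (a : F) * c.σ (a : F) * qB f R π b b' := by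
  obtain ⟨h1, -, h3⟩ := hR.qy_spec hP b
  obtain ⟨h1', -, h3'⟩ := hR.qy_spec hP b'
  rw [qB, qB, hR.qy_tor hP, hR.qy_tor hP, ← mul_add, hR.qg_tor hP,
    show f (dg a) * qy f R π b * (f (dg a))⁻¹ * (f (dg a) * qy f R π b' * (f (dg a))⁻¹) =
      f (dg a) * (qy f R π b * qy f R π b') * (f (dg a))⁻¹ by group, hR.ac_tor (mul_mem h1 h1')]
  ring

omit hP in
/-- The order of the group. -/
theorem card_G : Nat.card G * Nat.card f.ker = c.q ^ 3 * ((c.q ^ 3 + 1) * (c.q ^ 2 - 1)) := by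
  have hN := Subgroup.card_mul_index (nrm f)
  have hB : Nat.card (nrm f) = c.q ^ 2 * Nat.card (bor f) := by
    rw [hR.hyp.card_nrm]
    congr 1
    have h := hR.hyp.index_mul hR.hq hR.hn
    have hle : (bor f).relIndex (nrm f) * Nat.card (bor f) = Nat.card (nrm f) := hR.hyp.card_nrm.symm
    have hsur : Nat.card (nrm f) * c.q = Nat.card R * Nat.card (bor f) := by
      have hsup : R ⊔ bor f = nrm f := le_antisymm (sup_le hR.R_le_nrm (bor_le_nrm f)) fun g hg => by
        obtain ⟨x, hx, b, hb, rfl⟩ := hR.decomp g hg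
        exact mul_mem (Subgroup.mem_sup_left hx) (Subgroup.mem_sup_right hb)
      have h := CfsgLib.CentrallyLarge.card_sup_mul_card_inf (H := R) (K := bor f)
        (fun b hb => CfsgLib.A8ThreeLocal.Loc.normalises_of fun x hx => hR.normal b (bor_le_nrm f hb) x hx)
      rwa [hsup, show R ⊓ bor f = root f from le_antisymm
        (fun x hx => hR.cent ▸ ⟨hx.1, Subgroup.mem_centralizer_singleton_iff.mpr (bor_comm hx.2 hR.hyp)⟩)
        (le_inf hR.root_le (root_le_bor f)), hR.hyp.card_root] at h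
    rw [← hle, hR.card_R] at hsur
    have hq0 : 0 < c.q := by have := one_lt_q hR.hyp.odd; omega
    refine Nat.eq_of_mul_eq_mul_right (Nat.mul_pos (Nat.card_pos (α := bor f)) hq0) ?_
    calc (bor f).relIndex (nrm f) * (Nat.card (bor f) * c.q) = c.q ^ 3 * Nat.card (bor f) := by
          rw [← mul_assoc, hsur]
      _ = _ := by ring
  rw [← hN, hR.index_nrm, hB, mul_assoc, mul_assoc, mul_left_comm (Nat.card (bor f)), hR.hyp.card_bor]
  ring

/-- The radical is not abelian. -/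
theorem qB_ne : ∃ b b', qB f R π b b' ≠ 0 := by
  classical
  by_contra hno
  push Not at hno
  have hmul : ∀ b b', qy f R π b * qy f R π b' = qy f R π (b + b') := fun b b' => by
    obtain ⟨x, hx, e⟩ := hR.qy_mul hP b b'
    rw [hno, mul_eq_zero] at hx
    rw [e, show x = 0 from Subtype.ext (hx.resolve_left hR.hyp.two_ne'), up_zero, map_one, one_mul]
  let pt : Option F → Pts f := fun o => o.elim (bx f) fun b => qy f R π b • by0 f
  have hpt : Function.Injective pt := by
    rintro (_ | b) (_ | b') h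
    · rfl
    · exact absurd h.symm (hR.smul_ne_bx (hR.qy_spec hP b').1)
    · exact absurd h (hR.smul_ne_bx (hR.qy_spec hP b).1)
    · have e := hR.smul_inj (hR.qy_spec hP b).1 (hR.qy_spec hP b').1 h
      rw [← (hR.qy_spec hP b).2.2, e, (hR.qy_spec hP b').2.2]
  set O : Set (Pts f) := Set.range pt
  set S : Set G := {g | g = f ww ∨ ∃ b, g = qy f R π b}
  set H := Subgroup.closure S
  have hS : ∀ g ∈ S, ∀ o : Option F, g • pt o ∈ O := by
    rintro g (rfl | ⟨b, rfl⟩) (_ | b')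
    · exact ⟨some 0, by show qy f R π 0 • by0 f = f ww • bx f; rw [hR.qy_zero hP, one_smul, ww_bx]⟩
    · rcases eq_or_ne b' 0 with rfl | hb
      · exact ⟨none, by show bx f = f ww • qy f R π 0 • by0 f; rw [hR.qy_zero hP, one_smul, ww_by0]⟩
      · obtain ⟨h1, h2, h3⟩ := hR.qy_spec hP b'
        have hne : qy f R π b' ≠ 1 := fun e => hb (by rw [← h3, e, hR.pi_one hP])
        obtain ⟨j1, -, j3, j4⟩ := hR.jr_spec h1 hne
        obtain ⟨y, hy, x, hy', e, -⟩ := hR.exists_split hP j1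
        have hfix : c.σ (ac f (jr f R (qy f R π b'))) = ac f (jr f R (qy f R π b')) := by
          rw [j4, map_div₀, map_one, hR.ac_fixed hP h1 h2]
        rw [e, hR.ac_up_mul hy, map_add, hR.ac_fixed hP hy hy', sig_X0] at hfix
        have hx0 : x = 0 := Subtype.ext ((mul_eq_zero.mp
          (show (2 : F) * (x : F) = 0 by linear_combination -hfix)).resolve_left hR.hyp.two_ne')
        refine ⟨some (π y), ?_⟩
        show qy f R π (π y) • by0 f = f ww • qy f R π b' • by0 f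
        rw [hR.qy_eq hP hy hy', j3, e, hx0, up_zero, map_one, one_mul]
    · exact ⟨none, (smul_bx.mpr (hR.R_le_nrm (hR.qy_spec hP b).1)).symm⟩
    · exact ⟨some (b + b'), by show qy f R π (b + b') • by0 f = qy f R π b • qy f R π b' • by0 f; rw [← hmul, mul_smul]⟩
  have hH : H ≤ MulAction.stabilizer G O := by
    refine (Subgroup.closure_le _).mpr fun g hg => ?_
    rw [SetLike.mem_coe, MulAction.mem_stabilizer_iff]
    refine Set.eq_of_subset_of_ncard_le ?_ (le_of_eq (Set.ncard_smul_set g O).symm) (Set.toFinite _)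
    rintro _ ⟨_, ⟨o, rfl⟩, rfl⟩
    exact hS g hg o
  have horb : MulAction.orbit H (bx f) = O := by
    refine Set.Subset.antisymm ?_ ?_
    · rintro _ ⟨g, rfl⟩
      rw [← MulAction.mem_stabilizer_iff.mp (hH g.2)]
      exact Set.smul_mem_smul_set (show bx f ∈ O from ⟨none, rfl⟩)
    · rintro _ ⟨o, rfl⟩
      rcases o with _ | b
      · exact MulAction.mem_orbit_self _
      · refine ⟨⟨qy f R π b * f ww,
          mul_mem (Subgroup.subset_closure (Or.inr ⟨b, rfl⟩)) (Subgroup.subset_closure (Or.inl rfl))⟩, ?_⟩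
        show (qy f R π b * f ww) • bx f = _
        rw [mul_smul, ww_bx]; rfl
  have hcardO : Nat.card O = c.q ^ 2 + 1 := by
    rw [Nat.card_range_of_injective hpt, Finite.card_option, Nat.card_eq_fintype_card, c.card]
  have hdvd : c.q ^ 2 + 1 ∣ Nat.card G := by
    rw [← hcardO, ← horb, Nat.card_congr (MulAction.orbitEquivQuotientStabilizer H (bx f))]
    exact (Subgroup.card_quotient_dvd_card _).trans (Subgroup.card_subgroup_dvd_card H)
  have hG := hR.card_G
  have h1 : c.q ^ 2 + 1 ∣ c.q ^ 3 * ((c.q ^ 3 + 1) * (c.q ^ 2 - 1)) := hG ▸ hdvd.mul_right _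
  have hcop : (c.q ^ 2 + 1).Coprime (c.q ^ 3) := by
    refine Nat.Coprime.pow_right _ ?_
    rw [Nat.coprime_comm, pow_two, Nat.coprime_mul_left_add_right]
    exact Nat.coprime_one_right _
  have h2 := Int.natCast_dvd_natCast.mpr (hcop.dvd_of_dvd_mul_left h1)
  have hq3 := one_lt_q hR.hyp.odd
  push_cast [Nat.cast_sub (Nat.one_le_pow 2 c.q (by omega))] at h2
  have h3 : ((c.q : ℤ) ^ 2 + 1) ∣ 2 * ((c.q : ℤ) - 1) := by
    have e : 2 * ((c.q : ℤ) - 1) = ((c.q : ℤ) ^ 3 + 1) * ((c.q : ℤ) ^ 2 - 1) -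
        ((c.q : ℤ) ^ 2 + 1) * ((c.q : ℤ) ^ 3 - 2 * c.q + 1) := by ring
    rw [e]
    exact dvd_sub h2 (dvd_mul_right _ _)
  have h4 := Int.le_of_dvd (by omega) h3
  nlinarith [h4, sq_nonneg ((c.q : ℤ) - 1), (show (3 : ℤ) ≤ c.q by exact_mod_cast hq3)]

end Rad

end CfsgLib.U3Cent
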