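import Cfsg.Agent.Lib.U3Cent.OneClass
import Cfsg.Agent.Lib.S8ThreeLocal.BTools
import Cfsg.Agent.Lib.Coprime
import Mathlib.FieldTheory.Finite.Basic

/-!
# The characteristic `p`

A `p`-subgroup normalised by a four-group of involutions is trivial.
-/

set_option autoImplicit false
set_option linter.unusedSectionVars false
set_option linter.style.haveILetI false

namespace CfsgLib.U3Cent

open CfsgLib.PSUBorel

universe u v

variable {G : Type u} [Group G] [Finite G] [IsSimpleGroup G] {F : Type v} [Field F] [Fintype F] {c : Conj F}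

/-- `q` is a power of a prime. -/
theorem exists_prime_pow (c : Conj F) : ∃ p n : ℕ, p.Prime ∧ n ≠ 0 ∧ c.q = p ^ n := by
  obtain ⟨p, hp⟩ := CharP.exists F
  obtain ⟨m, hpp, hm⟩ := FiniteField.card F p
  rw [c.card] at hm
  obtain ⟨i, -, hi⟩ := (Nat.dvd_prime_pow hpp).mp (hm ▸ dvd_pow_self c.q two_ne_zero)
  refine ⟨p, i, hpp, fun h => ?_, hi⟩
  subst h
  simp only [hi, pow_zero, one_pow] at hm
  exact (Nat.one_lt_pow m.ne_zero hpp.one_lt).ne hm

variable {p n : ℕ} [hp : Fact p.Prime]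

theorem charP_of (hq : c.q = p ^ n) : CharP F p := by
  obtain ⟨r, hr⟩ := CharP.exists F
  haveI := hr
  obtain ⟨m, hrp, hm⟩ := FiniteField.card F r
  rw [c.card, hq, ← pow_mul] at hm
  have : r = p := (Nat.prime_dvd_prime_iff_eq hrp hp.out).mp
    (hrp.dvd_of_dvd_pow (hm ▸ dvd_pow_self r m.ne_zero))
  exact this ▸ hr

namespace Hyp

variable {f : W c →* G} (hf : Hyp c f) (hq : c.q = p ^ n) (hn : n ≠ 0)
include hf hq hn

theorem p_ne_two : p ≠ 2 := fun e => by
  have h := hf.odd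
  rw [hq, e] at h
  exact Nat.not_even_iff_odd.mpr h ((Nat.even_pow' hn).mpr even_two)

theorem not_dvd_succ : ¬ p ∣ c.q + 1 := fun h =>
  hp.out.not_dvd_one ((Nat.dvd_add_right (hq ▸ dvd_pow_self p hn)).mp h)

theorem not_dvd_sq_sub : ¬ p ∣ c.q ^ 2 - 1 := fun h => by
  have h1 : p ∣ c.q ^ 2 := (hq ▸ dvd_pow_self p hn : p ∣ c.q).trans (dvd_pow_self _ two_ne_zero)
  have h2 := Nat.dvd_sub h1 h
  rw [Nat.sub_sub_self (Nat.one_le_pow _ _ (by have := one_lt_q hf.odd; omega))] at h2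
  exact hp.out.not_dvd_one h2

theorem not_dvd_ker : ¬ p ∣ Nat.card f.ker := fun h => hf.not_dvd_succ hq hn (h.trans hf.ker_dvd)

omit [Finite G] [IsSimpleGroup G] in
theorem up_pow (x : X0 c) : up x ^ p = 1 := by
  haveI := charP_of (c := c) hq
  rw [up, ← map_pow, ← ofAdd_nsmul, show p • x = 0 from Subtype.ext (by
    rw [AddSubgroup.coe_nsmul, nsmul_eq_mul, CharP.cast_eq_zero, zero_mul, AddSubgroup.coe_zero]),
    ofAdd_zero, map_one]

theorem root_isPGroup : IsPGroup p (root f) := IsPGroup.of_card (hf.card_root.trans hq)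

/-- An equation between root elements lifts. -/
theorem up_conj_eq {g : W c} {x y : X0 c} (h : f g * f (up x) * (f g)⁻¹ = f (up y)) :
    g * up x = up y * g := by
  set k := (up y)⁻¹ * (g * up x * g⁻¹) with hk
  have hker : k ∈ f.ker := f.mem_ker.mpr (by
    rw [hk, map_mul, map_inv, map_mul, map_mul, map_inv, h, inv_mul_cancel])
  have hc := (hf.kers k hker).comm
  have hpow : k ^ p = 1 := by
    have e : g * up x * g⁻¹ = up y * k := by rw [hk, mul_inv_cancel_left]
    have e' := congrArg (· ^ p) e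
    simp only [conj_pow, hf.up_pow hq hn, mul_one, mul_inv_cancel] at e'
    rw [(Commute.mul_pow (hc (up y)).symm p), hf.up_pow hq hn, one_mul] at e'
    exact e'.symm
  have hk1 : k = 1 := orderOf_eq_one_iff.mp (Nat.eq_one_of_dvd_coprimes
    ((hp.out.coprime_iff_not_dvd).mpr (hf.not_dvd_ker hq hn)) (orderOf_dvd_of_pow_eq_one hpow)
    (Subgroup.orderOf_dvd_natCard _ hker))
  rw [hk, inv_mul_eq_one] at hk1
  rw [hk1, inv_mul_cancel_right]

/-- A `p`-subgroup of the centraliser is conjugate into the root group. -/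
theorem exists_conj_root {P : Subgroup G} (hP : IsPGroup p P) (hle : P ≤ f.range) :
    ∃ g : W c, ∀ x ∈ P, f g * x * (f g)⁻¹ ∈ root f := by
  have hrle : root f ≤ f.range := by
    rintro _ ⟨x, rfl⟩; exact ⟨_, rfl⟩
  let S : Sylow p f.range := Sylow.ofCard ((root f).subgroupOf f.range) (by
    rw [Nat.card_congr (Subgroup.subgroupOfEquivOfLe hrle).toEquiv, hf.card_root, hq]
    have hc := hf.card_cent
    have h1 := congrArg (fun a => a.factorization p) hc
    have hq0 : c.q ≠ 0 := by have := one_lt_q hf.odd; omega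
    have hne : (c.q + 1) * (c.q ^ 2 - 1) ≠ 0 := fun e => by
      rcases mul_eq_zero.mp e with e | e
      · omega
      · exact hf.not_dvd_sq_sub hq hn (e ▸ dvd_zero p)
    simp only [Nat.factorization_mul Nat.card_pos.ne' Nat.card_pos.ne', Nat.factorization_mul hq0 hne,
      Finsupp.add_apply, Nat.factorization_eq_zero_of_not_dvd (hf.not_dvd_ker hq hn), add_zero,
      Nat.factorization_eq_zero_of_not_dvd (fun h => (hp.out.dvd_mul.mp h).elim (hf.not_dvd_succ hq hn)
        (hf.not_dvd_sq_sub hq hn))] at h1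
    rw [h1, hq, Nat.factorization_pow_self hp.out])
  obtain ⟨R, hR⟩ := (hP.of_equiv (Subgroup.subgroupOfEquivOfLe hle).symm).exists_le_sylow
  obtain ⟨⟨y, hy⟩, hg⟩ := MulAction.exists_smul_eq f.range R S
  obtain ⟨g, rfl⟩ := MonoidHom.mem_range.mp hy
  refine ⟨g, fun x hx => ?_⟩
  have hm : (⟨x, hle hx⟩ : f.range) ∈ R := hR hx
  have : (⟨f g, hy⟩ : f.range) * ⟨x, hle hx⟩ * (⟨f g, hy⟩ : f.range)⁻¹ ∈ (S : Subgroup f.range) := by
    rw [← hg]; exact ⟨_, hm, rfl⟩
  exact this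

/-- A reflection sends no root element into the root group. -/
theorem refl_not_root {a : F} (ha : a + c.σ a ≠ 0) {x y : X0 c} (hx : x ≠ 0) :
    f (refl a) * f (up x) * (f (refl a))⁻¹ ≠ f (up y) := fun h => by
  have h10 := tri_of_conj hx (hf.up_conj_eq hq hn h)
  rw [(refl_ent ha).2.2.1, div_eq_zero_iff] at h10
  exact h10.elim (neg_ne_zero.mpr hf.two_ne') ha

/-- An involution does not normalise a nontrivial `p`-subgroup of the centraliser of another, commuting with it. -/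
theorem pgroup_bot {u v : G} (hu : u * u = 1) (hv : v * v = 1) (hu1 : u ≠ 1) (hv1 : v ≠ 1) (huv : u ≠ v)
    (hc : u * v = v * u) {P : Subgroup G} (hP : IsPGroup p P) (hPv : ∀ x ∈ P, x * v = v * x)
    (hn' : ∀ x ∈ P, u * x * u⁻¹ ∈ P) : P = ⊥ := by
  obtain ⟨g, hg⟩ := hf.conj_tt hv hv1
  set P' := P.map (MulAut.conj g).toMonoidHom with hP'
  have hle : P' ≤ f.range := by
    rintro _ ⟨x, hx, rfl⟩
    rw [hf.range, Subgroup.mem_centralizer_singleton_iff, ← hg]
    simp only [MulEquiv.toMonoidHom_eq_coe, MonoidHom.coe_coe, MulAut.conj_apply]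
    calc g * x * g⁻¹ * (g * v * g⁻¹) = g * (x * v) * g⁻¹ := by group
      _ = g * (v * x) * g⁻¹ := by rw [hPv x hx]
      _ = _ := by group
  obtain ⟨h, hh⟩ := hf.exists_conj_root hq hn (hP.map _) hle
  set k := f h * g with hk
  have hkv : k * v * k⁻¹ = tt f := by
    rw [hk, show f h * g * v * (f h * g)⁻¹ = f h * (g * v * g⁻¹) * (f h)⁻¹ by group, hg, hf.tt_comm h,
      mul_inv_cancel_right]
  have hku : k * u * k⁻¹ * (k * u * k⁻¹) = 1 := by
    rw [show k * u * k⁻¹ * (k * u * k⁻¹) = k * (u * u) * k⁻¹ by group, hu]; group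
  have hkc : k * u * k⁻¹ * tt f = tt f * (k * u * k⁻¹) := by
    rw [← hkv]
    calc k * u * k⁻¹ * (k * v * k⁻¹) = k * (u * v) * k⁻¹ := by group
      _ = k * (v * u) * k⁻¹ := by rw [hc]
      _ = _ := by group
  have hroot : ∀ x ∈ P, k * x * k⁻¹ ∈ root f := fun x hx => by
    have := hh (g * x * g⁻¹) ⟨x, hx, rfl⟩
    rwa [show f h * (g * x * g⁻¹) * (f h)⁻¹ = k * x * k⁻¹ by rw [hk]; group] at this
  rw [eq_bot_iff]
  intro x hx
  rw [Subgroup.mem_bot]
  obtain ⟨b, hb⟩ := mem_root.mp (hroot x hx)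
  obtain ⟨b', hb'⟩ := mem_root.mp (hroot _ (hn' x hx))
  rcases hf.inv_cases hkc hku with e | e | ⟨a, ha, e⟩
  · exact absurd (conj_eq_one_iff.mp e) hu1
  · exact absurd (conj_injective (e.trans hkv.symm)) huv
  · rcases eq_or_ne b 0 with rfl | hb0
    · rw [up_zero, map_one] at hb
      exact conj_eq_one_iff.mp hb.symm
    · refine absurd ?_ (hf.refl_not_root hq hn ha hb0 (y := b'))
      rw [← e, hb, hb']
      group

/-- A `p`-subgroup normalised by a four-group is trivial. -/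
theorem four_pgroup_bot {u v : G} (hu : u * u = 1) (hv : v * v = 1) (hu1 : u ≠ 1) (hv1 : v ≠ 1) (huv : u ≠ v)
    (hc : u * v = v * u) {P : Subgroup G} (hP : IsPGroup p P) (hPu : ∀ x ∈ P, u * x * u⁻¹ ∈ P)
    (hPv : ∀ x ∈ P, v * x * v⁻¹ ∈ P) : P = ⊥ := by
  have key : ∀ a b : G, a * a = 1 → b * b = 1 → a ≠ 1 → b ≠ 1 → a ≠ b → a * b = b * a →
      (∀ x ∈ P, a * x * a⁻¹ ∈ P) → ∀ x ∈ P, Commute x b → x ∈ (⊥ : Subgroup G) := by
    intro a b ha hb ha1 hb1 hab habc hPa x hx hxb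
    have hbot := hf.pgroup_bot hq hn ha hb ha1 hb1 hab habc (P := P ⊓ Subgroup.centralizer {b})
      (hP.to_le inf_le_left) (fun y hy => Subgroup.mem_centralizer_singleton_iff.mp hy.2) fun y hy => by
        refine ⟨hPa y hy.1, Subgroup.mem_centralizer_singleton_iff.mpr ?_⟩
        calc a * y * a⁻¹ * b = a * y * (a⁻¹ * b) := by group
          _ = a * y * (b * a⁻¹) := by rw [(Commute.inv_left habc : Commute a⁻¹ b).eq]
          _ = a * (b * y) * a⁻¹ := by rw [← Subgroup.mem_centralizer_singleton_iff.mp hy.2]; group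
          _ = b * (a * y * a⁻¹) := by rw [← mul_assoc, habc]; group
    rw [← hbot]
    exact ⟨hx, Subgroup.mem_centralizer_singleton_iff.mpr hxb⟩
  have hodd : Odd (Nat.card P) := by
    obtain ⟨m, hm⟩ := IsPGroup.iff_card.mp hP
    rw [hm]
    exact (hp.out.odd_of_ne_two (hf.p_ne_two hq hn)).pow
  refine le_bot_iff.mp (CfsgLib.S8ThreeLocal.klein_le hu hv hc hu1 hv1 huv hodd hPu hPv
    (key v u hv hu hv1 hu1 huv.symm hc.symm hPv) (key u v hu hv hu1 hv1 huv hc hPu) ?_)
  refine key u (u * v) hu ?_ hu1 ?_ ?_ ?_ hPu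
  · rw [mul_assoc, ← mul_assoc v, ← hc, mul_assoc u v v, hv, mul_one, hu]
  · intro e
    exact huv (by rw [eq_inv_of_mul_eq_one_left e, inv_eq_of_mul_eq_one_right hv])
  · intro e
    exact hv1 (mul_left_cancel (e.symm.trans (mul_one u).symm))
  · rw [mul_assoc u v u, ← hc]

/-- A group of odd order normalised by a four-group has order prime to `p`. -/
theorem odd_four_not_dvd {u v : G} (hu : u * u = 1) (hv : v * v = 1) (hu1 : u ≠ 1) (hv1 : v ≠ 1) (huv : u ≠ v)
    (hc : u * v = v * u) {O : Subgroup G} (hO : Odd (Nat.card O)) (hOu : ∀ x ∈ O, u * x * u⁻¹ ∈ O)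
    (hOv : ∀ x ∈ O, v * x * v⁻¹ ∈ O) : ¬ p ∣ Nat.card O := by
  intro hdvd
  haveI : Fact (Nat.Prime 2) := ⟨Nat.prime_two⟩
  set A : Subgroup G := Subgroup.zpowers u ⊔ Subgroup.zpowers v with hA
  have h2 : ∀ w : G, w * w = 1 → IsPGroup 2 (Subgroup.zpowers w) := fun w hw x => ⟨1, by
    obtain ⟨i, hi⟩ := Subgroup.mem_zpowers_iff.mp x.2
    refine Subtype.ext ?_
    rw [pow_one, SubmonoidClass.coe_pow, OneMemClass.coe_one, ← hi, ← zpow_natCast, ← zpow_mul, mul_comm,
      zpow_mul, zpow_natCast, pow_two, hw, one_zpow]⟩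
  have hcomm : Subgroup.zpowers u ≤ Subgroup.normalizer (Subgroup.zpowers v : Set G) := by
    rw [Subgroup.zpowers_le]
    refine Subgroup.centralizer_le_normalizer _ ?_
    rw [Subgroup.mem_centralizer_iff]
    intro x hx
    obtain ⟨i, rfl⟩ := Subgroup.mem_zpowers_iff.mp hx
    exact ((show Commute v u from hc.symm).zpow_left i).eq
  have hA2 : IsPGroup 2 A := (h2 u hu).to_sup_of_normal_right' (h2 v hv) hcomm
  have hAN : A ≤ Subgroup.normalizer (O : Set G) := sup_le
    (Subgroup.zpowers_le.mpr (CfsgLib.A8ThreeLocal.Loc.normalises_of hOu))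
    (Subgroup.zpowers_le.mpr (CfsgLib.A8ThreeLocal.Loc.normalises_of hOv))
  have hcop : (Nat.card A).Coprime (Nat.card O) := by
    obtain ⟨k, hk⟩ := IsPGroup.iff_card.mp hA2
    rw [hk]
    exact (Nat.coprime_two_left.mpr hO).pow_left k
  haveI := hA2.isNilpotent
  obtain ⟨P, hP⟩ := CfsgLib.coprime_exists_invariant_sylow hAN hcop (Or.inl inferInstance) p
  set Q := (P : Subgroup O).map O.subtype with hQ
  have hQn : ∀ w ∈ A, ∀ x ∈ Q, w * x * w⁻¹ ∈ Q := fun w hw x hx => (Subgroup.mem_normalizer_iff.mp (hP hw) x).mp hx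
  have hbot := hf.four_pgroup_bot hq hn hu hv hu1 hv1 huv hc (P.2.map O.subtype)
    (hQn u (Subgroup.mem_sup_left (Subgroup.mem_zpowers u))) (hQn v (Subgroup.mem_sup_right (Subgroup.mem_zpowers v)))
  exact P.ne_bot_of_dvd_card hdvd ((Subgroup.map_eq_bot_iff_of_injective _ O.subtype_injective).mp hbot)

end Hyp

end CfsgLib.U3Cent
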