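import Cfsg.Agent.Lib.U3Cent.Coord

/-!
# The centraliser of `tt` is transitive on the points it does not fix

The rotations commuting with `ww` are transitive on the fixed points of `tt`.
-/

set_option autoImplicit false
set_option linter.unusedSectionVars false
set_option linter.style.haveILetI false

namespace CfsgLib.U3Cent

open CfsgLib.PSUBorel

universe u v

variable {G : Type u} [Group G] {F : Type v} [Field F] [Fintype F] {c : Conj F}

variable [Finite G] [IsSimpleGroup G] {p n : ℕ} [hp : Fact p.Prime]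

namespace Rad

variable {f : W c →* G} {R : Subgroup G} (hR : Rad p n f R)
include hR

theorem fix_cases {ω : Pts f} (h : tt f • ω = ω) : ω = bx f ∨ ∃ x : X0 c, ω = f (up x) • by0 f := by
  refine or_iff_not_imp_left.mpr fun hω => ?_
  obtain ⟨r, hr, rfl⟩ := hR.exists_smul hω
  obtain ⟨x, hx⟩ := mem_root.mp ((hR.mem_root_iff hr).mpr h)
  exact ⟨x, by rw [hx]⟩

theorem rot_trans {ω : Pts f} (h : tt f • ω = ω) :
    ∃ (e : F) (he : e * c.σ e = 1), f (rot hR.hyp.odd he) • bx f = ω := by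
  have h2 := hR.hyp.two_ne'
  rcases hR.fix_cases h with rfl | ⟨x, rfl⟩
  · refine ⟨1, by simp, ?_⟩
    rw [rot_one, _root_.map_one, one_smul]
  · have hx1 : (x : F) + 1 ≠ 0 := fun e => h2 (by
      have := mem_X0.mp x.2
      rw [eq_neg_of_add_eq_zero_left e, map_neg, map_one] at this
      linear_combination -this)
    have hx2 : c.σ ((x : F) + 1) ≠ 0 := (map_ne_zero c.σ).mpr hx1
    have he : ((x : F) - 1) / ((x : F) + 1) * c.σ (((x : F) - 1) / ((x : F) + 1)) = 1 := by
      rw [map_add, sig_X0, map_one] at hx2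
      rw [map_div₀, map_sub, map_add, sig_X0, map_one]
      field_simp
      ring
    refine ⟨_, he, ?_⟩
    have h10 : ent (rot hR.hyp.odd he) 1 0 ≠ 0 := by
      rw [rot, mk_10]
      refine div_ne_zero (fun e => h2 ?_) h2
      rw [sub_eq_zero, eq_div_iff hx1] at e
      linear_combination e
    obtain ⟨y, b, z, hy, hg⟩ := bruhat h10
    have hyx : y = x := Subtype.ext (by
      rw [hy, rot, mk_00, mk_10]
      field_simp
      ring_nf
      rw [mul_assoc, inv_mul_cancel₀ h2, mul_one])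
    rw [hg, _root_.map_mul, _root_.map_mul, _root_.map_mul, mul_smul, mul_smul, mul_smul,
      smul_bx.mpr (bor_le_nrm f (up_mem_bor f z)), ww_bx, hR.tor_by0 (mem_tor.mpr ⟨b, rfl⟩), hyx]

theorem rot_comm_uu {e : F} (he : e * c.σ e = 1) : f (rot hR.hyp.odd he) * uu f = uu f * f (rot hR.hyp.odd he) := by
  rw [uu, ← _root_.map_mul, ← _root_.map_mul, refl_one hR.hyp.odd, ← mul_assoc, ← (neg_scal (c := c)).comm,
    mul_assoc, rot_ww, mul_assoc]

/-- The centraliser of the two involutions is transitive on the fixed points of either. -/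
theorem trans_uu {ω ω' : Pts f} (h : uu f • ω = ω) (h' : uu f • ω' = ω') :
    ∃ g : G, g * tt f = tt f * g ∧ g * uu f = uu f * g ∧ g • ω = ω' := by
  obtain ⟨s, hs1, hs2⟩ := hR.hyp.exists_swap
  have hfix : ∀ z : Pts f, uu f • z = z → tt f • s • z = s • z := fun z hz => by
    rw [← hs2, mul_smul, mul_smul, inv_smul_smul, hz]
  obtain ⟨e, he, e1⟩ := hR.rot_trans (hfix ω h)
  obtain ⟨e', he', e1'⟩ := hR.rot_trans (hfix ω' h')
  set g := f (rot hR.hyp.odd he') * (f (rot hR.hyp.odd he))⁻¹ with hg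
  have hgu : g * uu f = uu f * g :=
    Commute.mul_left (hR.rot_comm_uu he') (Commute.inv_left (hR.rot_comm_uu he))
  have hgt : g * tt f = tt f * g :=
    Commute.mul_left (hR.hyp.tt_comm _) (Commute.inv_left (hR.hyp.tt_comm _))
  refine ⟨s⁻¹ * g * s, ?_, ?_, ?_⟩
  · have ht : tt f = s⁻¹ * uu f * s := by rw [← hs1]; group
    rw [ht]
    calc s⁻¹ * g * s * (s⁻¹ * uu f * s) = s⁻¹ * (g * uu f) * s := by group
      _ = s⁻¹ * (uu f * g) * s := by rw [hgu]
      _ = _ := by group
  · have hu : uu f = s⁻¹ * tt f * s := by rw [← hs2]; group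
    rw [hu]
    calc s⁻¹ * g * s * (s⁻¹ * tt f * s) = s⁻¹ * (g * tt f) * s := by group
      _ = s⁻¹ * (tt f * g) * s := by rw [hgt]
      _ = _ := by group
  · rw [mul_smul, mul_smul, inv_smul_eq_iff, hg, mul_smul, ← e1, inv_smul_smul, e1']

/-- The centraliser of `tt` is transitive on the points it moves. -/
theorem trans_off {r r' : G} (hr : r ∈ R) (hr' : r' ∈ R) (hx : r ∉ root f) (hx' : r' ∉ root f) :
    ∃ g : G, g * tt f = tt f * g ∧ g • r • by0 f = r' • by0 f := by
  have key : ∀ z ∈ R, z ∉ root f → ∃ k : W c, uu f • f k • z • by0 f = f k • z • by0 f := by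
    intro z hz hzx
    rcases hR.ac_spec hz with ⟨x, -, e⟩ | ⟨ha, hfix⟩
    · exact absurd (e ▸ mem_root.mpr ⟨x, rfl⟩) hzx
    · obtain ⟨k, hk⟩ := hR.hyp.refl_conj_uu ha
      refine ⟨k, ?_⟩
      rw [← hk, mul_smul, mul_smul, inv_smul_smul, hfix]
  obtain ⟨k, hk⟩ := key r hr hx
  obtain ⟨k', hk'⟩ := key r' hr' hx'
  obtain ⟨g, hgt, -, e⟩ := hR.trans_uu hk hk'
  refine ⟨(f k')⁻¹ * g * f k, ?_, ?_⟩
  · exact Commute.mul_left (Commute.mul_left (Commute.inv_left (hR.hyp.tt_comm k')) hgt) (hR.hyp.tt_comm k)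
  · rw [mul_smul, mul_smul, e, inv_smul_smul]

end Rad

end CfsgLib.U3Cent
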