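import Cfsg.Agent.Lib.U3Cent.Label
import Cfsg.Agent.Lib.U3Cent.Transitive

/-!
# The inverted elements have slope zero
-/

set_option autoImplicit false
set_option linter.unusedSectionVars false
set_option linter.style.haveILetI false

namespace CfsgLib.U3Cent

open CfsgLib.PSUBorel

universe u v

variable {G : Type u} [Group G] [Finite G] [IsSimpleGroup G] {F : Type v} [Field F] [Fintype F] {c : Conj F}
variable {p n : ℕ} [hp : Fact p.Prime]

open Classical in
/-- The element of the radical of a point other than the base point. -/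
noncomputable def idx (f : W c →* G) (R : Subgroup G) (ω : Pts f) : G :=
  Classical.epsilon fun r => r ∈ R ∧ r • by0 f = ω

namespace Rad

variable {f : W c →* G} {R : Subgroup G} (hR : Rad p n f R) {π : G → F} {χ : Fˣ →* Fˣ} (hP : Proj f R π χ)
include hR

theorem idx_smul {r : G} (hr : r ∈ R) : idx f R (r • by0 f) = r := by
  obtain ⟨h1, h2⟩ := Classical.epsilon_spec (p := fun x => x ∈ R ∧ x • by0 f = r • by0 f) ⟨r, hr, rfl⟩
  exact hR.smul_inj h1 hr h2

theorem idx_off {ω : Pts f} (h : tt f • ω ≠ ω) :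
    idx f R ω ∈ R ∧ idx f R ω ∉ root f ∧ idx f R ω • by0 f = ω := by
  have hω : ω ≠ bx f := fun e => h (by rw [e, smul_bx]; exact bor_le_nrm f (tt_mem_bor f))
  obtain ⟨r, hr, rfl⟩ := hR.exists_smul hω
  rw [hR.idx_smul hr]
  exact ⟨hr, fun hx => h ((hR.mem_root_iff hr).mp hx), rfl⟩

theorem off_of_comm {g : G} (hg : g * tt f = tt f * g) {ω : Pts f} (h : tt f • ω ≠ ω) :
    tt f • g⁻¹ • ω ≠ g⁻¹ • ω := fun e => h (by
  have h' := congrArg (fun z => g • z) e
  simp only [smul_inv_smul] at h'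
  rwa [smul_smul, hg, mul_smul, smul_inv_smul] at h')

include hP

/-- The class of a point seen from the base point does not see its stabiliser. -/
theorem cls_bor {b : G} (hb : b ∈ bor f) {r : G} (hr : r ∈ R) (hx : r ∉ root f) :
    cl χ (π (idx f R (b • r • by0 f))) = cl χ (π r) := by
  obtain ⟨m, hm, rfl⟩ := hb
  obtain ⟨a, x, rfl⟩ := tri hm
  have hxr : f (up x) * r ∈ R := mul_mem (hR.root_le (mem_root.mpr ⟨x, rfl⟩)) hr
  have hw : f (dg a) * (f (up x) * r) * (f (dg a))⁻¹ ∈ R :=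
    hR.normal _ (bor_le_nrm f (tor_le_bor f (mem_tor.mpr ⟨a, rfl⟩))) _ hxr
  have e : f (dg a * up x) • r • by0 f = (f (dg a) * (f (up x) * r) * (f (dg a))⁻¹) • by0 f := by
    simp only [mul_smul, _root_.map_mul, hR.tor_by0 (inv_mem (mem_tor.mpr ⟨a, rfl⟩))]
  rw [e, hR.idx_smul hw, hP.equiv a _ hxr, hR.pi_root_mul hP hr, cl_mul χ a (hR.pi_ne hP hr hx)]

/-- There is a slope function of classes. -/
theorem exists_kk : ∃ κ : (Fˣ ⧸ χ.range) → F,
    ∀ y ∈ R, tt f * y * tt f = y⁻¹ → π y ≠ 0 → ss f y = κ (cl χ (π y)) := by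
  choose Y hY hY' hπ using fun u : Fˣ => hR.exists_rep hP (u : F)
  refine ⟨fun k => ss f (Y k.out), fun y hy hy' hy0 => ?_⟩
  refine (hR.ss_inverted_congr hP hy (hY _) hy' (hY' _) hy0 (by rw [hπ]; exact Units.ne_zero _) ?_).symm
  rw [hπ, cl_mk]
  exact (Quotient.out_eq _).symm

/-- The three slopes of a triple. -/
theorem kk_three {κ : (Fˣ ⧸ χ.range) → F}
    (hκ : ∀ y ∈ R, tt f * y * tt f = y⁻¹ → π y ≠ 0 → ss f y = κ (cl χ (π y))) {r : G} (hr : r ∈ R)
    (hx : r ∉ root f) :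
    κ (cl χ (π r)) + κ (cl χ (π (jr f R r⁻¹))) + κ (cl χ (π (jr f R r))) = 0 := by
  have hK : ∀ z ∈ R, z ∉ root f → ss f z + ss f z⁻¹ = 2 * κ (cl χ (π z)) := fun z hz hzx => by
    obtain ⟨y, hy, x, hy', e, hπ⟩ := hR.exists_split hP hz
    rw [hR.ss_add_inv hP hy hy' x e, hκ y hy hy' (by rw [hπ]; exact hR.pi_ne hP hz hzx), hπ]
  have hne : ∀ z, z ∉ root f → z⁻¹ ∉ root f ∧ z⁻¹ ≠ 1 := fun z hz =>
    ⟨fun h => hz (inv_mem_iff.mp h), fun h => hz (inv_eq_one.mp h ▸ one_mem _)⟩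
  obtain ⟨a, ha⟩ := hR.rot_three hr hx
  set r1 := jr f R r⁻¹
  have h1 : r1 ∈ R := (hR.jr_spec (inv_mem hr) (hne r hx).2).1
  have hx1 : r1 ∉ root f := hR.jr_not_root (inv_mem hr) (hne r hx).1
  set r2 := jr f R r1⁻¹
  have h2 : r2 ∈ R := (hR.jr_spec (inv_mem h1) (hne r1 hx1).2).1
  have hx2 : r2 ∉ root f := hR.jr_not_root (inv_mem h1) (hne r1 hx1).1
  set r3 := jr f R r2⁻¹ with hr3
  have h3 : r3 ∈ R := (hR.jr_spec (inv_mem h2) (hne r2 hx2).2).1
  have hx3 : r3 ∉ root f := hR.jr_not_root (inv_mem h2) (hne r2 hx2).1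
  have s1 : ss f r1 = -ss f r⁻¹ := hR.jr_ss (inv_mem hr) (hne r hx).1
  have s2 : ss f r2 = -ss f r1⁻¹ := hR.jr_ss (inv_mem h1) (hne r1 hx1).1
  have s3 : ss f r3 = -ss f r2⁻¹ := hR.jr_ss (inv_mem h2) (hne r2 hx2).1
  have hN : (a : F) * c.σ (a : F) ≠ 0 := mul_ne_zero a.ne_zero ((map_ne_zero c.σ).mpr a.ne_zero)
  have hs : ss f r3 = ss f r := by
    rw [ha, ss, ss, hR.ac_tor hr, map_mul, map_mul, c.invol, mul_comm (c.σ (a : F)), ← mul_sub, ← mul_add,
      mul_div_mul_left _ _ hN]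
  have hc : cl χ (π r3) = cl χ (π r) := by rw [ha, hP.equiv a r hr, cl_mul χ a (hR.pi_ne hP hr hx)]
  have hc2 : cl χ (π (jr f R r)) = cl χ (π r2) := by
    rw [← hR.jr_cl_congr hP h3 hr hx3 hx hc hs, hr3, hR.jr_jr (inv_mem h2) (hne r2 hx2).2, hR.cl_inv hP h2 hx2]
  rw [hc2]
  have e : (2 : F) * (κ (cl χ (π r)) + κ (cl χ (π r1)) + κ (cl χ (π r2))) = 0 := by
    linear_combination -(hK r hr hx) - (hK r1 h1 hx1) - (hK r2 h2 hx2) + s1 + s2 + s3 - hs
  exact (mul_eq_zero.mp e).resolve_left hR.hyp.two_ne'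

/-- The slopes over the exchanged coset sum to zero. -/
theorem kk_sum [Fintype (X0 c)] {κ : (Fˣ ⧸ χ.range) → F}
    (hκ : ∀ y ∈ R, tt f * y * tt f = y⁻¹ → π y ≠ 0 → ss f y = κ (cl χ (π y))) {r : G} (hr : r ∈ R)
    (hx : r ∉ root f) : ∑ x : X0 c, κ (cl χ (π (jr f R (f (up x) * r)))) = 0 := by
  obtain ⟨y, hy, x0, hy', e, hπ⟩ := hR.exists_split hP hr
  have hy0 : π y ≠ 0 := by rw [hπ]; exact hR.pi_ne hP hr hx
  have hmem : ∀ x : X0 c, f (up x) * y ∈ R := fun x => mul_mem (hR.root_le (mem_root.mpr ⟨x, rfl⟩)) hy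
  have hnr : ∀ x : X0 c, f (up x) * y ∉ root f := fun x h => hy0 (by
    rw [← hR.pi_root_mul hP hy x]; exact (hP.eq_zero _ (hmem x)).mpr h)
  have hshift : ∑ x : X0 c, κ (cl χ (π (jr f R (f (up x) * r)))) =
      ∑ x : X0 c, κ (cl χ (π (jr f R (f (up x) * y)))) := by
    refine Fintype.sum_equiv (Equiv.addRight x0) _ _ fun x => ?_
    rw [e, Equiv.coe_addRight, ← mul_assoc, ← _root_.map_mul, up_add]
  have hinv : ∀ x : X0 c, cl χ (π (jr f R (f (up x) * y)⁻¹)) = cl χ (π (jr f R (f (up (-x)) * y))) := by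
    intro x
    refine hR.jr_cl_congr hP (inv_mem (hmem x)) (hmem _) (fun h => hnr x (inv_mem_iff.mp h)) (hnr _) ?_ ?_
    · rw [hR.cl_inv hP (hmem x) (hnr x), hR.pi_root_mul hP hy, hR.pi_root_mul hP hy]
    · obtain ⟨h1, h2⟩ := hR.ac_inv hP hy hy' x rfl
      rw [ss, ss, h2, hR.ac_up_mul hy, AddSubgroup.coe_neg, ← sub_eq_add_neg]
  have h3 : ∑ x : X0 c, (κ (cl χ (π (f (up x) * y))) + κ (cl χ (π (jr f R (f (up x) * y)⁻¹))) +
      κ (cl χ (π (jr f R (f (up x) * y))))) = 0 :=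
    Finset.sum_eq_zero fun x _ => hR.kk_three hP hκ (hmem x) (hnr x)
  simp only [hR.pi_root_mul hP hy, hinv] at h3
  rw [Finset.sum_add_distrib, Finset.sum_add_distrib, Finset.sum_const, Finset.card_univ, ← Nat.card_eq_fintype_card,
    card_X0] at h3
  have hneg : ∑ x : X0 c, κ (cl χ (π (jr f R (f (up (-x)) * y)))) = ∑ x : X0 c, κ (cl χ (π (jr f R (f (up x) * y)))) :=
    Equiv.sum_comp (Equiv.neg (X0 c)) fun x => κ (cl χ (π (jr f R (f (up x) * y))))
  rw [hneg] at h3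
  rw [hshift]
  haveI := charP_of (c := c) hR.hq
  have hq0 : ((c.q : ℕ) : F) = 0 := by rw [hR.hq, Nat.cast_pow, CharP.cast_eq_zero, zero_pow hR.hn]
  rw [nsmul_eq_mul, hq0, zero_mul, zero_add, ← two_mul] at h3
  exact (mul_eq_zero.mp h3).resolve_left hR.hyp.two_ne'

/-- The slope function is constant. -/
theorem kk_const {κ : (Fˣ ⧸ χ.range) → F}
    (hκ : ∀ y ∈ R, tt f * y * tt f = y⁻¹ → π y ≠ 0 → ss f y = κ (cl χ (π y))) {r r' : G} (hr : r ∈ R)
    (hr' : r' ∈ R) (hx : r ∉ root f) (hx' : r' ∉ root f) : κ (cl χ (π r)) = κ (cl χ (π r')) := by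
  classical
  haveI := Fintype.ofFinite (X0 c)
  set C := Subgroup.centralizer ({tt f} : Set G)
  set B := (bor f).subgroupOf C
  haveI := Fintype.ofFinite (C ⧸ B)
  have hle : bor f ≤ C := fun x hx => Subgroup.mem_centralizer_singleton_iff.mpr (bor_comm hx hR.hyp)
  have hmemC : ∀ {g : G}, g ∈ C → g * tt f = tt f * g := fun h => Subgroup.mem_centralizer_singleton_iff.mp h
  let θ : {ω : Pts f // tt f • ω ≠ ω} → C ⧸ B → F := fun ω => Quotient.lift
    (fun g : C => κ (cl χ (π (idx f R ((g : G)⁻¹ • ω.1))))) fun g h hgh => by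
      have hb : (g : G)⁻¹ * h ∈ bor f := (QuotientGroup.leftRel_apply (s := B)).mp hgh
      obtain ⟨m1, m2, m3⟩ := hR.idx_off (hR.off_of_comm (hmemC g.2) ω.2)
      have e : (h : G)⁻¹ • ω.1 = ((g : G)⁻¹ * h)⁻¹ • idx f R ((g : G)⁻¹ • ω.1) • by0 f := by
        rw [m3, smul_smul]; congr 1; group
      show κ _ = κ _
      rw [e, hR.cls_bor hP (inv_mem hb) m1 m2]
  let rep : Option (X0 c) → C := fun z => z.elim 1 fun x =>
    ⟨f (up x * ww), Subgroup.mem_centralizer_singleton_iff.mpr (hR.hyp.tt_comm _)⟩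
  let φ : Option (X0 c) → C ⧸ B := fun z => QuotientGroup.mk (rep z)
  have hφ : Function.Bijective φ := by
    refine (Fintype.bijective_iff_injective_and_card φ).mpr ⟨fun z z' h => ?_, ?_⟩
    · have hb : (rep z : G)⁻¹ * rep z' ∈ bor f := Subgroup.mem_subgroupOf.mp (QuotientGroup.eq.mp h)
      have hfix : (rep z : G) • bx f = (rep z' : G) • bx f := by
        have h' := smul_bx.mpr (bor_le_nrm f hb)
        rw [mul_smul, inv_smul_eq_iff] at h'
        exact h'.symm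
      have hval : ∀ x : X0 c, (rep (some x) : G) • bx f = f (up x) • by0 f := fun x => by
        show f (up x * ww) • bx f = _
        rw [_root_.map_mul, mul_smul, ww_bx]
      have hone : (rep none : G) • bx f = bx f := one_smul _ _
      rcases z with _ | x <;> rcases z' with _ | x'
      · rfl
      · rw [hone, hval] at hfix
        exact absurd hfix.symm (hR.smul_ne_bx (hR.root_le (mem_root.mpr ⟨x', rfl⟩)))
      · rw [hone, hval] at hfix
        exact absurd hfix (hR.smul_ne_bx (hR.root_le (mem_root.mpr ⟨x, rfl⟩)))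
      · rw [hval, hval] at hfix
        have e := hR.smul_inj (hR.root_le (mem_root.mpr ⟨x, rfl⟩)) (hR.root_le (mem_root.mpr ⟨x', rfl⟩)) hfix
        have e' := hR.ac_root x
        rw [e, hR.ac_root x'] at e'
        rw [Subtype.ext e']
    · rw [Fintype.card_option, ← Nat.card_eq_fintype_card, card_X0, ← Nat.card_eq_fintype_card]
      have h := B.card_mul_index
      rw [Nat.card_congr (Subgroup.subgroupOfEquivOfLe hle).toEquiv, hR.hyp.card_cent_bor, mul_comm (c.q + 1)] at h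
      exact (Nat.eq_of_mul_eq_mul_left Nat.card_pos h).symm
  -- the sum over the fixed points of `tt`
  have hsum : ∀ {z : G} (hz : z ∈ R) (hzx : z ∉ root f),
      ∑ k, θ ⟨z • by0 f, fun e => hzx ((hR.mem_root_iff hz).mpr e)⟩ k = κ (cl χ (π z)) := by
    intro z hz hzx
    rw [← Fintype.sum_bijective φ hφ (fun i => θ ⟨z • by0 f, fun e => hzx ((hR.mem_root_iff hz).mpr e)⟩ (φ i)) _
      fun i => rfl, Fintype.sum_option]
    have h1 : θ ⟨z • by0 f, fun e => hzx ((hR.mem_root_iff hz).mpr e)⟩ (φ none) = κ (cl χ (π z)) := by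
      show κ (cl χ (π (idx f R (((1 : C) : G)⁻¹ • z • by0 f)))) = _
      rw [OneMemClass.coe_one, inv_one, one_smul, hR.idx_smul hz]
    have h2 : ∀ x : X0 c, θ ⟨z • by0 f, fun e => hzx ((hR.mem_root_iff hz).mpr e)⟩ (φ (some x)) =
        κ (cl χ (π (jr f R (f (up (-x)) * z)))) := fun x => by
      show κ (cl χ (π (idx f R ((f (up x * ww))⁻¹ • z • by0 f)))) = _
      have hm : f (up (-x)) * z ∈ R := mul_mem (hR.root_le (mem_root.mpr ⟨-x, rfl⟩)) hz
      have hm1 : f (up (-x)) * z ≠ 1 := fun e => hzx (by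
        rw [eq_inv_of_mul_eq_one_right e]; exact inv_mem (mem_root.mpr ⟨-x, rfl⟩))
      have hi : (f (up x * ww))⁻¹ = f ww * f (up (-x)) := by
        refine inv_eq_of_mul_eq_one_right ?_
        rw [← _root_.map_mul, ← _root_.map_mul, mul_assoc, ← mul_assoc ww ww, ww_sq, one_mul, up_add, add_neg_cancel,
          up_zero, map_one]
      rw [hi, mul_smul, smul_smul (f (up (-x))), (hR.jr_spec hm hm1).2.2.1, hR.idx_smul (hR.jr_spec hm hm1).1]
    rw [h1, Finset.sum_congr rfl fun x _ => h2 x,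
      show (∑ x : X0 c, κ (cl χ (π (jr f R (f (up (-x)) * z))))) = 0 from
        (Equiv.sum_comp (Equiv.neg (X0 c)) fun x => κ (cl χ (π (jr f R (f (up x) * z))))).trans
          (hR.kk_sum hP hκ hz hzx), add_zero]
  obtain ⟨g, hgt, hg⟩ := hR.trans_off hr hr' hx hx'
  rw [← hsum hr hx, ← hsum hr' hx']
  refine Fintype.sum_equiv (MulAction.toPerm (⟨g, Subgroup.mem_centralizer_singleton_iff.mpr hgt⟩ : C)) _ _ ?_
  intro k
  induction k using QuotientGroup.induction_on with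
  | H k =>
    show κ (cl χ (π (idx f R ((k : G)⁻¹ • r • by0 f)))) = κ (cl χ (π (idx f R ((g * k : G)⁻¹ • r' • by0 f))))
    rw [← hg, _root_.mul_inv_rev, mul_smul, inv_smul_smul]

omit hP in
theorem root_cube {x : G} (hx : x ∈ root f) (hp3 : p = 3) : x * x * x = 1 := by
  obtain ⟨b, rfl⟩ := mem_root.mp hx
  have h := congrArg f (hR.hyp.up_pow hR.hq hR.hn b)
  subst hp3
  rwa [pow_succ, pow_two, _root_.map_mul, _root_.map_mul, map_one] at h

/-- If `p = 3` the radical has an element of order three outside the root group. -/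
theorem exists_cube (hp3 : p = 3) : ∃ r ∈ R, r ∉ root f ∧ r * r * r = 1 := by
  classical
  have hcube : ∀ a b : R, ((a : G) * b) * (a * b) * (a * b) = ((a : G) * a * a) * ((b : G) * b * b) := by
    rintro ⟨a, ha⟩ ⟨b, hb⟩
    show a * b * (a * b) * (a * b) = a * a * a * (b * b * b)
    set z := b * a * b⁻¹ * a⁻¹ with hz
    have hzx : z ∈ root f := by
      have h := hR.comm_mem_root (inv_mem hb) (inv_mem ha)
      rwa [inv_inv, inv_inv] at h
    have hz3 : z * z * z = 1 := hR.root_cube hzx hp3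
    have hca : z * a = a * z := hR.root_central hzx ha
    have hcb : z * b = b * z := hR.root_central hzx hb
    have hba : b * a = z * (a * b) := by rw [hz]; group
    clear_value z
    have hcba : ∀ w, b * (a * w) = z * (a * (b * w)) := fun w => by rw [← mul_assoc b a w, hba, mul_assoc, mul_assoc]
    have ha' : ∀ w, a * (z * w) = z * (a * w) := fun w => by rw [← mul_assoc, ← hca, mul_assoc]
    have hb' : ∀ w, b * (z * w) = z * (b * w) := fun w => by rw [← mul_assoc, ← hcb, mul_assoc]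
    simp only [mul_assoc, hcba, ha', hb']
    rw [← mul_assoc z z, ← mul_assoc (z * z) z, hz3, one_mul]
  let φ : R →* root f := MonoidHom.mk' (fun a => ⟨(a : G) * a * a, (hP.eq_zero _ (mul_mem (mul_mem a.2 a.2) a.2)).mp
      (by
        rw [hP.map_mul _ (mul_mem a.2 a.2) _ a.2, hP.map_mul _ a.2 _ a.2]
        haveI := charP_of (c := c) hR.hq
        have h3 : (3 : F) = 0 := by
          have h := CharP.cast_eq_zero F p
          subst hp3
          simpa using h
        linear_combination (π a) * h3)⟩) fun a b => Subtype.ext (hcube a b)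
  have hker : Nat.card (root f) < Nat.card φ.ker := by
    have h := φ.ker.card_mul_index
    rw [Subgroup.index_ker, hR.card_R] at h
    have hle : Nat.card φ.range ≤ c.q := hR.hyp.card_root ▸ Subgroup.card_le_card_group _
    have h2 : c.q ^ 2 * c.q ≤ Nat.card φ.ker * c.q := by
      rw [← pow_succ, ← h]; exact Nat.mul_le_mul_left _ hle
    have h3 := Nat.le_of_mul_le_mul_right h2 (by have := one_lt_q hR.hyp.odd; omega)
    rw [hR.hyp.card_root]
    refine lt_of_lt_of_le ?_ h3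
    nlinarith [one_lt_q hR.hyp.odd]
  by_contra hno
  push Not at hno
  refine not_le.mpr hker (Nat.card_le_card_of_injective
    (fun a : φ.ker => (⟨((a : R) : G), by
      by_contra h
      exact hno _ (a : R).2 h (congrArg Subtype.val a.2)⟩ : root f))
    fun a b h => Subtype.ext (Subtype.ext (congrArg Subtype.val h :)))

/-- A rotation of order three of a triple gives a fixed label. -/
theorem exists_fixed_label (hp3 : p = 3) :
    ∃ r ∈ R, r ∉ root f ∧ ∃ a : Fˣ, jr f R r⁻¹ = f (dg a) * r * (f (dg a))⁻¹ := by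
  obtain ⟨r, hr, hx, h3⟩ := hR.exists_cube hP hp3
  have hne : r • by0 f ≠ by0 f := fun e => hx (hR.eq_one_of_fix hr e ▸ one_mem _)
  obtain ⟨g, g0, g1⟩ := hR.exists_move hne.symm
  have hr2 : r * r ∈ R := mul_mem hr hr
  have hr2ne : r * r ≠ 1 := fun e => hx (by rw [e, one_mul] at h3; rw [h3]; exact one_mem _)
  have hne2 : g • (r * r) • by0 f ≠ bx f := fun e => hr2ne (hR.eq_one_of_fix hr2 (by
    have h := congrArg (fun z => g⁻¹ • z) (e.trans g0.symm)
    simpa using h))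
  obtain ⟨r0, hr0, e0⟩ := hR.exists_smul hne2
  have hnr : r0 ∉ root f := by
    intro hr0x
    obtain ⟨u, hu, hu1, hu2, hu3, hu4⟩ : ∃ u : G, u * u = 1 ∧ u ≠ 1 ∧ u • by0 f = by0 f ∧ u • r • by0 f = r • by0 f ∧
        u • (r * r) • by0 f = (r * r) • by0 f := by
      have htr := (hR.mem_root_iff hr0).mp hr0x
      rw [e0] at htr
      refine ⟨g⁻¹ * tt f * g, ?_, fun e => hR.hyp.tt_ne ?_, ?_, ?_, ?_⟩
      · rw [show g⁻¹ * tt f * g * (g⁻¹ * tt f * g) = g⁻¹ * (tt f * tt f) * g by group, hR.hyp.tt_sq]; group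
      · calc tt f = g * (g⁻¹ * tt f * g) * g⁻¹ := by group
          _ = 1 := by rw [e]; group
      · rw [mul_smul, mul_smul, g0, smul_bx.mpr (bor_le_nrm f (tt_mem_bor f)), inv_smul_eq_iff, g0]
      · rw [mul_smul, mul_smul, g1, hR.tt_by0, inv_smul_eq_iff, g1]
      · rw [mul_smul, mul_smul, htr, inv_smul_smul]
    have hconj : r * u * r⁻¹ = u := by
      refine hR.inv_unique (fun e => hne ?_) ?_ ?_ hu hu1
        (a := r • by0 f) (b := (r * r) • by0 f) ?_ ?_ hu3 hu4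
      · rw [mul_smul] at e; exact (smul_left_cancel r e).symm
      · rw [show r * u * r⁻¹ * (r * u * r⁻¹) = r * (u * u) * r⁻¹ by group, hu]; group
      · exact fun e => hu1 (conj_eq_one_iff.mp e)
      · rw [mul_smul, mul_smul, inv_smul_smul, hu2]
      · rw [mul_smul, mul_smul, mul_smul r r, inv_smul_smul, hu3]
    have hru : Commute r u := mul_inv_eq_iff_eq_mul.mp hconj
    -- the base point is fixed by `u`
    have hubx : u • bx f = bx f := by
      by_contra hne'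
      have hfix : r • u • bx f = u • bx f := by
        rw [smul_smul, hru.eq, mul_smul, smul_bx.mpr (hR.R_le_nrm hr)]
      obtain ⟨z, hz, ez⟩ := hR.exists_smul hne'
      rw [← ez, smul_smul] at hfix
      exact hx (mul_right_cancel ((hR.smul_inj (mul_mem hr hz) hz hfix).trans (one_mul z).symm) ▸ one_mem _)
    obtain ⟨d, hd, hd'⟩ := hR.hyp.nrm_conj hR.hq hR.hn le_rfl (bor_le_nrm f (tt_mem_bor f)) (smul_bx.mp hubx) hu hu1
    have hrd : d * r * d⁻¹ ∈ root f := by
      rw [← hR.cent]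
      refine ⟨hR.normal d hd r hr, Subgroup.mem_centralizer_singleton_iff.mpr ?_⟩
      rw [← hd']
      exact (hru.map (MulAut.conj d)).eq
    obtain ⟨b, hb⟩ := mem_root.mp hrd
    obtain ⟨y, hy, bb, hbb, edec⟩ := hR.decomp d⁻¹ (inv_mem hd)
    obtain ⟨m, hm, rfl⟩ := hbb
    refine hx ?_
    have hrr : r = y * f m * f (up b) * (f m)⁻¹ * y⁻¹ := by
      rw [hb, show y * f m * (d * r * d⁻¹) * (f m)⁻¹ * y⁻¹ = (y * f m) * (d * r * d⁻¹) * (y * f m)⁻¹ by group, ← edec]
      group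
    rw [hrr]
    have hin : f m * f (up b) * (f m)⁻¹ ∈ root f :=
      (Subgroup.mem_normalizer_iff.mp (bor_le_nrm f ⟨m, hm, rfl⟩) _).mp (mem_root.mpr ⟨b, rfl⟩)
    rw [show y * f m * f (up b) * (f m)⁻¹ * y⁻¹ = y * (f m * f (up b) * (f m)⁻¹) * y⁻¹ by group,
      ← hR.root_central hin hy, mul_inv_cancel_right]
    exact hin
  refine ⟨r0, hr0, hnr, ?_⟩
  have hne0 : r0⁻¹ ≠ 1 := fun e => hnr (inv_eq_one.mp e ▸ one_mem _)
  obtain ⟨a1, b1, c1⟩ := hR.rot_step hr0 hne0
  set r' := g * r * g⁻¹ with hr'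
  have p1 : r' • bx f = by0 f := by rw [hr', mul_smul, mul_smul, inv_smul_eq_iff.mpr g0.symm, g1]
  have p2 : r' • by0 f = r0 • by0 f := by
    rw [hr', mul_smul, mul_smul, inv_smul_eq_iff.mpr g1.symm, e0, mul_smul r r]
  have p3 : r' • r0 • by0 f = bx f := by
    rw [hr', mul_smul, mul_smul, e0, inv_smul_smul, smul_smul r, ← mul_assoc, h3, one_smul, g0]
  have q1 : r'⁻¹ • bx f = r0 • by0 f := inv_smul_eq_iff.mpr p3.symm
  have q2 : r'⁻¹ • by0 f = bx f := inv_smul_eq_iff.mpr p1.symm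
  have q3 : r'⁻¹ • r0 • by0 f = by0 f := inv_smul_eq_iff.mpr p2.symm
  obtain ⟨a, ha⟩ := mem_tor.mp (hR.two_point (g := f ww * r0⁻¹ * r'⁻¹)
    (by rw [mul_smul, q1, b1]) (by rw [mul_smul, q2, a1]))
  refine ⟨a, hR.smul_inj (hR.jr_spec (inv_mem hr0) hne0).1
    (hR.normal _ (bor_le_nrm f (tor_le_bor f (mem_tor.mpr ⟨a, rfl⟩))) _ hr0) ?_⟩
  rw [mul_smul, hR.tor_by0 (inv_mem (mem_tor.mpr ⟨a, rfl⟩)), mul_smul, ha, mul_smul, q3, c1]

/-- The inverted elements have coordinate fixed by `σ`. -/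
theorem ac_fixed {y : G} (hy : y ∈ R) (hy' : tt f * y * tt f = y⁻¹) : c.σ (ac f y) = ac f y := by
  by_cases hy0 : π y = 0
  · have hyr := (hP.eq_zero y hy).mp hy0
    have h1 : y = 1 := by
      have := hR.inv_coset (one_mem R) hy' (by rw [mul_one, hR.hyp.tt_sq, inv_one]) (by simpa using hyr)
      exact this
    rw [h1, hR.ac_one, map_zero]
  obtain ⟨κ, hκ⟩ := hR.exists_kk hP
  have hyx : y ∉ root f := fun h => hy0 ((hP.eq_zero y hy).mpr h)
  have hne : ∀ z, z ∉ root f → z⁻¹ ∉ root f ∧ z⁻¹ ≠ 1 := fun z hz =>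
    ⟨fun h => hz (inv_mem_iff.mp h), fun h => hz (inv_eq_one.mp h ▸ one_mem _)⟩
  set K := κ (cl χ (π y)) with hK
  have hconst : ∀ z ∈ R, z ∉ root f → κ (cl χ (π z)) = K := fun z hz hzx => hR.kk_const hP hκ hz hy hzx hyx
  have h3 := hR.kk_three hP hκ hy hyx
  rw [hconst _ (hR.jr_spec (inv_mem hy) (hne y hyx).2).1 (hR.jr_not_root (inv_mem hy) (hne y hyx).1),
    hconst _ (hR.jr_spec hy (fun e => hyx (e ▸ one_mem _))).1 (hR.jr_not_root hy hyx), ← hK] at h3
  have hK0 : K = 0 := by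
    by_cases hp3 : p = 3
    · obtain ⟨r, hr, hx, a, ha⟩ := hR.exists_fixed_label hP hp3
      obtain ⟨z, hz, x, hz', e, hπ⟩ := hR.exists_split hP hr
      have hs := hR.jr_ss (inv_mem hr) (hne r hx).1
      have hN : (a : F) * c.σ (a : F) ≠ 0 := mul_ne_zero a.ne_zero ((map_ne_zero c.σ).mpr a.ne_zero)
      have hsa : ss f (f (dg a) * r * (f (dg a))⁻¹) = ss f r := by
        rw [ss, ss, hR.ac_tor hr, map_mul, map_mul, c.invol, mul_comm (c.σ (a : F)), ← mul_sub, ← mul_add,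
          mul_div_mul_left _ _ hN]
      rw [ha, hsa] at hs
      have hsum := hR.ss_add_inv hP hz hz' x e
      rw [hκ z hz hz' (by rw [hπ]; exact hR.pi_ne hP hr hx), hπ, hconst r hr hx] at hsum
      exact (mul_eq_zero.mp (show (2 : F) * K = 0 by linear_combination -hsum + hs)).resolve_left hR.hyp.two_ne'
    · refine (mul_eq_zero.mp (show (3 : F) * K = 0 by linear_combination h3)).resolve_left fun e => hp3 ?_
      haveI := charP_of (c := c) hR.hq
      have hd : p ∣ 3 := (CharP.cast_eq_zero_iff F p 3).mp (by exact_mod_cast e)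
      exact (Nat.prime_dvd_prime_iff_eq hp.out Nat.prime_three).mp hd
  have hs := hκ y hy hy' hy0
  rw [← hK, hK0, ss, div_eq_zero_iff] at hs
  exact (sub_eq_zero.mp (hs.resolve_right (hR.tr_ne hy hyx))).symm

end Rad

end CfsgLib.U3Cent
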