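import Cfsg.Agent.Lib.U3Cent.Count
import Cfsg.Agent.Lib.GU2Cent.SplitPrime

/-!
The axis at an odd prime dividing `q - 1`, `q ≡ 1 mod 4`: the diagonal torus and the reflection `refl 1`.
-/

set_option autoImplicit false
set_option linter.unusedSectionVars false
set_option linter.style.haveILetI false

namespace CfsgLib.U3Cent

open CfsgLib.PSUBorel

variable {G : Type*} [Group G] {F : Type*} [Field F] [Fintype F] {c : Conj F}

/-- A diagonal element lies in the torus. -/
theorem exists_dg {g : W c} (h1 : ent g 1 0 = 0) (h0 : ent g 0 1 = 0) : ∃ a : Fˣ, g = dg a := by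
  obtain ⟨a, x, rfl⟩ := tri h1
  refine ⟨a, ?_⟩
  simp [ent_mul] at h0
  rw [show x = 0 from h0, up_zero, mul_one]

theorem dg_mul (a b : Fˣ) : dg (c := c) (a * b) = dg a * dg b := map_mul dgHom a b

theorem dg_inv (a : Fˣ) : dg (c := c) a⁻¹ = (dg a)⁻¹ := map_inv dgHom a

theorem dg_zpow (a : Fˣ) (n : ℤ) : dg (c := c) (a ^ n) = dg a ^ n := map_zpow dgHom a n

theorem dg_comm (a b : Fˣ) : dg (c := c) a * dg b = dg b * dg a := by
  rw [← dg_mul, mul_comm, dg_mul]

/-- The reflection on the diagonal elements. -/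
theorem refl_dg (hq : Odd c.q) (a : Fˣ) :
    refl 1 * dg (c := c) a = dg (Units.map (c.σ : F →* F) a)⁻¹ * refl 1 := by
  rw [refl_one hq, mul_assoc, ww_dg, ← mul_assoc, neg_scal.comm, mul_assoc]

/-- The centre of the torus part. -/
theorem σ_unit (a : Fˣ) : Units.map (c.σ : F →* F) a = a ^ c.q := Units.ext (by simp [c.hσ])

namespace Hyp

variable {f : W c →* G} (hf : Hyp c f)
include hf

/-- A diagonal element in the kernel. -/
theorem dg_ker {z : Fˣ} (h : f (dg z) = 1) : z ^ (c.q + 1) = 1 ∧ Odd (orderOf z) := by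
  have hk : dg z ∈ f.ker := f.mem_ker.mpr h
  refine ⟨mem_nrmOne'.mp (mem_nrmOne.mpr (isScal_dg.mp (hf.kers _ hk))), ?_⟩
  rw [← orderOf_injective (dgHom : Fˣ →* W c) dgHom_inj z]
  exact hf.kero.of_dvd_nat (Subgroup.orderOf_dvd_natCard _ hk)

theorem uu_dg (a : Fˣ) : uu f * f (dg a) * (uu f)⁻¹ = f (dg (a ^ c.q)⁻¹) := by
  rw [uu, ← map_mul, ← map_inv, ← map_mul, refl_dg hf.odd, mul_inv_cancel_right, σ_unit]

/-- The torus is the centraliser of an element of it of order prime to `q + 1`. -/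
theorem tor_cent {a : Fˣ} (ha : a ^ (c.q + 1) ≠ 1) {x : G} :
    x ∈ tor f ↔ x * tt f = tt f * x ∧ x * f (dg a) = f (dg a) * x := by
  constructor
  · rintro ⟨b, rfl⟩
    refine ⟨hf.tt_comm _, ?_⟩
    show f (dg b) * f (dg a) = f (dg a) * f (dg b)
    rw [← map_mul f, dg_comm, map_mul]
  · rintro ⟨h1, h2⟩
    obtain ⟨g, rfl⟩ := hf.mem_cent.mp h1
    obtain ⟨e01, e10⟩ := of_comm_dg (fun h => ha (mem_nrmOne'.mp (mem_nrmOne.mpr (isScal_dg.mp h))))
      (hf.comm_iff.mp h2)
    obtain ⟨b, rfl⟩ := exists_dg e10 e01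
    exact mem_tor.mpr ⟨b, rfl⟩

/-- The normaliser of a cyclic group in the torus. -/
theorem tor_norm {a : Fˣ} (ha : a ^ (c.q + 1) ≠ 1) {x : G} (h1 : x * tt f = tt f * x)
    (h2 : x * f (dg a) * x⁻¹ ∈ Subgroup.zpowers (f (dg a))) : x ∈ tor f ∨ x * uu f ∈ tor f := by
  obtain ⟨g, rfl⟩ := hf.mem_cent.mp h1
  obtain ⟨i, hi⟩ := Subgroup.mem_zpowers_iff.mp h2
  have hker : g * dg a * g⁻¹ * (dg a ^ i)⁻¹ ∈ f.ker :=
    f.mem_ker.mpr (by rw [map_mul, map_mul, map_mul, map_inv, map_inv, map_zpow, hi]; group)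
  obtain ⟨z, hz⟩ := MonoidHom.mem_range.mp (hf.ker_le_dg hker)
  set b := z * a ^ i with hb
  have e : g * dg a = dg b * g := by
    rw [hb, dg_mul, dg_zpow, show dg (c := c) z = _ from hz]; group
  have hne : (a : F) * c.σ (a : F) ≠ 1 := fun h => ha (mem_nrmOne'.mp (mem_nrmOne.mpr h))
  have e00 : ent g 0 0 * a = (b : F) * ent g 0 0 := by
    simpa [ent_mul] using congrArg (fun k => ent k 0 0) e
  have e01 : ent g 0 1 * (c.σ (a : F))⁻¹ = (b : F) * ent g 0 1 := by
    simpa [ent_mul] using congrArg (fun k => ent k 0 1) e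
  have e10 : ent g 1 0 * a = (c.σ (b : F))⁻¹ * ent g 1 0 := by
    simpa [ent_mul] using congrArg (fun k => ent k 1 0) e
  have e11 : ent g 1 1 * (c.σ (a : F))⁻¹ = (c.σ (b : F))⁻¹ * ent g 1 1 := by
    simpa [ent_mul] using congrArg (fun k => ent k 1 1) e
  have ha0 : c.σ (a : F) ≠ 0 := (map_ne_zero c.σ).mpr a.ne_zero
  have hsub : (a : F) - (c.σ (a : F))⁻¹ ≠ 0 := fun h => hne (by
    rw [sub_eq_zero.mp h, map_inv₀, c.invol, inv_mul_eq_one₀ ha0]
    have := congrArg c.σ (sub_eq_zero.mp h)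
    rw [map_inv₀, c.invol] at this
    rw [this])
  rcases eq_or_ne (ent g 0 0) 0 with h00 | h00
  · have h1' := eq1 g
    rw [h00, zero_mul, zero_add] at h1'
    have hb' : (c.σ (a : F))⁻¹ = b := mul_left_cancel₀ (left_ne_zero_of_mul_eq_one h1') (by linear_combination e01)
    have h11 : ent g 1 1 = 0 := by
      rw [← hb', map_inv₀, inv_inv, c.invol] at e11
      exact (mul_eq_zero.mp (show ent g 1 1 * ((a : F) - (c.σ (a : F))⁻¹) = 0 by
        linear_combination -e11)).resolve_right hsub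
    obtain ⟨d, hd⟩ := exists_dg (g := g * refl 1)
      (by rw [refl_one hf.odd]; simp [ent_mul, neg_ent, h11])
      (by rw [refl_one hf.odd]; simp [ent_mul, neg_ent, h00])
    exact Or.inr (mem_tor.mpr ⟨d, by rw [← hd, map_mul]; rfl⟩)
  · have hb' : (a : F) = b := mul_left_cancel₀ h00 (by linear_combination e00)
    rw [← hb'] at e01 e10
    have h01 : ent g 0 1 = 0 := (mul_eq_zero.mp (show ent g 0 1 * ((a : F) - (c.σ (a : F))⁻¹) = 0 by
      linear_combination -e01)).resolve_right hsub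
    have h10 : ent g 1 0 = 0 := (mul_eq_zero.mp (show ent g 1 0 * ((a : F) - (c.σ (a : F))⁻¹) = 0 by
      linear_combination e10)).resolve_right hsub
    obtain ⟨d, rfl⟩ := exists_dg h10 h01
    exact Or.inl (mem_tor.mpr ⟨d, rfl⟩)

variable [Finite G]

/-- An `l`-subgroup of the centraliser is cyclic for `l` prime to `q (q + 1)`. -/
theorem l_cyclic {l : ℕ} [hl : Fact l.Prime] (hlq : ¬ l ∣ c.q * (c.q + 1)) {P : Subgroup G} (hP : IsPGroup l P)
    (hPt : ∀ x ∈ P, x * tt f = tt f * x) : IsCyclic P := by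
  set C := Subgroup.centralizer ({tt f} : Set G)
  have hTC : tor f ≤ C := fun x hx => by
    obtain ⟨b, rfl⟩ := mem_tor.mp hx
    exact Subgroup.mem_centralizer_singleton_iff.mpr (hf.tt_comm _)
  haveI hcyc : IsCyclic ((tor f).subgroupOf C) := by
    haveI : IsCyclic (tor f) := isCyclic_of_surjective _ (f.comp dgHom).rangeRestrict_surjective
    exact isCyclic_of_surjective _ (Subgroup.subgroupOfEquivOfLe hTC).symm.surjective
  have hidx : ((tor f).subgroupOf C).index = c.q * (c.q + 1) := by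
    have h1 := ((tor f).subgroupOf C).card_mul_index
    rw [Nat.card_congr (Subgroup.subgroupOfEquivOfLe hTC).toEquiv] at h1
    have h2 := hf.card_cent'
    rw [← h1, mul_right_comm, hf.card_tor] at h2
    refine Nat.eq_of_mul_eq_mul_left (Nat.sub_pos_of_lt (Nat.one_lt_pow two_ne_zero ?_) : 0 < c.q ^ 2 - 1) ?_
    · have := one_lt_q (c := c) hf.odd; omega
    · rw [h2]; ring
  obtain ⟨R⟩ : Nonempty (Sylow l ((tor f).subgroupOf C)) := inferInstance
  let R' : Sylow l C := Sylow.ofCard ((R : Subgroup _).map ((tor f).subgroupOf C).subtype) (by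
    rw [Subgroup.card_map_of_injective (Subgroup.subtype_injective _), R.card_eq_multiplicity,
      ← ((tor f).subgroupOf C).card_mul_index, Nat.factorization_mul Nat.card_pos.ne' Subgroup.index_ne_zero_of_finite,
      Finsupp.add_apply, Nat.factorization_eq_zero_of_not_dvd (hidx ▸ hlq : ¬ l ∣ ((tor f).subgroupOf C).index),
      add_zero])
  haveI : IsCyclic ↥(R' : Subgroup C) :=
    Subgroup.isCyclic_of_le (Subgroup.map_subtype_le (R : Subgroup ((tor f).subgroupOf C)) :
      (R' : Subgroup C) ≤ (tor f).subgroupOf C)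
  have hPC : P ≤ C := fun x hx => Subgroup.mem_centralizer_singleton_iff.mpr (hPt x hx)
  obtain ⟨S, hS⟩ := (hP.comap_subtype (K := C)).exists_le_sylow
  obtain ⟨y, hy⟩ := MulAction.exists_smul_eq C R' S
  haveI : IsCyclic ↥(S : Subgroup C) := by
    rw [← hy]
    exact isCyclic_of_surjective _ (R'.equivSMul y).surjective
  haveI : IsCyclic ↥(P.subgroupOf C) := Subgroup.isCyclic_of_le hS
  exact isCyclic_of_surjective _ (Subgroup.subgroupOfEquivOfLe hPC).surjective

variable [IsSimpleGroup G]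

/-- An odd prime dividing `q - 1` does not divide the index, for `q ≡ 1 mod 4`. -/
theorem split_not_dvd (h4 : c.q % 4 = 1) (hM : Odd (Subgroup.centralizer ({tt f} : Set G)).index) {l : ℕ}
    (hlp : l.Prime) (hl2 : l ≠ 2) (hld : l ∣ c.q - 1) :
    ¬ l ∣ (Subgroup.centralizer ({tt f} : Set G)).index := by
  classical
  haveI : Fact l.Prime := ⟨hlp⟩
  have hq3 := one_lt_q (c := c) hf.odd
  obtain ⟨g, hg⟩ := IsCyclic.exists_ofOrder_eq_natCard (α := Fˣ)
  rw [card_units_q (c := c)] at hg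
  -- the powers of two in `q - 1` and `q + 1`
  obtain ⟨s, m, hm, hsm⟩ : ∃ s m, Odd m ∧ c.q - 1 = 2 ^ s * m := by
    obtain ⟨s, m, hm, hsm⟩ := Nat.exists_eq_pow_mul_and_not_dvd (show c.q - 1 ≠ 0 by omega) 2 (by norm_num)
    exact ⟨s, m, Nat.odd_iff.mpr (Nat.two_dvd_ne_zero.mp hm), hsm⟩
  have hs2 : 2 ≤ s := by
    by_contra hlt
    obtain ⟨k, rfl⟩ := hm
    interval_cases s <;> omega
  obtain ⟨m', hm', hqm⟩ : ∃ m', Odd m' ∧ c.q + 1 = 2 * m' :=
    ⟨(c.q + 1) / 2, Nat.odd_iff.mpr (by omega), by omega⟩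
  have hN : c.q ^ 2 - 1 = 2 ^ (s + 1) * (m * m') := by
    rw [show c.q ^ 2 - 1 = (c.q + 1) * (c.q - 1) by rw [← Nat.sq_sub_sq, one_pow], hsm, hqm, pow_succ]; ring
  have hN0 : 0 < m * m' := Nat.pos_of_ne_zero fun e => by
    rcases Nat.mul_eq_zero.mp e with e | e
    · exact absurd e hm.pos.ne'
    · exact absurd e hm'.pos.ne'
  set ε := g ^ (m * m') with hε
  have hεo : orderOf ε = 2 ^ (s + 1) := by
    rw [hε, orderOf_pow_of_dvd hN0.ne' (hg ▸ hN ▸ dvd_mul_left _ _), hg, hN, Nat.mul_div_cancel _ hN0]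
  have hεneg : ((ε ^ 2 ^ s : Fˣ) : F) = -1 := by
    have h1 : ((ε ^ 2 ^ s : Fˣ) : F) * ((ε ^ 2 ^ s : Fˣ) : F) = 1 := by
      rw [← Units.val_mul, ← pow_add, ← two_mul, ← pow_succ', ← hεo, pow_orderOf_eq_one, Units.val_one]
    refine (mul_self_eq_one_iff.mp h1).resolve_left fun h => ?_
    have h' := Nat.le_of_dvd (by positivity) (orderOf_dvd_of_pow_eq_one (Units.ext (h.trans Units.val_one.symm) : ε ^ 2 ^ s = 1))
    rw [hεo, pow_succ] at h'
    have := Nat.two_pow_pos s
    omega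
  have hεq : ε ^ (c.q - 1) = -1 := by
    refine Units.ext ?_
    rw [hsm, pow_mul, Units.val_pow_eq_pow_val, hεneg, hm.neg_one_pow, Units.val_neg, Units.val_one]
  -- the element of order `l`
  obtain ⟨k, hk⟩ := hld
  obtain ⟨k', hk'⟩ : l ∣ c.q ^ 2 - 1 := by
    rw [show c.q ^ 2 - 1 = (c.q + 1) * (c.q - 1) by rw [← Nat.sq_sub_sq, one_pow], hk]
    exact (dvd_mul_right l k).mul_left _
  set a := g ^ k' with ha
  have hao : orderOf a = l := by
    have hk0 : k' ≠ 0 := fun e => by rw [e, mul_zero] at hk'; nlinarith [Nat.sub_eq_zero_iff_le.mp hk']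
    rw [ha, orderOf_pow_of_dvd hk0 (hg ▸ hk' ▸ dvd_mul_left _ _), hg, hk', Nat.mul_div_cancel _ (Nat.pos_of_ne_zero hk0)]
  have hlq1 : ¬ l ∣ c.q + 1 := fun h => by
    have := Nat.dvd_sub h (Dvd.intro k hk.symm)
    rw [show c.q + 1 - (c.q - 1) = 2 by omega, Nat.prime_dvd_prime_iff_eq hlp Nat.prime_two] at this
    exact hl2 this
  have hlq : ¬ l ∣ c.q * (c.q + 1) := fun h => by
    rcases hlp.dvd_mul.mp h with h | h
    · have := Nat.dvd_sub h (Dvd.intro k hk.symm)
      rw [show c.q - (c.q - 1) = 1 by omega, Nat.dvd_one] at this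
      exact hlp.ne_one this
    · exact hlq1 h
  have haq : a ^ (c.q + 1) ≠ 1 := fun h => hlq1 (hao ▸ orderOf_dvd_of_pow_eq_one h)
  have haσ : a ^ c.q = a := by
    have : a ^ (c.q - 1) = 1 := orderOf_dvd_iff_pow_eq_one.mp (hao ▸ Dvd.intro k hk.symm)
    calc a ^ c.q = a ^ (c.q - 1) * a := by rw [← pow_succ, show c.q - 1 + 1 = c.q by omega]
      _ = a := by rw [this, one_mul]
  have htor : ∀ {b : Fˣ}, f (dg b) ∈ tor f := fun {b} => mem_tor.mpr ⟨b, rfl⟩
  have hord : orderOf (f (dg a)) = l := orderOf_eq_prime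
    (by rw [← map_pow, ← map_pow, orderOf_dvd_iff_pow_eq_one.mp hao.dvd, map_one, map_one])
    fun h => haq (hf.dg_ker h).1
  have hτ : orderOf (f (dg ε)) = 2 ^ (s + 1) := by
    haveI : Fact (Nat.Prime 2) := ⟨Nat.prime_two⟩
    refine orderOf_eq_prime_pow (fun h => ?_)
      (by rw [← map_pow, ← map_pow, ← hεo, pow_orderOf_eq_one, map_one, map_one])
    rw [← map_pow, ← map_pow] at h
    have ho := (hf.dg_ker h).2
    rw [show ε ^ 2 ^ s = -1 from Units.ext (by rw [hεneg, Units.val_neg, Units.val_one])] at ho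
    have h2 : orderOf (-1 : Fˣ) = 2 := orderOf_eq_prime (by simp) fun e =>
      hf.two_ne' (by
        have e' := congrArg Units.val e
        rw [Units.val_neg, Units.val_one] at e'
        linear_combination -e')
    rw [h2] at ho
    exact absurd ho (by decide)
  let H : GU2Cent.Axis G l :=
    { t := tt f
      v := uu f
      h := f (dg a)
      τ := f (dg ε)
      T := tor f
      c := s + 1
      hc := by omega
      tt := hf.tt_sq
      t_ne := hf.tt_ne
      vv := hf.uu_sq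
      tv := hf.uu_comm.symm
      hord := hord
      ht := hf.tt_comm _
      vh := by rw [hf.uu_dg, haσ, dg_inv, map_inv]
      memT := fun x => hf.tor_cent haq
      Tcomm := fun x hx y hy => by
        obtain ⟨i, rfl⟩ := mem_tor.mp hx
        obtain ⟨j, rfl⟩ := mem_tor.mp hy
        show f (dg i) * f (dg j) = f (dg j) * f (dg i)
        rw [← map_mul f, dg_comm, map_mul]
      τT := htor
      τord := hτ
      τt := by
        rw [← map_pow, ← map_pow]
        exact congrArg f (congrArg dg (Units.ext (by simpa using hεneg)))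
      vτ := by
        rw [hf.uu_dg, show ε ^ c.q = ε * -1 by rw [← hεq, ← pow_succ', show c.q - 1 + 1 = c.q by omega],
          show (ε * -1 : Fˣ)⁻¹ = ε⁻¹ * -1 by simp [mul_inv_rev], dg_mul, map_mul, dg_inv, map_inv]
        rfl
      Tdec := fun x hx => by
        obtain ⟨b, rfl⟩ := mem_tor.mp hx
        have hM' : Odd (m * m') := hm.mul hm'
        have hεM : orderOf (ε ^ (m * m')) = 2 ^ (s + 1) := by
          rw [Nat.Coprime.orderOf_pow (by rw [hεo]; exact (Nat.coprime_two_left.mpr hM').pow_left _), hεo]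
        have hb : (b ^ (m * m'))⁻¹ ∈ Subgroup.zpowers (ε ^ (m * m')) :=
          GU2Cent.mem_zpowers_of_cyclic (P := (⊤ : Subgroup Fˣ)) inferInstance trivial trivial hεM (by
            rw [inv_pow, ← pow_mul, mul_comm, ← hN, ← card_units_q (c := c), pow_card_eq_one', inv_one])
        obtain ⟨i, hi⟩ := (Submonoid.mem_powers_iff _ _).mp ((mem_powers_iff_mem_zpowers).mpr hb)
        refine ⟨i, ?_⟩
        rw [← map_pow, ← map_pow, ← map_mul, ← map_mul]
        refine hM'.of_dvd_nat ((orderOf_map_dvd (f.comp dgHom) _).trans (orderOf_dvd_of_pow_eq_one ?_))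
        rw [mul_pow, ← pow_mul, mul_comm i, pow_mul, hi, inv_mul_cancel]
      norm := fun x h1 h2 => hf.tor_norm haq h1 h2
      cyc := fun P hP hPt => hf.l_cyclic hlq hP hPt
      exact2 := fun h => by
        have h1 : 2 ^ (s + 3) ∣ Nat.card (Subgroup.centralizer ({tt f} : Set G)) *
            (Subgroup.centralizer ({tt f} : Set G)).index := by rw [Subgroup.card_mul_index]; exact h
        have h2 := (((Nat.coprime_two_left.mpr hM).pow_left _).dvd_of_dvd_mul_right h1).mul_right (Nat.card f.ker)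
        rw [hf.card_cent', hN, hqm, show c.q * (2 * m' * (2 ^ (s + 1) * (m * m'))) =
          2 ^ (s + 2) * (c.q * m' * (m * m')) by rw [pow_succ 2 (s + 1)]; ring] at h2
        rw [pow_succ 2 (s + 2), Nat.mul_dvd_mul_iff_left (Nat.two_pow_pos _)] at h2
        exact Nat.not_even_iff_odd.mpr ((hf.odd.mul hm').mul (hm.mul hm')) (even_iff_two_dvd.mpr h2)
      swap := hf.exists_swap }
  exact H.not_dvd_index hl2

end Hyp

end CfsgLib.U3Cent
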